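import Cfsg.Agent.Lib.Leech.Digits

/-!
Numbers of short lattice vectors in terms of the weight enumerator of the code.
-/
set_option autoImplicit false

namespace Cfsg.Agent.Leech

open Cfsg

/-- Possible coordinate values of absolute value at most 8 in the class of `m + 2·bit`. -/
def coordVals (m : ℤ) (b : Bool) : List ℤ :=
  if m = 0 then (if b then [2, -2, 6, -6] else [0, 4, -4, 8, -8])
  else (if b then [-1, 3, -5, 7] else [1, -3, 5, -7])

/-- The value lists attached to a coset. -/
def cosetVals (m : ℤ) (c : Finset GolayPt) (i : GolayPt) : List ℤ := coordVals m (decide (i ∈ c))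

/-- The value lists of a coset along an enumeration starting with the codeword. -/
def classList (m : ℤ) (k : ℕ) : List (List ℤ) :=
  List.replicate k (coordVals m true) ++ List.replicate (24 - k) (coordVals m false)

/-- The number of vectors of norm `n` in the coset of a word of weight `k`. -/
def cosetCount (m : ℤ) (n k : ℕ) : ℕ :=
  tblCount (classList m k) (if m = 0 then 0 else 4) n

theorem coordVals_nodup (m : ℤ) (b : Bool) : (coordVals m b).Nodup ∧ (coordVals m b).length ≤ 5 := by
  rcases b <;> by_cases h : m = 0 <;> simp [coordVals, h] <;> decide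

theorem abs_le_eight {x : GolayPt → ℤ} (hn : sqNorm x ≤ 80) (i : GolayPt) :
    -8 ≤ x i ∧ x i ≤ 8 := by
  have h : x i ^ 2 ≤ sqNorm x :=
    Finset.single_le_sum (f := fun j => x j ^ 2) (fun j _ => sq_nonneg (x j)) (Finset.mem_univ i)
  constructor <;> by_contra hh <;> nlinarith

/-- The vectors of norm `n` in the coset given by `m` and `c`. -/
def cosetVecs (m : ℤ) (c : Finset GolayPt) (n : ℕ) : Finset (GolayPt → ℤ) :=
  (vecs (cosetVals m c) Finset.univ).filter fun x =>
    ((∑ i, x i) % 8).toNat = (if m = 0 then 0 else 4) ∧ (sqNorm x).natAbs = n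

theorem mem_cosetVecs {m : ℤ} (hm : m = 0 ∨ m = 1) {c : Finset GolayPt} {n : ℕ} (hn : n ≤ 80)
    {x : GolayPt → ℤ} : x ∈ cosetVecs m c n ↔ IsLVec m c x ∧ sqNorm x = n := by
  simp only [cosetVecs, Finset.mem_filter, mem_vecs_univ, cosetVals, coordVals]
  constructor
  · rintro ⟨hv, hs, hN⟩
    have := sqNorm_nonneg x
    refine ⟨⟨fun i => ?_, ?_⟩, by omega⟩
    · have h := hv i
      rcases hm with rfl | rfl <;> by_cases hi : i ∈ c <;> simp [hi, bit] at h ⊢ <;> omega
    · rcases hm with rfl | rfl <;> simp at hs ⊢ <;> omega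
  · rintro ⟨⟨h4, h8⟩, hN⟩
    refine ⟨fun i => ?_, ?_, by omega⟩
    · have hb := abs_le_eight (x := x) (by omega) i
      have h := h4 i
      rcases hm with rfl | rfl <;> by_cases hi : i ∈ c <;> simp [hi, bit] at h ⊢ <;> omega
    · rcases hm with rfl | rfl <;> simp at h8 ⊢ <;> omega

/-- An enumeration of the points starting with a given set. -/
noncomputable def enumFrom (c : Finset GolayPt) : List GolayPt := c.toList ++ cᶜ.toList

theorem enumFrom_nodup (c : Finset GolayPt) : (enumFrom c).Nodup :=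
  List.nodup_append'.2 ⟨c.nodup_toList, cᶜ.nodup_toList, fun a h1 h2 => by simp_all⟩

theorem enumFrom_toFinset (c : Finset GolayPt) : (enumFrom c).toFinset = Finset.univ := by
  simp [enumFrom]

theorem map_enumFrom (m : ℤ) (c : Finset GolayPt) :
    (enumFrom c).map (cosetVals m c) = classList m c.card := by
  rw [enumFrom, List.map_append, classList]
  congr 1 <;> refine List.eq_replicate_iff.2 ⟨?_, ?_⟩
  · simp
  · intro b hb
    obtain ⟨i, hi, rfl⟩ := List.mem_map.1 hb
    simp [cosetVals, Finset.mem_toList.1 hi]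
  · simp [Finset.card_compl]
  · intro b hb
    obtain ⟨i, hi, rfl⟩ := List.mem_map.1 hb
    simp [cosetVals, Finset.mem_compl.1 (Finset.mem_toList.1 hi)]

theorem card_cosetVecs (m : ℤ) (c : Finset GolayPt) (n : ℕ) :
    (cosetVecs m c n).card = cosetCount m n c.card := by
  rw [cosetVecs, card_vecs_eq_tblCount (cosetVals m c) (fun i => (coordVals_nodup _ _).1)
    (fun i => (coordVals_nodup _ _).2) (enumFrom_nodup c) (enumFrom_toFinset c) _ _
    (by split_ifs <;> omega), map_enumFrom, cosetCount]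

theorem isLVec_unique {m n : ℤ} (hm : m = 0 ∨ m = 1) (hn : n = 0 ∨ n = 1)
    {c d : Finset GolayPt} {x : GolayPt → ℤ} (h1 : IsLVec m c x) (h2 : IsLVec n d x) :
    m = n ∧ c = d := by
  have e : m = n := by
    have a := h1.1 none
    have b := h2.1 none
    simp only [bit] at a b
    split_ifs at a b <;> omega
  refine ⟨e, Finset.ext fun i => ?_⟩
  have a := h1.1 i
  have b := h2.1 i
  simp only [bit] at a b
  by_cases p : i ∈ c <;> by_cases q : i ∈ d <;> simp [p, q] at a b ⊢ <;> omega

/-- The lattice vectors of a given norm. -/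
def shell (n : ℤ) : Set (GolayPt → ℤ) := {x | x ∈ leechLattice ∧ sqNorm x = n}

theorem ncard_shell (n : ℕ) (hn : n ≤ 80) (hw : ∀ c ∈ code, c.card ∈ [0, 8, 12, 16, 24])
    (h8 : octads.ncard = 759) (h12 : dodecads.ncard = 2576) :
    (shell (n : ℤ)).ncard =
      (cosetCount 0 n 0 + cosetCount 1 n 0) + 759 * (cosetCount 0 n 8 + cosetCount 1 n 8) +
      2576 * (cosetCount 0 n 12 + cosetCount 1 n 12) +
      759 * (cosetCount 0 n 16 + cosetCount 1 n 16) +
      (cosetCount 0 n 24 + cosetCount 1 n 24) := by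
  classical
  have hfin : code.Finite := Set.toFinite _
  set C := hfin.toFinset with hC
  have hmem : ∀ c, c ∈ C ↔ c ∈ code := fun c => hfin.mem_toFinset
  have e : shell (n : ℤ) =
      (((({0, 1} : Finset ℤ) ×ˢ C).biUnion fun p => cosetVecs p.1 p.2 n : Finset _) : Set _) := by
    ext x
    simp only [shell, Set.mem_setOf_eq, Finset.mem_coe, Finset.mem_biUnion, Finset.mem_product,
      Finset.mem_insert, Finset.mem_singleton]
    constructor
    · rintro ⟨hx, hN⟩
      obtain ⟨m, hm, c, hc, h⟩ := exists_normal_form hx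
      exact ⟨(m, c), ⟨hm, (hmem c).2 hc⟩, (mem_cosetVecs hm hn).2 ⟨h, hN⟩⟩
    · rintro ⟨p, ⟨hp, hpC⟩, hx⟩
      obtain ⟨h, hN⟩ := (mem_cosetVecs hp hn).1 hx
      exact ⟨mem_lattice_iff.2 ⟨_, _, (hmem _).1 hpC, h⟩, hN⟩
  have hdisj : ((({0, 1} : Finset ℤ) ×ˢ C : Finset _) : Set (ℤ × Finset GolayPt)).PairwiseDisjoint
      (fun p => cosetVecs p.1 p.2 n) := by
    intro p hp q hq hne
    simp only [Finset.mem_coe, Finset.mem_product, Finset.mem_insert, Finset.mem_singleton]
      at hp hq
    refine Finset.disjoint_left.2 fun x hx1 hx2 => hne ?_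
    have := isLVec_unique hp.1 hq.1 ((mem_cosetVecs hp.1 hn).1 hx1).1
      ((mem_cosetVecs hq.1 hn).1 hx2).1
    exact Prod.ext this.1 this.2
  rw [e, Set.ncard_coe_finset, Finset.card_biUnion hdisj, Finset.sum_product]
  simp only [card_cosetVecs, Finset.sum_insert (by decide : (0 : ℤ) ∉ ({1} : Finset ℤ)),
    Finset.sum_singleton, ← Finset.sum_add_distrib]
  have hmaps : ∀ c ∈ C, c.card ∈ ({0, 8, 12, 16, 24} : Finset ℕ) := fun c hc => by
    simpa using hw c ((hmem c).1 hc)
  have hfib : ∀ k, {c ∈ C | c.card = k}.card = (wordsOfWeight (golayCode : Set (GolayPt → ZMod 2)) k).ncard := by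
    intro k
    rw [← Set.ncard_coe_finset]
    congr 1
    ext c
    simp only [Finset.coe_filter, Set.mem_setOf_eq, hmem, wordsOfWeight]
  have hcomp : ∀ k, k ≤ 24 → (wordsOfWeight (golayCode : Set (GolayPt → ZMod 2)) (24 - k)).ncard =
      (wordsOfWeight (golayCode : Set (GolayPt → ZMod 2)) k).ncard := by
    intro k hk
    rw [← Set.ncard_image_of_injective (wordsOfWeight (golayCode : Set (GolayPt → ZMod 2)) k) compl_injective]
    congr 1
    ext c
    simp only [wordsOfWeight, Set.mem_image, Set.mem_setOf_eq]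
    constructor
    · rintro ⟨h1, h2⟩
      refine ⟨cᶜ, ⟨compl_mem_code h1, ?_⟩, compl_compl c⟩
      simp [Finset.card_compl, h2]; omega
    · rintro ⟨d, ⟨h1, h2⟩, rfl⟩
      exact ⟨compl_mem_code h1, by simp [Finset.card_compl, h2]⟩
  have h0 : (wordsOfWeight (golayCode : Set (GolayPt → ZMod 2)) 0).ncard = 1 := by
    rw [Set.ncard_eq_one]
    refine ⟨∅, Set.ext fun c => ?_⟩
    simp only [wordsOfWeight, Set.mem_setOf_eq, Finset.card_eq_zero, Set.mem_singleton_iff]
    exact ⟨fun h => h.2, fun h => ⟨h ▸ empty_mem_code, h⟩⟩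
  have h16 : (wordsOfWeight (golayCode : Set (GolayPt → ZMod 2)) 16).ncard = 759 :=
    (hcomp 8 (by norm_num)).trans h8
  have h24 : (wordsOfWeight (golayCode : Set (GolayPt → ZMod 2)) 24).ncard = 1 :=
    (hcomp 0 (by norm_num)).trans h0
  rw [← Finset.sum_fiberwise_of_maps_to' hmaps (fun k => cosetCount 0 n k + cosetCount 1 n k)]
  simp only [Finset.sum_const, smul_eq_mul, hfib]
  rw [Finset.sum_insert (by decide), Finset.sum_insert (by decide), Finset.sum_insert (by decide),
    Finset.sum_insert (by decide), Finset.sum_singleton, h0, h16, h24]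
  simp only [octads, dodecads] at h8 h12
  rw [h8, h12]
  ring

theorem ncard_shell_32 (hw : ∀ c ∈ code, c.card ∈ [0, 8, 12, 16, 24])
    (h8 : octads.ncard = 759) (h12 : dodecads.ncard = 2576) : (shell 32).ncard = 196560 :=
  (ncard_shell 32 (by norm_num) hw h8 h12).trans (by decide +kernel)

theorem ncard_shell_48 (hw : ∀ c ∈ code, c.card ∈ [0, 8, 12, 16, 24])
    (h8 : octads.ncard = 759) (h12 : dodecads.ncard = 2576) : (shell 48).ncard = 16773120 :=
  (ncard_shell 48 (by norm_num) hw h8 h12).trans (by decide +kernel)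

theorem ncard_shell_64 (hw : ∀ c ∈ code, c.card ∈ [0, 8, 12, 16, 24])
    (h8 : octads.ncard = 759) (h12 : dodecads.ncard = 2576) : (shell 64).ncard = 398034000 :=
  (ncard_shell 64 (by norm_num) hw h8 h12).trans (by decide +kernel)

end Cfsg.Agent.Leech
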