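import Cfsg.Agent.Lib.Leech.Norms

/-!
The lattice modulo its double: short representatives.
-/
set_option autoImplicit false

namespace Cfsg.Agent.Leech

open Cfsg

theorem rat_orth_card_le {R : Finset (GolayPt → ℤ)} (h0 : ∀ x ∈ R, x ≠ 0)
    (h : ∀ x ∈ R, ∀ y ∈ R, x ≠ y → dotInt x y = 0) : R.card ≤ 24 := by
  classical
  let v : R → (GolayPt → ℚ) := fun x i => (x.1 i : ℚ)
  have hli : LinearIndependent ℚ v := by
    rw [Fintype.linearIndependent_iff]
    intro g hg r
    have h1 := congrArg (fun w : GolayPt → ℚ => ∑ i, w i * (r.1 i : ℚ)) hg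
    simp only [Pi.zero_apply, zero_mul, Finset.sum_const_zero, Finset.sum_apply, Pi.smul_apply,
      smul_eq_mul, Finset.sum_mul, v] at h1
    rw [Finset.sum_comm, Finset.sum_eq_single r] at h1
    · have h2 : g r * (sqNorm r.1 : ℚ) = 0 := by
        rw [← h1, sqNorm, Int.cast_sum, Finset.mul_sum]
        exact Finset.sum_congr rfl fun i _ => by push_cast; ring
      rcases mul_eq_zero.1 h2 with h3 | h3
      · exact h3
      · exact absurd (sqNorm_eq_zero.1 (by exact_mod_cast h3)) (h0 r.1 r.2)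
    · intro s _ hs
      have h3 := h s.1 s.2 r.1 r.2 (fun e => hs (Subtype.ext e))
      have e : ∑ i, g s * (s.1 i : ℚ) * (r.1 i : ℚ) = g s * (dotInt s.1 r.1 : ℚ) := by
        rw [dotInt, Int.cast_sum, Finset.mul_sum]
        exact Finset.sum_congr rfl fun i _ => by push_cast; ring
      rw [e, h3]; simp
    · intro hr; exact absurd (Finset.mem_univ r) hr
  have := hli.fintype_card_le_finrank
  rw [Module.finrank_pi, card_pt, Fintype.card_coe] at this
  exact this

/-- Congruence modulo twice the lattice. -/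
def Cong (x y : GolayPt → ℤ) : Prop := ∃ z ∈ leechLattice, x - y = 2 • z

theorem Cong.refl (x : GolayPt → ℤ) : Cong x x := ⟨0, zero_mem _, by simp⟩

theorem Cong.symm {x y : GolayPt → ℤ} (h : Cong x y) : Cong y x := by
  obtain ⟨z, hz, e⟩ := h
  exact ⟨-z, neg_mem hz, by rw [smul_neg, ← e, neg_sub]⟩

theorem Cong.trans {x y w : GolayPt → ℤ} (h : Cong x y) (h' : Cong y w) : Cong x w := by
  obtain ⟨z, hz, e⟩ := h
  obtain ⟨z', hz', e'⟩ := h'
  exact ⟨z + z', add_mem hz hz', by rw [smul_add, ← e, ← e']; abel⟩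

theorem cong_neg {x : GolayPt → ℤ} (hx : x ∈ leechLattice) : Cong x (-x) :=
  ⟨x, hx, by rw [two_nsmul]; abel⟩

/-- The hypothesis that the lattice has no short nonzero vectors. -/
def NoRoots : Prop := ∀ x ∈ leechLattice, x ≠ 0 → 32 ≤ sqNorm x

theorem cong_cases (hmin : NoRoots) {x y : GolayPt → ℤ} (hx : x ∈ leechLattice)
    (hxn : sqNorm x ≤ 64) (hyn : sqNorm y ≤ 64) (hc : Cong x y) :
    x = y ∨ x = -y ∨ (sqNorm x = 64 ∧ sqNorm y = 64 ∧ dotInt x y = 0) := by
  obtain ⟨z, hz, e⟩ := hc
  rcases eq_or_ne z 0 with rfl | hz0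
  · left; rw [smul_zero, sub_eq_zero] at e; exact e
  rcases eq_or_ne (x - z) 0 with h | h
  · right; left
    rw [sub_eq_zero] at h
    subst h
    rw [two_nsmul] at e
    exact eq_neg_of_add_eq_zero_left (by
      have e' : x + y = x + x - (x - y) := by abel
      rw [e', e, sub_self])
  right; right
  have h1 := hmin z hz hz0
  have h2 := hmin (x - z) (sub_mem hx hz) h
  have a := sqNorm_sub x y
  rw [e, sqNorm_two_nsmul] at a
  have e2 : x + y = 2 • (x - z) := by rw [smul_sub, ← e, two_nsmul]; abel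
  have b := sqNorm_add x y
  rw [e2, sqNorm_two_nsmul] at b
  refine ⟨?_, ?_, ?_⟩ <;> linarith

theorem sqNorm_eq_of_cong (hmin : NoRoots) {x y : GolayPt → ℤ} (hx : x ∈ leechLattice)
    (hxn : sqNorm x ≤ 64) (hyn : sqNorm y ≤ 64) (hc : Cong x y) : sqNorm x = sqNorm y := by
  rcases cong_cases hmin hx hxn hyn hc with rfl | rfl | ⟨h1, h2, _⟩
  · rfl
  · exact sqNorm_neg y
  · rw [h1, h2]

theorem card_le_two_of_cong (hmin : NoRoots) {n : ℤ} (hn : n < 64) {F : Finset (GolayPt → ℤ)}
    (hF : ∀ x ∈ F, x ∈ leechLattice ∧ sqNorm x = n) (hc : ∀ x ∈ F, ∀ y ∈ F, Cong x y) :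
    F.card ≤ 2 := by
  classical
  rcases F.eq_empty_or_nonempty with rfl | ⟨a, ha⟩
  · simp
  refine le_trans (Finset.card_le_card (t := {a, -a}) fun x hx => ?_) Finset.card_le_two
  obtain ⟨h1, h2⟩ := hF a ha
  obtain ⟨h3, h4⟩ := hF x hx
  rcases cong_cases hmin h3 (by omega) (by omega) (hc x hx a ha) with rfl | rfl | ⟨h5, _⟩
  · simp
  · simp
  · omega

theorem card_le_48_of_cong (hmin : NoRoots) {F : Finset (GolayPt → ℤ)}
    (hF : ∀ x ∈ F, x ∈ leechLattice ∧ sqNorm x = 64) (hc : ∀ x ∈ F, ∀ y ∈ F, Cong x y) :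
    F.card ≤ 48 := by
  classical
  let p : (GolayPt → ℤ) → Finset (GolayPt → ℤ) := fun x => {x, -x}
  let rep : Finset (GolayPt → ℤ) → (GolayPt → ℤ) :=
    fun s => if h : (F.filter fun x => p x = s).Nonempty then h.choose else 0
  let R := (F.image p).image rep
  have hrep : ∀ a ∈ F, rep (p a) ∈ F ∧ p (rep (p a)) = p a := fun a ha => by
    have h : (F.filter fun x => p x = p a).Nonempty := ⟨a, by simp [ha]⟩
    simp only [rep, dif_pos h]
    exact Finset.mem_filter.1 h.choose_spec
  have hR : R.card ≤ 24 := by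
    refine rat_orth_card_le ?_ ?_
    · intro r hr
      simp only [R, Finset.image_image, Finset.mem_image, Function.comp] at hr
      obtain ⟨a, ha, rfl⟩ := hr
      intro h
      have := (hF _ (hrep a ha).1).2
      rw [sqNorm_eq_zero.2 h] at this
      omega
    · intro r hr r' hr' hne
      simp only [R, Finset.image_image, Finset.mem_image, Function.comp] at hr hr'
      obtain ⟨a, ha, rfl⟩ := hr
      obtain ⟨b, hb, rfl⟩ := hr'
      obtain ⟨h1, h2⟩ := hrep a ha
      obtain ⟨h3, h4⟩ := hrep b hb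
      have ne2 : p a ≠ p b := fun e => hne (by rw [e])
      rcases cong_cases hmin (hF _ h1).1 (hF _ h1).2.le (hF _ h3).2.le (hc _ h1 _ h3) with
        e | e | ⟨_, _, e⟩
      · exact absurd e hne
      · refine absurd ?_ ne2
        rw [← h2, ← h4, e]
        simp [p, Finset.pair_comm]
      · exact e
  have hcov : F ⊆ R ∪ R.image (fun x => -x) := fun a ha => by
    obtain ⟨h1, h2⟩ := hrep a ha
    have hmemR : rep (p a) ∈ R := Finset.mem_image_of_mem _ (Finset.mem_image_of_mem _ ha)
    have : a ∈ p (rep (p a)) := by rw [h2]; simp [p]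
    simp only [p, Finset.mem_insert, Finset.mem_singleton] at this
    rcases this with e | e
    · exact Finset.mem_union_left _ (by rw [e]; exact hmemR)
    · exact Finset.mem_union_right _ (by rw [e]; exact Finset.mem_image_of_mem _ hmemR)
  have := le_trans (Finset.card_le_card hcov) (Finset.card_union_le _ _)
  have := Finset.card_image_le (s := R) (f := fun x => -x)
  omega

/-- Doubling. -/
def dbl : (GolayPt → ℤ) →+ (GolayPt → ℤ) where
  toFun x := 2 • x
  map_zero' := smul_zero _
  map_add' x y := smul_add _ x y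

theorem dbl_injective : Function.Injective dbl := by
  intro x y h
  funext i
  have := congrFun h i
  simp [dbl] at this
  omega

theorem dbl_range_index : dbl.range.index = 2 ^ 24 := by
  let ψ : (GolayPt → ℤ) →+ (GolayPt → ZMod 2) :=
    (Int.castAddHom (ZMod 2)).compLeft GolayPt
  have hk : ψ.ker = dbl.range := by
    ext x
    simp only [AddMonoidHom.mem_ker, AddMonoidHom.mem_range, funext_iff, Pi.zero_apply]
    constructor
    · intro h
      refine ⟨fun i => x i / 2, fun i => ?_⟩
      have := (ZMod.intCast_zmod_eq_zero_iff_dvd _ 2).1 (h i)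
      simp [dbl]; omega
    · rintro ⟨y, hy⟩ i
      refine (ZMod.intCast_zmod_eq_zero_iff_dvd _ 2).2 ⟨y i, ?_⟩
      rw [← hy i]; simp [dbl]
  have hs : Function.Surjective ψ := fun a => ⟨fun i => ((a i).val : ℤ), funext fun i => by
    simp [ψ]⟩
  rw [← hk, AddSubgroup.index_ker, AddMonoidHom.range_eq_top.2 hs]
  rw [Nat.card_congr AddSubgroup.topEquiv.toEquiv, Nat.card_fun, Nat.card_zmod,
    Nat.card_eq_fintype_card, card_pt]

/-- The lattice modulo its double. -/
def double : AddSubgroup leechLattice := (leechLattice.map dbl).addSubgroupOf leechLattice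

theorem mem_double {v : leechLattice} :
    v ∈ double ↔ ∃ z ∈ leechLattice, (v : GolayPt → ℤ) = 2 • z := by
  simp only [double, AddSubgroup.mem_addSubgroupOf, AddSubgroup.mem_map]
  exact exists_congr fun z => and_congr_right fun _ => eq_comm

theorem double_index (h : leechLattice.index ≠ 0) : double.index = 2 ^ 24 := by
  have hle : leechLattice.map dbl ≤ leechLattice := by
    rintro _ ⟨z, hz, rfl⟩
    exact nsmul_mem hz 2
  have e := AddSubgroup.relIndex_mul_index hle
  rw [AddSubgroup.index_map_of_injective _ dbl_injective, dbl_range_index,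
    mul_comm leechLattice.index] at e
  exact Nat.eq_of_mul_eq_mul_right (Nat.pos_of_ne_zero h) e

theorem mk_eq_iff {v w : leechLattice} :
    (QuotientAddGroup.mk v : leechLattice ⧸ double) = QuotientAddGroup.mk w ↔
      Cong (v : GolayPt → ℤ) (w : GolayPt → ℤ) := by
  rw [QuotientAddGroup.eq_iff_sub_mem, mem_double]
  rfl

/-- Classification of the classes of the lattice modulo its double. -/
theorem classes (hmin : NoRoots) (hidx : leechLattice.index ≠ 0)
    (h32 : {x | x ∈ leechLattice ∧ sqNorm x = 32}.ncard = 196560)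
    (h48 : {x | x ∈ leechLattice ∧ sqNorm x = 48}.ncard = 16773120)
    (h64 : {x | x ∈ leechLattice ∧ sqNorm x = 64}.ncard = 398034000) :
    (∀ x ∈ leechLattice, ∃ y ∈ leechLattice, sqNorm y ≤ 64 ∧ Cong x y) ∧
    (∀ x ∈ leechLattice, sqNorm x = 64 →
      {y | y ∈ leechLattice ∧ sqNorm y = 64 ∧ Cong x y}.ncard = 48) := by
  classical
  let Q := leechLattice ⧸ double
  have hQ : Nat.card Q = 2 ^ 24 := double_index hidx
  have : Finite Q := Nat.finite_of_card_ne_zero (by rw [hQ]; norm_num)
  let q : (GolayPt → ℤ) → Q := fun x =>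
    if h : x ∈ leechLattice then QuotientAddGroup.mk ⟨x, h⟩ else 0
  have hq : ∀ x ∈ leechLattice, ∀ y ∈ leechLattice, q x = q y ↔ Cong x y := by
    intro x hx y hy
    simp only [q, dif_pos hx, dif_pos hy]
    exact mk_eq_iff
  have hfin : ∀ n : ℤ, n ≤ 64 → {x | x ∈ leechLattice ∧ sqNorm x = n}.Finite := by
    intro n hn
    refine Set.Finite.subset
      (Fintype.piFinset fun _ : GolayPt => Finset.Icc (-8 : ℤ) 8).finite_toSet fun x hx => ?_
    simp only [Finset.mem_coe, Fintype.mem_piFinset, Finset.mem_Icc]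
    intro i
    have h : x i ^ 2 ≤ sqNorm x :=
      Finset.single_le_sum (f := fun j => x j ^ 2) (fun j _ => sq_nonneg (x j)) (Finset.mem_univ i)
    have := hx.2
    constructor <;> nlinarith
  let T0 : Finset (GolayPt → ℤ) := {0}
  let T2 := (hfin 32 (by norm_num)).toFinset
  let T3 := (hfin 48 (by norm_num)).toFinset
  let T4 := (hfin 64 (by norm_num)).toFinset
  have hT0 : ∀ x ∈ T0, x ∈ leechLattice ∧ sqNorm x = 0 := fun x hx => by
    simp only [T0, Finset.mem_singleton] at hx
    subst hx; exact ⟨zero_mem _, by simp [sqNorm]⟩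
  have hT2 : ∀ x ∈ T2, x ∈ leechLattice ∧ sqNorm x = 32 := fun x hx => by
    simp only [T2, Set.Finite.mem_toFinset] at hx
    exact hx
  have hT3 : ∀ x ∈ T3, x ∈ leechLattice ∧ sqNorm x = 48 := fun x hx => by
    simp only [T3, Set.Finite.mem_toFinset] at hx
    exact hx
  have hT4 : ∀ x ∈ T4, x ∈ leechLattice ∧ sqNorm x = 64 := fun x hx => by
    simp only [T4, Set.Finite.mem_toFinset] at hx
    exact hx
  have c2 : T2.card ≤ 2 * (T2.image q).card := by
    refine Finset.card_le_mul_card_image T2 2 fun b _ => card_le_two_of_cong hmin (n := 32)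
      (by norm_num) (fun x hx => hT2 x (Finset.mem_filter.1 hx).1) fun x hx y hy => ?_
    rw [Finset.mem_filter] at hx hy
    exact (hq x (hT2 x hx.1).1 y (hT2 y hy.1).1).1 (hx.2.trans hy.2.symm)
  have c3 : T3.card ≤ 2 * (T3.image q).card := by
    refine Finset.card_le_mul_card_image T3 2 fun b _ => card_le_two_of_cong hmin (n := 48)
      (by norm_num) (fun x hx => hT3 x (Finset.mem_filter.1 hx).1) fun x hx y hy => ?_
    rw [Finset.mem_filter] at hx hy
    exact (hq x (hT3 x hx.1).1 y (hT3 y hy.1).1).1 (hx.2.trans hy.2.symm)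
  have f4 : ∀ b ∈ T4.image q, (T4.filter fun a => q a = b).card ≤ 48 := fun b _ =>
    card_le_48_of_cong hmin (fun x hx => hT4 x (Finset.mem_filter.1 hx).1) fun x hx y hy => by
      rw [Finset.mem_filter] at hx hy
      exact (hq x (hT4 x hx.1).1 y (hT4 y hy.1).1).1 (hx.2.trans hy.2.symm)
  have c4 : T4.card ≤ 48 * (T4.image q).card := Finset.card_le_mul_card_image T4 48 f4
  have hdis : ∀ (A B : Finset (GolayPt → ℤ)) (a b : ℤ), a ≤ 64 → b ≤ 64 → a ≠ b →
      (∀ x ∈ A, x ∈ leechLattice ∧ sqNorm x = a) → (∀ x ∈ B, x ∈ leechLattice ∧ sqNorm x = b) →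
      Disjoint (A.image q) (B.image q) := by
    intro A B a b ha hb hab hA hB
    rw [Finset.disjoint_left]
    intro z hz hz'
    obtain ⟨x, hx, rfl⟩ := Finset.mem_image.1 hz
    obtain ⟨y, hy, e⟩ := Finset.mem_image.1 hz'
    have := sqNorm_eq_of_cong hmin (hA x hx).1 (by rw [(hA x hx).2]; exact ha)
      (by rw [(hB y hy).2]; exact hb) ((hq x (hA x hx).1 y (hB y hy).1).1 e.symm)
    exact hab (by rw [← (hA x hx).2, ← (hB y hy).2, this])
  let U := T0.image q ∪ T2.image q ∪ T3.image q ∪ T4.image q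
  have hU : U.card = 1 + (T2.image q).card + (T3.image q).card + (T4.image q).card := by
    simp only [U]
    rw [Finset.card_union_of_disjoint, Finset.card_union_of_disjoint,
      Finset.card_union_of_disjoint]
    · simp [T0]
    · exact hdis T0 T2 0 32 (by norm_num) (by norm_num) (by norm_num) hT0 hT2
    · exact Finset.disjoint_union_left.2 ⟨hdis T0 T3 0 48 (by norm_num) (by norm_num) (by norm_num) hT0 hT3,
        hdis T2 T3 32 48 (by norm_num) (by norm_num) (by norm_num) hT2 hT3⟩
    · exact Finset.disjoint_union_left.2 ⟨Finset.disjoint_union_left.2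
        ⟨hdis T0 T4 0 64 (by norm_num) (by norm_num) (by norm_num) hT0 hT4,
        hdis T2 T4 32 64 (by norm_num) (by norm_num) (by norm_num) hT2 hT4⟩,
        hdis T3 T4 48 64 (by norm_num) (by norm_num) (by norm_num) hT3 hT4⟩
  have hUle : U.card ≤ Nat.card Q := by
    have := Fintype.ofFinite Q
    rw [Nat.card_eq_fintype_card]
    exact Finset.card_le_univ U
  have n2 : T2.card = 196560 := by rw [← Set.ncard_eq_toFinset_card _ (hfin 32 (by norm_num)), h32]
  have n3 : T3.card = 16773120 := by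
    rw [← Set.ncard_eq_toFinset_card _ (hfin 48 (by norm_num)), h48]
  have n4 : T4.card = 398034000 := by
    rw [← Set.ncard_eq_toFinset_card _ (hfin 64 (by norm_num)), h64]
  have key : U.card = Nat.card Q ∧ T4.card = 48 * (T4.image q).card := by
    constructor <;> omega
  constructor
  · intro x hx
    have : q x ∈ U := by
      have := Fintype.ofFinite Q
      have e : U = Finset.univ := Finset.eq_univ_of_card U (by
        rw [key.1, Nat.card_eq_fintype_card])
      rw [e]; exact Finset.mem_univ _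
    simp only [U, Finset.mem_union, Finset.mem_image] at this
    rcases this with ((⟨y, hy, e⟩ | ⟨y, hy, e⟩) | ⟨y, hy, e⟩) | ⟨y, hy, e⟩
    · exact ⟨y, (hT0 y hy).1, by rw [(hT0 y hy).2]; norm_num,
        (hq x hx y (hT0 y hy).1).1 e.symm⟩
    · exact ⟨y, (hT2 y hy).1, by rw [(hT2 y hy).2]; norm_num,
        (hq x hx y (hT2 y hy).1).1 e.symm⟩
    · exact ⟨y, (hT3 y hy).1, by rw [(hT3 y hy).2]; norm_num,
        (hq x hx y (hT3 y hy).1).1 e.symm⟩
    · exact ⟨y, (hT4 y hy).1, by rw [(hT4 y hy).2],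
        (hq x hx y (hT4 y hy).1).1 e.symm⟩
  · intro x hx hxn
    have hxT : x ∈ T4 := by
      simp only [T4, Set.Finite.mem_toFinset]
      exact ⟨hx, hxn⟩
    have hb : q x ∈ T4.image q := Finset.mem_image_of_mem q hxT
    have heq : ∀ b ∈ T4.image q, (T4.filter fun a => q a = b).card = 48 := by
      by_contra hcon
      push Not at hcon
      obtain ⟨b, hb1, hb2⟩ := hcon
      have hlt : T4.card < 48 * (T4.image q).card := by
        rw [Finset.card_eq_sum_card_image q T4, mul_comm, ← smul_eq_mul, ← Finset.sum_const]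
        exact Finset.sum_lt_sum f4 ⟨b, hb1, lt_of_le_of_ne (f4 b hb1) hb2⟩
      omega
    rw [← heq _ hb, ← Set.ncard_coe_finset]
    congr 1
    ext y
    simp only [Set.mem_setOf_eq, Finset.coe_filter, T4, Set.Finite.mem_toFinset]
    constructor
    · rintro ⟨h1, h2, h3⟩
      exact ⟨⟨h1, h2⟩, ((hq x hx y h1).2 h3).symm⟩
    · rintro ⟨⟨h1, h2⟩, h3⟩
      exact ⟨h1, h2, (hq x hx y h1).1 h3.symm⟩

end Cfsg.Agent.Leech
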