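import Cfsg.Agent.Lib.Leech.Index
import Cfsg.Agent.Lib.Leech.Counts
import Cfsg.Agent.Lib.Leech.Mod2
import Cfsg.Agent.Lib.Golay.Code

/-!
Unconditional facts about the lattice: minimum, index, short vectors, classes modulo the double.
-/
set_option autoImplicit false

namespace Cfsg.Agent.Leech

open Cfsg

theorem code_weights : ∀ c ∈ code, c.card ∈ [0, 8, 12, 16, 24] := fun c hc => by
  rcases Golay.supports_card_cases hc with h | h | h | h | h <;> simp [h]

theorem code_card_min {c : Finset GolayPt} (hc : c ∈ code) (h0 : c ≠ ∅) : 8 ≤ c.card := by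
  have h := code_weights c hc
  have : c.card ≠ 0 := fun e => h0 (Finset.card_eq_zero.1 e)
  simp only [List.mem_cons, List.not_mem_nil, or_false] at h
  omega

theorem noRoots : NoRoots := by
  intro x hx h0
  obtain ⟨m, hm, c, hc, h⟩ := exists_normal_form hx
  obtain ⟨y, hy, hp⟩ := h.param hc
  have h16 := sixteen_dvd_sqNorm hx
  have hne : sqNorm x ≠ 0 := fun e => h0 (sqNorm_eq_zero.1 e)
  have hnn := sqNorm_nonneg x
  rcases hm with rfl | rfl
  · rcases eq_or_ne c ∅ with rfl | hc0
    · by_contra hlt
      have hs : sqNorm x = 16 := by omega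
      have hx4 : ∀ i, x i = 4 * y i := fun i => by simpa [bit] using hy i
      have h1 : ∑ i, y i ^ 2 = 1 := by
        have : sqNorm x = 16 * ∑ i, y i ^ 2 := by
          simp only [sqNorm, hx4, Finset.mul_sum]
          exact Finset.sum_congr rfl fun i _ => by ring
        omega
      have h2 : (2 : ℤ) ∣ ∑ i, (y i ^ 2 - y i) := Finset.dvd_sum fun i _ => by
        have := Int.even_mul_succ_self (y i - 1)
        rw [sub_add_cancel] at this
        obtain ⟨k, hk⟩ := this
        exact ⟨k, by linarith⟩
      rw [Finset.sum_sub_distrib, h1] at h2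
      omega
    · have h8 := code_card_min hc hc0
      have : ∀ i ∈ c, (4 : ℤ) ≤ x i ^ 2 := fun i hi => by
        have e := hy i
        simp [bit, hi] at e
        have : x i ≤ -2 ∨ 2 ≤ x i := by omega
        rcases this with t | t <;> nlinarith
      have h1 : c.card • (4 : ℤ) ≤ ∑ i ∈ c, x i ^ 2 := Finset.card_nsmul_le_sum c _ _ this
      have h2 : ∑ i ∈ c, x i ^ 2 ≤ sqNorm x :=
        Finset.sum_le_sum_of_subset_of_nonneg (Finset.subset_univ c) fun i _ _ => sq_nonneg (x i)
      rw [nsmul_eq_mul] at h1
      have : (8 : ℤ) ≤ (c.card : ℤ) := by exact_mod_cast h8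
      linarith
  · have : ∀ i ∈ (Finset.univ : Finset GolayPt), (1 : ℤ) ≤ x i ^ 2 := fun i _ => by
      have e := hy i
      have : x i ≤ -1 ∨ 1 ≤ x i := by omega
      rcases this with t | t <;> nlinarith
    have h1 := Finset.card_nsmul_le_sum _ _ _ this
    rw [Finset.card_univ, card_pt] at h1
    rw [nsmul_eq_mul, Nat.cast_ofNat, mul_one] at h1
    simp only [sqNorm] at *
    omega

theorem code_ncard : code.ncard = 4096 := by
  rw [ncard_code, Golay.card_golayCode]

theorem index_lattice : leechLattice.index = 2 ^ 36 := by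
  have h := index_mul_card
  rw [code_ncard] at h
  refine Nat.eq_of_mul_eq_mul_right (m := 2 * 4096) (by norm_num) (h.trans ?_)
  decide +kernel

theorem card_shell_32 : {x | x ∈ leechLattice ∧ sqNorm x = 32}.ncard = 196560 :=
  ncard_shell_32 code_weights Golay.ncard_octads Golay.ncard_dodecads

theorem card_shell_48 : {x | x ∈ leechLattice ∧ sqNorm x = 48}.ncard = 16773120 :=
  ncard_shell_48 code_weights Golay.ncard_octads Golay.ncard_dodecads

theorem card_shell_64 : {x | x ∈ leechLattice ∧ sqNorm x = 64}.ncard = 398034000 :=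
  ncard_shell_64 code_weights Golay.ncard_octads Golay.ncard_dodecads

theorem exists_short_rep {x : GolayPt → ℤ} (hx : x ∈ leechLattice) :
    ∃ y ∈ leechLattice, sqNorm y ≤ 64 ∧ Cong x y :=
  (classes noRoots (by rw [index_lattice]; norm_num) card_shell_32 card_shell_48 card_shell_64).1 x hx

theorem card_class_64 {x : GolayPt → ℤ} (hx : x ∈ leechLattice) (hn : sqNorm x = 64) :
    {y | y ∈ leechLattice ∧ sqNorm y = 64 ∧ Cong x y}.ncard = 48 :=
  (classes noRoots (by rw [index_lattice]; norm_num) card_shell_32 card_shell_48 card_shell_64).2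
    x hx hn

end Cfsg.Agent.Leech
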