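import Cfsg.Agent.Lib.Leech.Monomial
import Cfsg.Agent.Lib.Leech.Facts
import Cfsg.Agent.Lib.Golay.Transitive

/-!
The centre of Co0.
-/
set_option autoImplicit false

namespace Cfsg.Agent.Leech

open Cfsg
open scoped Pointwise

/-- Negation as an automorphism of the lattice. -/
noncomputable def negOne : Co0 := mono 1 univ_mem_code

theorem negOne_smul (v : leechLattice) : negOne • v = -v := by
  apply Subtype.ext
  funext i
  simp [negOne, coe_mono_smul, signedPerm]
  rfl

theorem negOne_ne_one : negOne ≠ 1 := fun h => by
  have e := negOne_smul (frame none)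
  rw [h, one_smul] at e
  have := congrFun (congrArg Subtype.val e) none
  simp [frame] at this

theorem negOne_mem_center : negOne ∈ Subgroup.center Co0 := by
  rw [Subgroup.mem_center_iff]
  intro g
  refine ext_frame fun i => ?_
  rw [mul_smul, mul_smul, negOne_smul, negOne_smul, smul_neg']

/-- Two points are separated by the code. -/
theorem code_separates : ∀ i j : GolayPt, i ≠ j → ∃ t : ZMod 23, qrWord t i ≠ qrWord t j := by
  decide +kernel

theorem exists_code_mem_notMem {i j : GolayPt} (h : i ≠ j) : ∃ c ∈ code, j ∈ c ∧ i ∉ c := by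
  obtain ⟨t, ht⟩ := code_separates i j h
  have hc : support₂ (qrWord t) ∈ code :=
    ⟨_, Submodule.subset_span (Set.mem_union_left _ ⟨t, rfl⟩), rfl⟩
  rcases zmod2_cases (qrWord t j) with a | a <;> rcases zmod2_cases (qrWord t i) with b | b <;>
    simp only [a, b, ne_eq, not_true_eq_false] at ht
  · exact ⟨_, compl_mem_code hc, by simp [support₂, a], by simp [support₂, b]⟩
  · exact ⟨_, hc, by simp [support₂, a], by simp [support₂, b]⟩

theorem center_eq_or (g : Co0) (hg : g ∈ Subgroup.center Co0) : g = 1 ∨ g = negOne := by
  rw [Subgroup.mem_center_iff] at hg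
  let e : GolayPt → ℤ := fun i => ((g • frame i : leechLattice) : GolayPt → ℤ) i
  have hzero : ∀ i j, j ≠ i → ((g • frame i : leechLattice) : GolayPt → ℤ) j = 0 := by
    intro i j hji
    obtain ⟨c, hc, hj, hi⟩ := exists_code_mem_notMem hji.symm
    have h1 : mono 1 hc • frame i = frame i := Subtype.ext (by
      rw [coe_mono_frame]; simp [hi, frame])
    have h2 : mono 1 hc • (g • frame i) = g • frame i := by rw [← mul_smul, hg, mul_smul, h1]
    have h3 := congrFun (congrArg Subtype.val h2) j
    rw [coe_mono_smul] at h3
    have h4 : (((1 : M24) : Equiv.Perm GolayPt)).symm j = j := rfl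
    simp only [signedPerm, hj, if_true, h4] at h3
    omega
  have hval : ∀ i, ((g • frame i : leechLattice) : GolayPt → ℤ) = Pi.single i (e i) := by
    intro i; funext j
    rcases eq_or_ne j i with rfl | h
    · simp [e]
    · simp [h, hzero i j h]
  have he : ∀ i, e i = 8 ∨ e i = -8 := by
    intro i
    have h := sqNorm_smul g (frame i)
    rw [hval i] at h
    simp only [frame, sqNorm, Pi.single_apply, ite_pow, ne_eq, OfNat.ofNat_ne_zero,
      not_false_eq_true, zero_pow, Finset.sum_ite_eq', Finset.mem_univ, if_true] at h
    have : (e i - 8) * (e i + 8) = 0 := by linarith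
    rcases mul_eq_zero.1 this with h | h <;> omega
  have hconst : ∀ i, e i = e none := by
    intro i
    obtain ⟨σ, hσ, hi⟩ := Golay.exists_map_one i
    have h1 : mono ⟨σ, hσ⟩ empty_mem_code • (g • frame none) = g • frame i := by
      rw [← mul_smul, hg, mul_smul]
      congr 1
      exact Subtype.ext (by rw [coe_mono_frame]; simp [hi, frame])
    have h2 := congrFun (congrArg Subtype.val h1) i
    rw [coe_mono_smul, hval none, signedPerm_single] at h2
    simp [hi, e] at h2 ⊢
    exact h2.symm
  rcases he none with h | h
  · left
    refine ext_frame fun i => Subtype.ext ?_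
    rw [one_smul, hval i, hconst i, h]; rfl
  · right
    refine ext_frame fun i => Subtype.ext ?_
    rw [negOne_smul, hval i, hconst i, h]
    simp [frame, Pi.single_neg]

theorem center_eq : (Subgroup.center Co0 : Set Co0) = {1, negOne} := by
  ext g
  constructor
  · intro h; simpa using center_eq_or g h
  · rintro (rfl | rfl)
    · exact one_mem _
    · exact negOne_mem_center

theorem card_center : Nat.card (Subgroup.center Co0) = 2 :=
  (Nat.card_congr (Equiv.setCongr center_eq)).trans (by
    rw [Nat.card_coe_set_eq]; exact Set.ncard_pair negOne_ne_one.symm)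

end Cfsg.Agent.Leech
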