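import Cfsg.Agent.Lib.Golay.Simple

/-!
Finite checks on affine and semilinear tables against the code.
-/
set_option autoImplicit false

namespace Cfsg.Agent.Leech

open Cfsg
open scoped Pointwise

section Tables

open Golay

/-- Some basis word is mapped outside the code. -/
def autFail (l : List ℕ) : Bool :=
  basisN.any fun b => !inCode (imgN l b) && (maps l b (imgN l b) && decide (imgN l b < 2 ^ 24))

theorem not_mem_of_autFail {σ : Equiv.Perm GolayPt} {l : List ℕ} (h : Tab σ l)
    (hf : autFail l = true) : σ ∉ M24 := by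
  intro hσ
  simp only [autFail, List.any_eq_true, Bool.and_eq_true, Bool.not_eq_true', decide_eq_true_eq] at hf
  obtain ⟨b, hb, hbad, hm, hlt⟩ := hf
  have hmem : toSet b ∈ supports (golayCode : Set (GolayPt → ZMod 2)) :=
    ⟨toWord b, basisN_mem b hb, support₂_toWord b⟩
  have := mem_setSystemAut_iff.1 hσ _ hmem
  rw [h.smul_toSet hm] at this
  obtain ⟨n, hn, e⟩ := mem_supports_iff.1 this
  rw [toSet_injOn (inCode_lt hn) hlt e] at hn
  rw [hn] at hbad
  exact Bool.noConfusion hbad

theorem isPermTab_of_tab {σ : Equiv.Perm GolayPt} {l : List ℕ} (h : Tab σ l) :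
    isPermTab l = true := by
  simp only [isPermTab, List.all_eq_true, List.mem_range, Bool.and_eq_true, decide_eq_true_eq,
    bne_iff_ne, ne_eq]
  intro i hi
  refine ⟨h.lt hi, fun j hj e => ?_⟩
  rw [← h i hi, ← h j (by omega)] at e
  have := congrArg idx (σ.injective (idx_injective e))
  rw [idx_pt hi, idx_pt (by omega : j < 24)] at this
  omega

/-- The table of `t ↦ k t + a`. -/
def affTab (k a : ℕ) : List ℕ :=
  (List.range 24).map fun i => if i = 23 then 23 else (k * i + a) % 23

/-- Exponent and coset of each residue with respect to the powers of 2. -/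
def logList : List (ℕ × ℕ) :=
  [(0, 0), (0, 0), (1, 0), (8, 0), (2, 0), (0, 1), (9, 0), (9, 1), (3, 0), (5, 0), (1, 1), (4, 1), (10, 0), (7, 0), (10, 1), (8, 1), (4, 0), (3, 1), (6, 0), (7, 1), (2, 1), (6, 1), (5, 1), (0, 0)]

/-- The table of the map with `2^n ↦ 2^(kn) u`, `5·2^n ↦ 2^(kn) w`. -/
def semTab (k u w : ℕ) : List ℕ :=
  (List.range 24).map fun i => if i = 23 then 23 else if i = 0 then 0 else
    2 ^ (k * (logList.getD i (0, 0)).1) * (if (logList.getD i (0, 0)).2 = 0 then u else w) % 23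

theorem aff_facts : ∀ k a : Fin 23, k.val = 0 ∨ k.val ^ 11 % 23 = 1 ∨
    autFail (affTab k a) = true := by
  decide +kernel

/-- The check for one value of `k`. -/
def SemOK (k : ℕ) : Prop := ∀ u w : Fin 23, k ^ 5 % 11 = 1 ∧
  (k ≠ 1 ∨ ∃ n : Fin 11, u.val = 2 ^ n.val % 23 ∧ w.val = 5 * 2 ^ n.val % 23) ∨
    isPermTab (semTab k u w) = false ∨ autFail (semTab k u w) = true

theorem sem_1 : SemOK 1 := by
  unfold SemOK; decide +kernel

theorem sem_2 : SemOK 2 := by
  unfold SemOK; decide +kernel

theorem sem_3 : SemOK 3 := by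
  unfold SemOK; decide +kernel

theorem sem_4 : SemOK 4 := by
  unfold SemOK; decide +kernel

theorem sem_5 : SemOK 5 := by
  unfold SemOK; decide +kernel

theorem sem_6 : SemOK 6 := by
  unfold SemOK; decide +kernel

theorem sem_7 : SemOK 7 := by
  unfold SemOK; decide +kernel

theorem sem_8 : SemOK 8 := by
  unfold SemOK; decide +kernel

theorem sem_9 : SemOK 9 := by
  unfold SemOK; decide +kernel

theorem sem_10 : SemOK 10 := by
  unfold SemOK; decide +kernel

theorem sem_facts : ∀ k : ℕ, k < 11 → k ≠ 0 → SemOK k := by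
  intro k hk hk0
  interval_cases k
  exacts [absurd rfl hk0, sem_1, sem_2, sem_3, sem_4, sem_5, sem_6, sem_7, sem_8, sem_9, sem_10]

theorem log_facts : ∀ i : Fin 24, i.val = 0 ∨ i.val = 23 ∨
    (((logList.getD i (0, 0)).2 = 0 ∧ (i.val : ZMod 23) = 2 ^ (logList.getD i (0, 0)).1) ∨
     ((logList.getD i (0, 0)).2 = 1 ∧ (i.val : ZMod 23) = 5 * 2 ^ (logList.getD i (0, 0)).1)) := by
  decide +kernel

end Tables

end Cfsg.Agent.Leech
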