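import Cfsg.Agent.Lib.Leech.Facts

/-!
The shapes of minimal vectors.
-/
set_option autoImplicit false

namespace Cfsg.Agent.Leech

open Cfsg

/-- Two coordinates `±4`. -/
def Shape4 (x : GolayPt → ℤ) : Prop :=
  ∃ a b : GolayPt, a ≠ b ∧ (x a = 4 ∨ x a = -4) ∧ (x b = 4 ∨ x b = -4) ∧
    ∀ i, i ≠ a → i ≠ b → x i = 0

/-- Entries `±2` on an octad. -/
def Shape2 (x : GolayPt → ℤ) : Prop :=
  ∃ o ∈ octads, (∀ i ∈ o, x i = 2 ∨ x i = -2) ∧ ∀ i, i ∉ o → x i = 0

/-- One entry `±3`, the others `±1`. -/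
def Shape3 (x : GolayPt → ℤ) : Prop :=
  ∃ a : GolayPt, (x a = 3 ∨ x a = -3) ∧ ∀ i, i ≠ a → x i = 1 ∨ x i = -1

theorem sq_eq_cases {v r : ℤ} (h : v ^ 2 = r ^ 2) : v = r ∨ v = -r := sq_eq_sq_iff_eq_or_eq_neg.1 h

theorem shape32 {x : GolayPt → ℤ} (hx : x ∈ leechLattice) (hn : sqNorm x = 32) :
    Shape4 x ∨ Shape2 x ∨ Shape3 x := by
  classical
  obtain ⟨m, hm, c, hc, h⟩ := exists_normal_form hx
  obtain ⟨y, hy, hp⟩ := h.param hc
  rcases hm with rfl | rfl
  · rcases eq_or_ne c ∅ with rfl | hc0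
    · left
      have hx4 : ∀ i, x i = 4 * y i := fun i => by simpa [bit] using hy i
      have h2 : ∑ i, y i ^ 2 = 2 := by
        have : sqNorm x = 16 * ∑ i, y i ^ 2 := by
          simp only [sqNorm, hx4, Finset.mul_sum]
          exact Finset.sum_congr rfl fun i _ => by ring
        omega
      have hle : ∀ i, y i ^ 2 ≤ 2 := fun i => h2 ▸
        Finset.single_le_sum (f := fun j => y j ^ 2) (fun j _ => sq_nonneg (y j)) (Finset.mem_univ i)
      have h01 : ∀ i, y i = 0 ∨ y i = 1 ∨ y i = -1 := fun i => by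
        have := hle i
        have h1 : -1 ≤ y i := by by_contra hh; nlinarith
        have h2 : y i ≤ 1 := by by_contra hh; nlinarith
        omega
      have hcard : (Finset.univ.filter fun i => y i ≠ 0).card = 2 := by
        have e : ∀ i, y i ^ 2 = if y i ≠ 0 then 1 else 0 := fun i => by
          rcases h01 i with t | t | t <;> simp [t]
        simp only [e, Finset.sum_boole] at h2
        exact_mod_cast h2
      obtain ⟨a, b, hab, hs⟩ := Finset.card_eq_two.1 hcard
      have hmem : ∀ i, y i ≠ 0 ↔ i = a ∨ i = b := fun i => by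
        simpa using Finset.ext_iff.1 hs i
      refine ⟨a, b, hab, ?_, ?_, fun i hia hib => ?_⟩
      · have := hx4 a; have := h01 a; have := (hmem a).2 (Or.inl rfl); omega
      · have := hx4 b; have := h01 b; have := (hmem b).2 (Or.inr rfl); omega
      · have := hx4 i
        have : y i = 0 := by by_contra hh; rcases (hmem i).1 hh with t | t <;> contradiction
        omega
    · right; left
      have hge : ∀ i, 0 ≤ x i ^ 2 - 4 * bit c i := fun i => by
        by_cases hi : i ∈ c
        · have e := hy i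
          simp [bit, hi] at e ⊢
          have : x i ≤ -2 ∨ 2 ≤ x i := by omega
          rcases this with t | t <;> nlinarith
        · simp [bit, hi]; positivity
      have hsum : ∑ i, (x i ^ 2 - 4 * bit c i) = (32 : ℤ) - 4 * (c.card : ℤ) := by
        rw [Finset.sum_sub_distrib, ← Finset.mul_sum, sum_bit, ← hn, sqNorm]
      have h8 := code_card_min hc hc0
      have hnn := Finset.sum_nonneg (s := Finset.univ) fun i _ => hge i
      have he : c.card = 8 := by omega
      have h0 : ∑ i, (x i ^ 2 - 4 * bit c i) = 0 := by omega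
      refine ⟨c, ⟨hc, he⟩, fun i hi => ?_, fun i hi => ?_⟩
      · have := (Finset.sum_eq_zero_iff_of_nonneg fun i _ => hge i).1 h0 i (Finset.mem_univ i)
        simp [bit, hi] at this
        exact sq_eq_cases (by linarith)
      · have := (Finset.sum_eq_zero_iff_of_nonneg fun i _ => hge i).1 h0 i (Finset.mem_univ i)
        simpa [bit, hi] using this
  · right; right
    have hodd : ∀ i, ¬ (2 : ℤ) ∣ x i := fun i => by have := hy i; omega
    have h1 : ∀ i, x i ^ 2 = 1 ∨ x i ^ 2 = 9 ∨ 25 ≤ x i ^ 2 := fun i => by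
      have := hodd i
      have : x i = 1 ∨ x i = -1 ∨ x i = 3 ∨ x i = -3 ∨ 5 ≤ x i ∨ x i ≤ -5 := by omega
      rcases this with t | t | t | t | t | t
      · simp [t]
      · simp [t]
      · simp [t]
      · simp [t]
      · right; right; nlinarith
      · right; right; nlinarith
    have h8 : ∑ i, (x i ^ 2 - 1) = 8 := by
      rw [Finset.sum_sub_distrib]
      simp only [sqNorm] at hn
      rw [hn]; simp [card_pt, -Fintype.sum_option]
    have hnn : ∀ i, 0 ≤ x i ^ 2 - 1 := fun i => by rcases h1 i with t | t | t <;> omega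
    obtain ⟨a, ha⟩ : ∃ a, x a ^ 2 - 1 ≠ 0 := by
      by_contra hh
      push Not at hh
      rw [Finset.sum_eq_zero fun i _ => hh i] at h8
      norm_num at h8
    have hsplit := Finset.sum_eq_add_sum_sdiff_singleton_of_mem (Finset.mem_univ a) (fun i => x i ^ 2 - 1)
    have hrest := Finset.sum_nonneg (s := Finset.univ \ {a}) fun i _ => hnn i
    have ha9 : x a ^ 2 = 9 := by rcases h1 a with t | t | t <;> omega
    refine ⟨a, sq_eq_cases (by rw [ha9]; norm_num), fun i hi => ?_⟩
    have := (Finset.sum_eq_zero_iff_of_nonneg fun i _ => hnn i).1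
      (show ∑ i ∈ Finset.univ \ {a}, (x i ^ 2 - 1) = 0 by omega) i (by simp [hi])
    exact sq_eq_cases (by linarith)

theorem exists_ne_ne (a b : GolayPt) : ∀ c : GolayPt, ∃ k, k ≠ a ∧ k ≠ b ∧ k ≠ c := by
  intro c
  have h : (({a, b, c} : Finset GolayPt))ᶜ.Nonempty := by
    rw [← Finset.card_pos, Finset.card_compl, card_pt]
    have := Finset.card_le_three (a := a) (b := b) (c := c)
    omega
  obtain ⟨k, hk⟩ := h
  simp at hk
  exact ⟨k, hk.1, hk.2.1, hk.2.2⟩

theorem card_le_eight_compl {o : Finset GolayPt} (ho : o.card = 8) (a b : GolayPt) :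
    ∃ k, k ≠ a ∧ k ≠ b ∧ k ∉ o := by
  have h : (insert a (insert b o))ᶜ.Nonempty := by
    rw [← Finset.card_pos, Finset.card_compl, card_pt]
    have := Finset.card_insert_le a (insert b o)
    have := Finset.card_insert_le b o
    omega
  obtain ⟨k, hk⟩ := h
  simp at hk
  exact ⟨k, hk.1, hk.2.1, hk.2.2⟩

/-- In a minimal vector a small value is repeated elsewhere. -/
theorem exists_repeat {x : GolayPt → ℤ} (hx : x ∈ leechLattice) (hn : sqNorm x = 32)
    {a : GolayPt} (b : GolayPt) (ha : -1 ≤ x a ∧ x a ≤ 1) :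
    ∃ k, k ≠ a ∧ k ≠ b ∧ (x k = x a ∨ x k = - x a) := by
  rcases shape32 hx hn with ⟨p, q, _, hp, hq, h0⟩ | ⟨o, ho, h2, h0⟩ | ⟨p, hp, h1⟩
  · have hap : a ≠ p := fun e => by subst e; omega
    have haq : a ≠ q := fun e => by subst e; omega
    obtain ⟨k, hk⟩ : ∃ k, k ≠ a ∧ k ≠ b ∧ k ≠ p ∧ k ≠ q := by
      have h : (({a, b, p, q} : Finset GolayPt))ᶜ.Nonempty := by
        rw [← Finset.card_pos, Finset.card_compl, card_pt]
        have := Finset.card_le_four (a := a) (b := b) (c := p) (d := q)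
        omega
      obtain ⟨k, hk⟩ := h
      simp at hk
      exact ⟨k, hk⟩
    exact ⟨k, hk.1, hk.2.1, Or.inl (by rw [h0 k hk.2.2.1 hk.2.2.2, h0 a hap haq])⟩
  · have hao : a ∉ o := fun e => by have := h2 a e; omega
    obtain ⟨k, hk1, hk2, hk3⟩ := card_le_eight_compl ho.2 a b
    exact ⟨k, hk1, hk2, Or.inl (by rw [h0 k hk3, h0 a hao])⟩
  · have hap : a ≠ p := fun e => by subst e; omega
    obtain ⟨k, hk1, hk2, hk3⟩ := exists_ne_ne a b p
    exact ⟨k, hk1, hk2, by have := h1 k hk3; have := h1 a hap; omega⟩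

end Cfsg.Agent.Leech
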