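import Cfsg.Agent.Lib.Leech.Transitive
import Cfsg.Agent.Lib.Leech.Shapes
import Cfsg.Prelude.Def_Spor_Conway

/-!
Orbits of Co0 on vectors of norm 32, 48 and on pairs of minimal vectors with product -8.
-/
set_option autoImplicit false

namespace Cfsg.Agent.Leech

open Cfsg
open scoped Pointwise

theorem dotInt_single_left (i : GolayPt) (s : ℤ) (x : GolayPt → ℤ) :
    dotInt (Pi.single i s) x = s * x i := by
  simp [dotInt, Pi.single_apply, ite_mul, -Fintype.sum_option]

theorem dotInt_frame (i : GolayPt) (x : GolayPt → ℤ) :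
    dotInt (frame i : GolayPt → ℤ) x = 8 * x i := dotInt_single_left i 8 x

theorem dotInt_add_left' (x y z : GolayPt → ℤ) : dotInt (x + y) z = dotInt x z + dotInt y z := by
  simp [dotInt, add_mul, Finset.sum_add_distrib, -Fintype.sum_option]

theorem dotInt_sub_left' (x y z : GolayPt → ℤ) : dotInt (x - y) z = dotInt x z - dotInt y z := by
  simp [dotInt, sub_mul, Finset.sum_sub_distrib, -Fintype.sum_option]

theorem dotInt_neg_left' (x z : GolayPt → ℤ) : dotInt (-x) z = -dotInt x z := by
  simp [dotInt, neg_mul, Finset.sum_neg_distrib, -Fintype.sum_option]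

/-- Two fours. -/
def four (i j : GolayPt) (a b : ℤ) : GolayPt → ℤ := Pi.single i a + Pi.single j b

theorem four_spec {i j : GolayPt} (hij : i ≠ j) {a b : ℤ} (ha : a = 4 ∨ a = -4)
    (hb : b = 4 ∨ b = -4) : four i j a b ∈ leechLattice ∧ sqNorm (four i j a b) = 32 := by
  constructor
  · refine mem_lattice_iff.2 ⟨0, ∅, empty_mem_code, fun k => ?_, ?_⟩
    · simp only [four, bit, Pi.add_apply, Pi.single_apply, Finset.notMem_empty, if_false]
      rcases ha with rfl | rfl <;> rcases hb with rfl | rfl <;> split_ifs <;> norm_num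
    · simp only [four, Pi.add_apply, Finset.sum_add_distrib, Finset.sum_pi_single',
        Finset.mem_univ, if_true]
      rcases ha with rfl | rfl <;> rcases hb with rfl | rfl <;> norm_num
  · rw [four, sqNorm_add, dotInt_single_left, Pi.single_eq_of_ne hij]
    rcases ha with rfl | rfl <;> rcases hb with rfl | rfl <;>
      simp [sqNorm, Pi.single_apply, ite_pow, -Fintype.sum_option]

theorem dotInt_four (i j : GolayPt) (a b : ℤ) (x : GolayPt → ℤ) :
    dotInt (four i j a b) x = a * x i + b * x j := by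
  rw [four, dotInt_add_left', dotInt_single_left, dotInt_single_left]

/-- The first coordinate after moving `a` to the frame. -/
theorem coord_none {g : Co0} {a : leechLattice} (hg : g • a = frame none) (v : leechLattice) :
    8 * ((g • v : leechLattice) : GolayPt → ℤ) none =
      dotInt (a : GolayPt → ℤ) (v : GolayPt → ℤ) := by
  rw [← dotInt_frame, ← hg, dotInt_smul]

/-- Standard minimal vector (4, 4, 0, ...). -/
def std32 : leechLattice := Spor.leechU

theorem coe_std32 : (std32 : GolayPt → ℤ) = four none (some 0) 4 4 := by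
  funext p
  show Spor.vecU p = _
  rcases p with _ | x
  · simp [Spor.vecU, four]
  · by_cases h : x = 0 <;> simp [Spor.vecU, four, h]

/-- Standard vector of norm 48: (5, 1, 1, ...). -/
def std48 : leechLattice := -Spor.leechV

theorem coe_std48 (p : GolayPt) :
    (std48 : GolayPt → ℤ) p = if p = none then 5 else 1 := by
  show -(Spor.vecV p) = _
  rcases p with _ | x <;> simp [Spor.vecV]

theorem dotInt_std48 (x : GolayPt → ℤ) :
    dotInt (std48 : GolayPt → ℤ) x = 4 * x none + ∑ i, x i := by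
  have e : ∀ i, (std48 : GolayPt → ℤ) i * x i = (if i = none then 4 * x i else 0) + x i := fun i => by
    rw [coe_std48]; split_ifs <;> ring
  simp [dotInt, e, Finset.sum_add_distrib, -Fintype.sum_option]

theorem sqNorm_std48 : sqNorm (std48 : GolayPt → ℤ) = 48 := by
  rw [← dotInt_self, dotInt_std48]
  simp only [coe_std48]
  decide

theorem sqNorm_std32 : sqNorm (std32 : GolayPt → ℤ) = 32 := by
  rw [coe_std32]; exact (four_spec (by simp) (Or.inl rfl) (Or.inl rfl)).2

theorem mono_fix_none {σ : M24} (h : σ.1 none = none) :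
    mono σ empty_mem_code • frame none = frame none :=
  (mono_fix_frame_iff σ empty_mem_code).2 ⟨h, by simp⟩

theorem exists_orth {v : leechLattice} (hv : sqNorm (v : GolayPt → ℤ) = 32) :
    ∃ w : leechLattice, sqNorm (w : GolayPt → ℤ) = 32 ∧
      dotInt (w : GolayPt → ℤ) (v : GolayPt → ℤ) = 0 := by
  have key : ∀ i j, i ≠ j →
      ((v : GolayPt → ℤ) i = (v : GolayPt → ℤ) j ∨ (v : GolayPt → ℤ) i = -(v : GolayPt → ℤ) j) →
      ∃ w : leechLattice, sqNorm (w : GolayPt → ℤ) = 32 ∧
        dotInt (w : GolayPt → ℤ) (v : GolayPt → ℤ) = 0 := by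
    intro i j hij h
    rcases h with h | h
    · exact ⟨⟨_, (four_spec hij (Or.inl rfl) (Or.inr rfl)).1⟩, (four_spec hij (Or.inl rfl) (Or.inr rfl)).2,
        by rw [dotInt_four, h]; ring⟩
    · exact ⟨⟨_, (four_spec hij (Or.inl rfl) (Or.inl rfl)).1⟩, (four_spec hij (Or.inl rfl) (Or.inl rfl)).2,
        by rw [dotInt_four, h]; ring⟩
  rcases shape32 v.2 hv with ⟨a, b, hab, ha, hb, _⟩ | ⟨o, ho, h2, _⟩ | ⟨a, _, h1⟩
  · exact key a b hab (by omega)
  · obtain ⟨i, hi, j, hj, hij⟩ := Finset.one_lt_card.1 (by rw [ho.2]; norm_num : 1 < o.card)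
    exact key i j hij (by have := h2 i hi; have := h2 j hj; omega)
  · obtain ⟨i, hi, -, -⟩ := exists_ne_ne a a a
    obtain ⟨j, hj, hji, -⟩ := exists_ne_ne a i a
    exact key i j hji.symm (by have := h1 i hi; have := h1 j hj; omega)

theorem exists_smul_eq_std32 (hu : CodeUnique) {v : leechLattice}
    (hv : sqNorm (v : GolayPt → ℤ) = 32) : ∃ g : Co0, g • v = std32 := by
  obtain ⟨w, hw, hwv⟩ := exists_orth hv
  have hvw : dotInt (v : GolayPt → ℤ) (w : GolayPt → ℤ) = 0 := by rw [dotInt_comm, hwv]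
  obtain ⟨g, hg⟩ := exists_smul_eq_frame hu (x := v + w) (by
    rw [AddSubgroup.coe_add, sqNorm_add, hv, hw, hvw]; norm_num)
  have hb : ((g • (v - w) : leechLattice) : GolayPt → ℤ) ∈ stdCross := by
    rw [← stdCross_eq_class]
    refine ⟨SetLike.coe_mem _, ?_, ?_⟩
    · rw [sqNorm_smul, AddSubgroup.coe_sub, sqNorm_sub, hv, hw, hvw]; norm_num
    · rw [← hg]
      refine cong_smul g ⟨(w : GolayPt → ℤ), w.2, ?_⟩
      rw [AddSubgroup.coe_add, AddSubgroup.coe_sub, two_nsmul]; abel
  obtain ⟨i, s, hs, hsi⟩ := hb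
  have hin : i ≠ none := fun e => by
    have h0 := coord_none hg (v - w)
    rw [hsi, e, Pi.single_eq_same, AddSubgroup.coe_add, AddSubgroup.coe_sub, dotInt_add_left',
      dotInt_comm (v : GolayPt → ℤ), dotInt_comm (w : GolayPt → ℤ), dotInt_sub_left',
      dotInt_sub_left', dotInt_self, dotInt_self, hv, hw, hvw, hwv] at h0
    omega
  have hgv : ((g • v : leechLattice) : GolayPt → ℤ) = four none i 4 (s / 2) := by
    have h2 : g • (v + w) + g • (v - w) = g • v + g • v := by
      rw [← smul_add', ← smul_add']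
      congr 1
      abel
    have h3 := congrArg Subtype.val h2
    rw [AddSubgroup.coe_add, AddSubgroup.coe_add, hg, hsi] at h3
    funext k
    have h4 := congrFun h3 k
    simp only [frame, four, Pi.add_apply, Pi.single_apply] at h4 ⊢
    rcases hs with rfl | rfl <;> split_ifs at h4 ⊢ <;> omega
  obtain ⟨σ, hσ, h1, h2⟩ := Golay.exists_map_two hin.symm
  obtain ⟨d, hd, hd0, hdn⟩ := exists_code_mem_notMem (i := (none : GolayPt)) (j := some 0) (by simp)
  have hτn : σ⁻¹ none = none := by rw [Equiv.Perm.inv_def, Equiv.symm_apply_eq, h1]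
  have hτi : σ⁻¹ i = some 0 := by rw [Equiv.Perm.inv_def, Equiv.symm_apply_eq, h2]
  rcases hs with hs' | hs'
  · refine ⟨mono ⟨σ⁻¹, inv_mem hσ⟩ empty_mem_code * g, Subtype.ext ?_⟩
    rw [mul_smul, coe_mono_smul, hgv, four, signedPerm_add, signedPerm_single, signedPerm_single,
      coe_std32, hs']
    simp [hτn, hτi, four]
  · refine ⟨mono ⟨σ⁻¹, inv_mem hσ⟩ hd * g, Subtype.ext ?_⟩
    rw [mul_smul, coe_mono_smul, hgv, four, signedPerm_add, signedPerm_single, signedPerm_single,
      coe_std32, hs']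
    simp [hτn, hτi, hd0, hdn, four]

theorem transitive_32 (hu : CodeUnique) {v w : leechLattice}
    (hv : sqNorm (v : GolayPt → ℤ) = 32) (hw : sqNorm (w : GolayPt → ℤ) = 32) :
    ∃ g : Co0, g • v = w := by
  obtain ⟨g, hg⟩ := exists_smul_eq_std32 hu hv
  obtain ⟨h, hh⟩ := exists_smul_eq_std32 hu hw
  exact ⟨h⁻¹ * g, by rw [mul_smul, hg, ← hh, inv_smul_smul]⟩

theorem exists_pair_two {v : GolayPt → ℤ} (hv : v ∈ leechLattice) (hn : sqNorm v = 48) :
    ∃ i j : GolayPt, i ≠ j ∧ (v i + v j = 2 ∨ v i + v j = -2 ∨ v i - v j = 2 ∨ v i - v j = -2) := by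
  classical
  obtain ⟨m, hm, c, hc, h⟩ := exists_normal_form hv
  obtain ⟨y, hy, hp⟩ := h.param hc
  simp only [sqNorm] at hn
  rcases hm with rfl | rfl
  · have hc0 : c ≠ ∅ := by
      rintro rfl
      have hx4 : ∀ i, v i = 4 * y i := fun i => by simpa [bit] using hy i
      have h3 : ∑ i, y i ^ 2 = 3 := by
        have : ∑ i, v i ^ 2 = 16 * ∑ i, y i ^ 2 := by
          simp only [hx4, Finset.mul_sum]
          exact Finset.sum_congr rfl fun i _ => by ring
        omega
      have h2 : (2 : ℤ) ∣ ∑ i, (y i ^ 2 - y i) := Finset.dvd_sum fun i _ => by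
        obtain ⟨k, hk⟩ := Int.even_mul_succ_self (y i - 1)
        rw [sub_add_cancel] at hk
        exact ⟨k, by linarith⟩
      rw [Finset.sum_sub_distrib, h3] at h2
      omega
    have h8 := code_card_min hc hc0
    have hci : ∀ i ∈ c, (4 : ℤ) ≤ v i ^ 2 := fun i hi => by
      have := hy i
      simp [bit, hi] at this
      have : v i ≤ -2 ∨ 2 ≤ v i := by omega
      rcases this with t | t <;> nlinarith
    have hsplit := Finset.sum_add_sum_compl c (fun i => v i ^ 2)
    obtain ⟨i, hi, hi2⟩ : ∃ i ∈ c, v i = 2 ∨ v i = -2 := by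
      by_contra hh
      push Not at hh
      have : ∀ i ∈ c, (36 : ℤ) ≤ v i ^ 2 := fun i hi => by
        have := hh i hi
        have := hy i
        simp [bit, hi] at this
        have : v i ≤ -6 ∨ 6 ≤ v i := by omega
        rcases this with t | t <;> nlinarith
      have h1 := Finset.card_nsmul_le_sum c _ _ this
      have h2 := Finset.sum_nonneg (s := cᶜ) fun i _ => sq_nonneg (v i)
      rw [nsmul_eq_mul] at h1
      omega
    obtain ⟨j, hj, hj0⟩ : ∃ j ∈ cᶜ, v j = 0 := by
      by_contra hh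
      push Not at hh
      have h16 : ∀ j ∈ cᶜ, (16 : ℤ) ≤ v j ^ 2 := fun j hj => by
        have := hh j hj
        have := hy j
        simp [bit, Finset.mem_compl.1 hj] at this
        have : v j ≤ -4 ∨ 4 ≤ v j := by omega
        rcases this with t | t <;> nlinarith
      have h1 := Finset.card_nsmul_le_sum cᶜ _ _ h16
      have h2 := Finset.card_nsmul_le_sum c _ _ hci
      rw [Finset.card_compl, card_pt, nsmul_eq_mul] at h1
      rw [nsmul_eq_mul] at h2
      have h3 : c.card ≤ 24 := card_pt ▸ Finset.card_le_univ c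
      push_cast [Nat.cast_sub h3] at h1
      omega
    exact ⟨i, j, fun e => (Finset.mem_compl.1 hj) (e ▸ hi), by omega⟩
  · have hodd : ∀ i, ¬ (2 : ℤ) ∣ v i := fun i => by have := hy i; omega
    have hlt : 1 < (Finset.univ.filter fun i => v i = 1 ∨ v i = -1).card := by
      by_contra hh
      push Not at hh
      set s := Finset.univ.filter fun i => v i = 1 ∨ v i = -1 with hs
      have h9 : ∀ i ∈ sᶜ, (9 : ℤ) ≤ v i ^ 2 := fun i hi => by
        simp [hs] at hi
        have := hodd i
        have : v i ≤ -3 ∨ 3 ≤ v i := by omega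
        rcases this with t | t <;> nlinarith
      have h1 := Finset.card_nsmul_le_sum sᶜ _ _ h9
      have h2 := Finset.sum_add_sum_compl s (fun i => v i ^ 2)
      have h3 := Finset.sum_nonneg (s := s) fun i _ => sq_nonneg (v i)
      rw [Finset.card_compl, card_pt, nsmul_eq_mul] at h1
      push_cast [Nat.cast_sub (show s.card ≤ 24 by omega)] at h1
      omega
    obtain ⟨i, hi, j, hj, hij⟩ := Finset.one_lt_card.1 hlt
    simp at hi hj
    exact ⟨i, j, hij, by omega⟩

theorem exists_min_dot_neg8 {v : leechLattice} (hv : sqNorm (v : GolayPt → ℤ) = 48) :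
    ∃ w : leechLattice, sqNorm (w : GolayPt → ℤ) = 32 ∧
      dotInt (w : GolayPt → ℤ) (v : GolayPt → ℤ) = -8 := by
  obtain ⟨i, j, hij, h⟩ := exists_pair_two v.2 hv
  have mk : ∀ a b : ℤ, (a = 4 ∨ a = -4) → (b = 4 ∨ b = -4) →
      a * (v : GolayPt → ℤ) i + b * (v : GolayPt → ℤ) j = -8 →
      ∃ w : leechLattice, sqNorm (w : GolayPt → ℤ) = 32 ∧
        dotInt (w : GolayPt → ℤ) (v : GolayPt → ℤ) = -8 := fun a b ha hb e =>
    ⟨⟨_, (four_spec hij ha hb).1⟩, (four_spec hij ha hb).2, (dotInt_four _ _ _ _ _).trans e⟩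
  rcases h with h | h | h | h
  · exact mk (-4) (-4) (Or.inr rfl) (Or.inr rfl) (by linarith)
  · exact mk 4 4 (Or.inl rfl) (Or.inl rfl) (by linarith)
  · exact mk (-4) 4 (Or.inr rfl) (Or.inl rfl) (by linarith)
  · exact mk 4 (-4) (Or.inl rfl) (Or.inr rfl) (by linarith)

/-- Moving `v + w` to the frame makes `v` the standard vector of norm 48. -/
theorem exists_smul_eq_std48_of (hu : CodeUnique) {v w : leechLattice}
    (hv : sqNorm (v : GolayPt → ℤ) = 48) (hw : sqNorm (w : GolayPt → ℤ) = 32)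
    (hd : dotInt (w : GolayPt → ℤ) (v : GolayPt → ℤ) = -8) :
    ∃ g : Co0, g • (v + w) = frame none ∧ g • v = std48 := by
  classical
  obtain ⟨g, hg⟩ := exists_smul_eq_frame hu (x := v + w) (by
    rw [AddSubgroup.coe_add, sqNorm_add, hv, hw, dotInt_comm, hd]; norm_num)
  set y := ((g • v : leechLattice) : GolayPt → ℤ) with hy
  have h0 : y none = 5 := by
    have := coord_none hg v
    rw [AddSubgroup.coe_add, dotInt_add_left', dotInt_self, hv, hd] at this
    simp only [hy]; omega
  have hyn : sqNorm y = 48 := (sqNorm_smul g v).trans hv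
  obtain ⟨m, hm, c, hc, h⟩ := exists_normal_form (x := y) (g • v).2
  have hm1 : m = 1 := by
    have := h.1 none
    simp only [bit] at this
    split_ifs at this <;> omega
  subst hm1
  have hodd : ∀ i, y i ≤ -1 ∨ 1 ≤ y i := fun i => by have := h.1 i; omega
  have hrest : ∀ i, i ≠ none → y i = 1 ∨ y i = -1 := by
    intro i hi
    have hnn : ∀ k, 0 ≤ y k ^ 2 - 1 := fun k => by
      rcases hodd k with t | t <;> nlinarith
    have hs : ∑ k, (y k ^ 2 - 1) = 24 := by
      rw [Finset.sum_sub_distrib]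
      simp only [sqNorm] at hyn
      rw [hyn]; simp [card_pt, -Fintype.sum_option]
    rw [Finset.sum_eq_add_sum_sdiff_singleton_of_mem (Finset.mem_univ (none : GolayPt)), h0] at hs
    have := (Finset.sum_eq_zero_iff_of_nonneg fun k _ => hnn k).1
      (show ∑ k ∈ Finset.univ \ {(none : GolayPt)}, (y k ^ 2 - 1) = 0 by omega) i (by simp [hi])
    exact sq_eq_cases (by linarith)
  have hcn : none ∉ c := fun e => by
    have := h.1 none
    simp [bit, e, h0] at this
  have hfix : mono 1 hc • frame none = frame none := (mono_fix_frame_iff _ hc).2 ⟨rfl, hcn⟩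
  refine ⟨mono 1 hc * g, by rw [mul_smul, hg, hfix], Subtype.ext (funext fun i => ?_)⟩
  rw [mul_smul, coe_mono_smul, coe_std48]
  show (if i ∈ c then -(y i) else y i) = _
  have h4 := h.1 i
  by_cases hi : i = none
  · subst hi; simp [hcn, h0]
  · rw [if_neg hi]
    rcases hrest i hi with t | t <;> by_cases hic : i ∈ c <;> simp [t, hic, bit] at h4 ⊢

theorem exists_smul_eq_std48 (hu : CodeUnique) {v : leechLattice}
    (hv : sqNorm (v : GolayPt → ℤ) = 48) : ∃ g : Co0, g • v = std48 := by
  obtain ⟨w, hw, hd⟩ := exists_min_dot_neg8 hv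
  obtain ⟨g, -, hg⟩ := exists_smul_eq_std48_of hu hv hw hd
  exact ⟨g, hg⟩

theorem transitive_48 (hu : CodeUnique) {v w : leechLattice}
    (hv : sqNorm (v : GolayPt → ℤ) = 48) (hw : sqNorm (w : GolayPt → ℤ) = 48) :
    ∃ g : Co0, g • v = w := by
  obtain ⟨g, hg⟩ := exists_smul_eq_std48 hu hv
  obtain ⟨h, hh⟩ := exists_smul_eq_std48 hu hw
  exact ⟨h⁻¹ * g, by rw [mul_smul, hg, ← hh, inv_smul_smul]⟩

/-- The canonical decomposition of the standard vector of norm 48. -/
theorem coord_four {v : GolayPt → ℤ} (hn : sqNorm v = 32)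
    (hd : dotInt (std48 : GolayPt → ℤ) v = 24) (h4 : v none = 4) (hv : v ∈ leechLattice) :
    ∃ i, i ≠ none ∧ v = four none i 4 4 := by
  rcases shape32 hv hn with ⟨a, b, hab, ha, hb, h0⟩ | ⟨o, ho, h2, h0⟩ | ⟨a, ha, h1⟩
  · have key : ∀ a b : GolayPt, a = none → a ≠ b → (v b = 4 ∨ v b = -4) →
        (∀ i, i ≠ a → i ≠ b → v i = 0) → ∃ i, i ≠ none ∧ v = four none i 4 4 := by
      rintro _ b rfl hab hb h0
      have e : v = four none b 4 (v b) := by
        funext k
        simp only [four, Pi.add_apply, Pi.single_apply]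
        by_cases h1 : k = none
        · subst h1; simp [h4, hab]
        · by_cases h2 : k = b
          · subst h2; simp [h1]
          · simp [h1, h2, h0 k h1 h2]
      rw [e, dotInt_comm, dotInt_four, coe_std48, coe_std48, if_pos rfl, if_neg hab.symm] at hd
      have hb4 : v b = 4 := by omega
      exact ⟨b, hab.symm, by rw [hb4] at e; exact e⟩
    by_cases han : a = none
    · exact key a b han hab hb h0
    · by_cases hbn : b = none
      · exact key b a hbn hab.symm ha fun i x y => h0 i y x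
      · have := h0 none (Ne.symm han) (Ne.symm hbn); omega
  · by_cases hno : (none : GolayPt) ∈ o
    · have := h2 none hno; omega
    · have := h0 none hno; omega
  · by_cases ha0 : none = a
    · subst ha0; omega
    · have := h1 none ha0; omega

theorem exists_aux_r (hu : CodeUnique) {v w : leechLattice}
    (hv : sqNorm (v : GolayPt → ℤ) = 32) (hw : sqNorm (w : GolayPt → ℤ) = 32)
    (hd : dotInt (v : GolayPt → ℤ) (w : GolayPt → ℤ) = -8) :
    ∃ r : leechLattice, sqNorm (r : GolayPt → ℤ) = 32 ∧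
      dotInt (r : GolayPt → ℤ) (v : GolayPt → ℤ) = 0 ∧
      dotInt (r : GolayPt → ℤ) (w : GolayPt → ℤ) = 16 := by
  obtain ⟨g, hg⟩ := exists_smul_eq_std32 hu hw
  suffices h : ∃ r : leechLattice, sqNorm (r : GolayPt → ℤ) = 32 ∧
      dotInt (r : GolayPt → ℤ) ((g • v : leechLattice) : GolayPt → ℤ) = 0 ∧
      dotInt (r : GolayPt → ℤ) (std32 : GolayPt → ℤ) = 16 by
    obtain ⟨r, h1, h2, h3⟩ := h
    refine ⟨g⁻¹ • r, (sqNorm_smul _ _).trans h1, ?_, ?_⟩
    · rw [← dotInt_smul g, smul_inv_smul, h2]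
    · rw [← dotInt_smul g, smul_inv_smul, hg, h3]
  set y := ((g • v : leechLattice) : GolayPt → ℤ) with hy
  have hyn : sqNorm y = 32 := (sqNorm_smul g v).trans hv
  have hd' : 4 * y none + 4 * y (some 0) = -8 := by
    rw [← dotInt_smul g, hg, dotInt_comm, coe_std32, dotInt_four] at hd
    exact hd
  have mk : ∀ p q : GolayPt, p ≠ q → (p = none ∨ p = some 0) → q ≠ none → q ≠ some 0 →
      (y q = y p ∨ y q = - y p) → ∃ r : leechLattice, sqNorm (r : GolayPt → ℤ) = 32 ∧
        dotInt (r : GolayPt → ℤ) y = 0 ∧ dotInt (r : GolayPt → ℤ) (std32 : GolayPt → ℤ) = 16 := by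
    intro p q hpq hp hq1 hq2 h
    have hpu : (std32 : GolayPt → ℤ) p = 4 := by
      rw [coe_std32]; rcases hp with rfl | rfl <;> simp [four]
    have hqu : (std32 : GolayPt → ℤ) q = 0 := by
      rw [coe_std32]; simp [four, hq1, hq2]
    rcases h with h | h
    · exact ⟨⟨_, (four_spec hpq (Or.inl rfl) (Or.inr rfl)).1⟩,
        (four_spec hpq (Or.inl rfl) (Or.inr rfl)).2, by rw [dotInt_four, h]; ring,
        by rw [dotInt_four, hpu, hqu]; norm_num⟩
    · exact ⟨⟨_, (four_spec hpq (Or.inl rfl) (Or.inl rfl)).1⟩,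
        (four_spec hpq (Or.inl rfl) (Or.inl rfl)).2, by rw [dotInt_four, h]; ring,
        by rw [dotInt_four, hpu, hqu]; norm_num⟩
  have hsmall : (-1 ≤ y none ∧ y none ≤ 1) ∨ (-1 ≤ y (some 0) ∧ y (some 0) ≤ 1) := by
    rcases shape32 (x := y) (g • v).2 hyn with ⟨a, b, hab, ha, hb, h0⟩ | ⟨o, ho, h2, h0⟩ |
      ⟨a, ha, h1⟩
    · have e : ∀ p, y p = 0 ∨ y p = 4 ∨ y p = -4 := fun p => by
        by_cases h1 : p = a
        · subst h1; omega
        · by_cases h2 : p = b
          · subst h2; omega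
          · exact Or.inl (h0 p h1 h2)
      have := e none; have := e (some 0); omega
    · have e : ∀ p, y p = 0 ∨ y p = 2 ∨ y p = -2 := fun p => by
        by_cases h1 : p ∈ o
        · exact Or.inr (h2 p h1)
        · exact Or.inl (h0 p h1)
      have := e none; have := e (some 0); omega
    · have e : ∀ p, y p = 1 ∨ y p = -1 ∨ y p = 3 ∨ y p = -3 := fun p => by
        by_cases h : p = a
        · subst h; omega
        · have := h1 p h; omega
      have := e none; have := e (some 0); omega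
  rcases hsmall with h | h
  · obtain ⟨k, hk1, hk2, hk⟩ := exists_repeat (g • v).2 hyn (a := none) (some 0) h
    exact mk none k hk1.symm (Or.inl rfl) hk1 hk2 hk
  · obtain ⟨k, hk1, hk2, hk⟩ := exists_repeat (g • v).2 hyn (a := some 0) none h
    exact mk (some 0) k hk1.symm (Or.inr rfl) hk2 hk1 hk

/-- Pairs of minimal vectors with product -8 form one orbit. -/
theorem exists_smul_pair (hu : CodeUnique) {v w : leechLattice}
    (hv : sqNorm (v : GolayPt → ℤ) = 32) (hw : sqNorm (w : GolayPt → ℤ) = 32)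
    (hd : dotInt (v : GolayPt → ℤ) (w : GolayPt → ℤ) = -8) :
    ∃ g : Co0, g • v = std32 ∧ g • w = std48 - std32 := by
  obtain ⟨r, hr, hrv, hrw⟩ := exists_aux_r hu hv hw hd
  have hvw' : dotInt (w : GolayPt → ℤ) (v : GolayPt → ℤ) = -8 := by rw [dotInt_comm, hd]
  have hwr : dotInt (w : GolayPt → ℤ) (r : GolayPt → ℤ) = 16 := by rw [dotInt_comm, hrw]
  have ht : sqNorm ((r - w : leechLattice) : GolayPt → ℤ) = 32 := by
    rw [AddSubgroup.coe_sub, sqNorm_sub, hr, hw, hrw]; norm_num
  have hun : sqNorm ((v + w : leechLattice) : GolayPt → ℤ) = 48 := by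
    rw [AddSubgroup.coe_add, sqNorm_add, hv, hw, hd]; norm_num
  obtain ⟨g, hga, hgu⟩ := exists_smul_eq_std48_of hu hun ht (by
    rw [AddSubgroup.coe_sub, AddSubgroup.coe_add, dotInt_sub_left', dotInt_comm _ ((v : GolayPt → ℤ) + _),
      dotInt_add_left', dotInt_comm (w : GolayPt → ℤ) ((v : GolayPt → ℤ) + _), dotInt_add_left',
      dotInt_comm (v : GolayPt → ℤ) (r : GolayPt → ℤ), hrv, hwr, hd, dotInt_self, hw]
    norm_num)
  set y := ((g • v : leechLattice) : GolayPt → ℤ) with hy
  have h4 : y none = 4 := by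
    have := coord_none hga v
    rw [AddSubgroup.coe_add, dotInt_add_left', AddSubgroup.coe_add, dotInt_add_left',
      AddSubgroup.coe_sub, dotInt_sub_left', dotInt_self, hv, hvw', hrv] at this
    simp only [hy]; omega
  obtain ⟨i, hi, hvi⟩ := coord_four (v := y) ((sqNorm_smul g v).trans hv) (by
    rw [← hgu, dotInt_smul, AddSubgroup.coe_add, dotInt_add_left', dotInt_self, hv, hvw']
    norm_num) h4 (g • v).2
  obtain ⟨σ, hσ, h1, h2⟩ := Golay.exists_map_two hi.symm
  let τ : M24 := ⟨σ⁻¹, inv_mem hσ⟩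
  have hτn : τ.1 none = none := by
    show σ⁻¹ none = none
    rw [Equiv.Perm.inv_def, Equiv.symm_apply_eq, h1]
  have hτi : τ.1 i = some 0 := by
    show σ⁻¹ i = some 0
    rw [Equiv.Perm.inv_def, Equiv.symm_apply_eq, h2]
  have hfix : mono τ empty_mem_code • std48 = std48 := by
    apply Subtype.ext
    funext p
    rw [coe_mono_smul, coe_std48]
    simp only [signedPerm, Finset.notMem_empty, if_false, coe_std48]
    have : τ.1.symm p = none ↔ p = none := by rw [Equiv.symm_apply_eq, hτn]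
    simp only [this]
  have hvv : (mono τ empty_mem_code * g) • v = std32 := by
    apply Subtype.ext
    rw [mul_smul, coe_mono_smul, ← hy, hvi, four, signedPerm_add, signedPerm_single,
      signedPerm_single, coe_std32]
    simp [hτn, hτi, four]
  refine ⟨mono τ empty_mem_code * g, hvv, ?_⟩
  have e : w = (v + w) - v := by abel
  rw [e, smul_sub', hvv, mul_smul, hgu, hfix]

theorem transitive_pair (hu : CodeUnique) {v w v' w' : leechLattice}
    (hv : sqNorm (v : GolayPt → ℤ) = 32) (hw : sqNorm (w : GolayPt → ℤ) = 32)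
    (hd : dotInt (v : GolayPt → ℤ) (w : GolayPt → ℤ) = -8)
    (hv' : sqNorm (v' : GolayPt → ℤ) = 32) (hw' : sqNorm (w' : GolayPt → ℤ) = 32)
    (hd' : dotInt (v' : GolayPt → ℤ) (w' : GolayPt → ℤ) = -8) :
    ∃ g : Co0, g • v = v' ∧ g • w = w' := by
  obtain ⟨g, hg1, hg2⟩ := exists_smul_pair hu hv hw hd
  obtain ⟨h, hh1, hh2⟩ := exists_smul_pair hu hv' hw' hd'
  exact ⟨h⁻¹ * g, by rw [mul_smul, hg1, ← hh1, inv_smul_smul],
    by rw [mul_smul, hg2, ← hh2, inv_smul_smul]⟩

end Cfsg.Agent.Leech
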