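import Cfsg.Agent.Lib.Leech.Criterion
import Cfsg.Agent.Lib.Leech.Center
import Cfsg.Agent.Lib.Leech.Orbits
import Cfsg.Agent.Lib.Golay.Simple
import Cfsg.Agent.Lib.Leech.NormTables

/-!
Normalisers of the elements of order 23 and 11 in Co0 and in the stabilisers defining HS, McL.
-/
set_option autoImplicit false

namespace Cfsg.Agent.Leech

open Cfsg
open scoped Pointwise

/-- Monomial maps without signs. -/
noncomputable def permHom : M24 →* Co0 where
  toFun σ := mono σ empty_mem_code
  map_one' := ext_frame fun i => Subtype.ext (by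
    rw [coe_mono_frame, one_smul]; simp [frame])
  map_mul' σ τ := ext_frame fun i => Subtype.ext (by
    rw [coe_mono_frame, mul_smul, coe_mono_smul, coe_mono_frame, signedPerm_single]
    simp)

theorem permHom_injective : Function.Injective permHom := fun _ _ h => (mono_injective h).1

@[simp] theorem coe_permHom_smul (σ : M24) (v : leechLattice) (i : GolayPt) :
    ((permHom σ • v : leechLattice) : GolayPt → ℤ) i = (v : GolayPt → ℤ) (σ.1.symm i) := by
  show signedPerm σ.1 ∅ (v : GolayPt → ℤ) i = _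
  simp [signedPerm]

/-- An element fixing the frame vector and the standard norm 48 vector is a permutation. -/
theorem exists_permHom {y : Co0} (hf : y • frame none = frame none) (hb : y • std48 = std48) :
    ∃ σ : M24, σ.1 none = none ∧ y = permHom σ := by
  obtain ⟨σ, c, hc, rfl⟩ := exists_eq_mono (stdCross_stable hf)
  obtain ⟨h1, h2⟩ := (mono_fix_frame_iff σ hc).1 hf
  have hc0 : c = ∅ := by
    refine Finset.eq_empty_of_forall_notMem fun i hi => ?_
    have hne : i ≠ none := fun e => h2 (e ▸ hi)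
    have hne' : σ.1.symm i ≠ none := fun e => hne (by rw [← σ.1.apply_symm_apply i, e, h1])
    have := congrFun (congrArg Subtype.val hb) i
    rw [coe_mono_smul] at this
    simp [signedPerm, hi, coe_std48, hne, hne'] at this
  subst hc0
  exact ⟨σ, h1, rfl⟩

/-- If `y` normalises `⟨g⟩` (`g` of finite order) then `y` maps `g`-fixed vectors to fixed vectors. -/
theorem smul_fixed_of_normalise [Finite Co0] {g y : Co0} (h : y * g * y⁻¹ ∈ Subgroup.zpowers g)
    {x : leechLattice} (hx : g • x = x) : g • (y • x) = y • x := by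
  have hle : (Subgroup.zpowers g).map (MulAut.conj y).toMonoidHom ≤ Subgroup.zpowers g := by
    rw [MonoidHom.map_zpowers, Subgroup.zpowers_le]
    exact h
  have heq := Subgroup.eq_of_le_of_card_ge hle (le_of_eq
    (Nat.card_congr (Subgroup.equivMapOfInjective _ _ (MulAut.conj y).injective).toEquiv))
  have hg : g ∈ (Subgroup.zpowers g).map (MulAut.conj y).toMonoidHom := by
    rw [heq]; exact Subgroup.mem_zpowers g
  obtain ⟨w, hw, e⟩ := hg
  obtain ⟨j, rfl⟩ := Subgroup.mem_zpowers_iff.1 hw
  have hst : g ^ j ∈ MulAction.stabilizer Co0 x :=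
    Subgroup.zpow_mem _ (MulAction.mem_stabilizer_iff.2 hx) j
  calc g • (y • x) = (y * g ^ j * y⁻¹) • (y • x) := by rw [show y * g ^ j * y⁻¹ = g from e]
    _ = y • (g ^ j • x) := by rw [mul_smul, mul_smul, inv_smul_smul]
    _ = y • x := by rw [MulAction.mem_stabilizer_iff.1 hst]

/-- The vector `(-3, 1, ..., 1)`. -/
def vecA : leechLattice := std48 - frame none

theorem coe_vecA (p : GolayPt) : (vecA : GolayPt → ℤ) p = if p = none then -3 else 1 := by
  show (std48 : GolayPt → ℤ) p - (frame none : GolayPt → ℤ) p = _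
  rw [coe_std48]
  rcases eq_or_ne p none with h | h
  · subst h; simp [frame]
  · simp [frame, h]

theorem smul_frame_of_fix {y : Co0} (ha : y • vecA = vecA) (hb : y • std48 = std48) :
    y • frame none = frame none := by
  rw [vecA, smul_sub', hb] at ha
  exact sub_right_injective ha



open Golay (shift Tab tab_shift tab_permOf powTab)

theorem shift_none : shift none = none := rfl
theorem shift_some (t : ZMod 23) : shift (some t) = some (t + 1) := rfl

theorem g11_mem : Golay.double ∈ M24 := (Golay.gens22_mem (by simp : Golay.double ∈ ({Golay.double, Golay.conjDouble} : Set _))).1.1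

theorem g11_none : Golay.double none = none :=
  (Golay.gens22_mem (by simp : Golay.double ∈ ({Golay.double, Golay.conjDouble} : Set _))).1.2

theorem g11_some (t : ZMod 23) : Golay.double (some t) = some (2 * t) := by
  have h : ∀ i : Fin 23, Golay.pt (Golay.doubleTab.getD (Golay.idx (some (i.val : ZMod 23))) 0) =
      some (2 * (i.val : ZMod 23)) := by decide +kernel
  rw [Golay.double, (tab_permOf _).apply]
  have := h ⟨t.val, ZMod.val_lt t⟩
  simpa using this

theorem shift_pow_some (k : ℕ) (t : ZMod 23) : (shift ^ k) (some t) = some (t + k) := by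
  induction k with
  | zero => simp
  | succ n ih => rw [pow_succ', Equiv.Perm.mul_apply, ih, shift_some]; push_cast; ring_nf

theorem g11_pow_some (k : ℕ) (t : ZMod 23) : (Golay.double ^ k) (some t) = some (2 ^ k * t) := by
  induction k with
  | zero => simp
  | succ n ih => rw [pow_succ', Equiv.Perm.mul_apply, ih, g11_some, pow_succ']; ring_nf

/-- The element of order 23. -/
noncomputable def g23 : Co0 := permHom ⟨shift, Golay.shift_mem⟩

/-- The element of order 11. -/
noncomputable def g11 : Co0 := permHom ⟨Golay.double, g11_mem⟩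

theorem orderOf_g23 : orderOf g23 = 23 := by
  rw [g23, orderOf_injective _ permHom_injective, Subgroup.orderOf_mk]
  exact Golay.orderOf_gens.1

theorem orderOf_g11 : orderOf g11 = 11 := by
  rw [g11, orderOf_injective _ permHom_injective, Subgroup.orderOf_mk]
  exact Golay.orderOf_gens.2.2.1

theorem exists_nat_pow {g y : Co0} {n : ℕ} (hn : orderOf g = n) (hn0 : 0 < n)
    (h : y * g * y⁻¹ ∈ Subgroup.zpowers g) : ∃ k < n, y * g * y⁻¹ = g ^ k := by
  obtain ⟨j, hj⟩ := Subgroup.mem_zpowers_iff.1 h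
  refine ⟨(j % n).toNat, ?_, ?_⟩
  · have := Int.emod_lt_of_pos j (show (0 : ℤ) < n by omega)
    have := Int.emod_nonneg j (show (n : ℤ) ≠ 0 by omega)
    omega
  · rw [← hj, ← zpow_natCast, Int.toNat_of_nonneg (Int.emod_nonneg j (by omega)), ← hn,
      zpow_mod_orderOf]

/-- The relation transported to permutations. -/
theorem perm_rel {σ s : M24} {k : ℕ} (h : permHom σ * permHom s * (permHom σ)⁻¹ = permHom s ^ k)
    (p : GolayPt) : σ.1 (s.1 p) = (s.1 ^ k) (σ.1 p) := by
  have e : permHom (σ * s * σ⁻¹) = permHom (s ^ k) := by simpa using h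
  have e' := congrArg Subtype.val (permHom_injective e)
  simp only [Subgroup.coe_mul, Subgroup.coe_inv, SubgroupClass.coe_pow] at e'
  rw [← e']
  simp

/-- Iterating a conjugation relation. -/
theorem conj_pow_rel {G : Type*} [Group G] {x g : G} {k : ℕ} (h : x * g * x⁻¹ = g ^ k) (n : ℕ) :
    x ^ n * g * (x ^ n)⁻¹ = g ^ k ^ n := by
  induction n with
  | zero => simp
  | succ n ih =>
    calc x ^ (n + 1) * g * (x ^ (n + 1))⁻¹ = x * (x ^ n * g * (x ^ n)⁻¹) * x⁻¹ := by
          rw [pow_succ']; group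
      _ = x * g ^ k ^ n * x⁻¹ := by rw [ih]
      _ = _ := by rw [← conj_pow, h, ← pow_mul, ← pow_succ']

theorem commute_of_rel {G : Type*} [Group G] {x g : G} {k n m : ℕ} (hg : orderOf g = m)
    (h : x * g * x⁻¹ = g ^ k) (hk : k ^ n % m = 1) : x ^ n * g = g * x ^ n := by
  have := conj_pow_rel h n
  rw [← pow_mod_orderOf g (k ^ n), hg, hk, pow_one] at this
  exact mul_inv_eq_iff_eq_mul.1 this

theorem perm_hall_23 {σ : M24} {k : ℕ} {a : ZMod 23}
    (hrel : permHom σ * g23 * (permHom σ)⁻¹ = g23 ^ k) (ha : σ.1 (some 0) = some a) :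
    ∀ n : ℕ, σ.1 (some (n : ZMod 23)) = some (((k * n : ℕ) : ZMod 23) + a) := by
  intro n
  induction n with
  | zero => simpa using ha
  | succ n ih =>
    have := perm_rel hrel (some (n : ZMod 23))
    rw [shift_some, ih, shift_pow_some] at this
    rw [Nat.cast_succ, this]
    push_cast; ring_nf

theorem perm_centralise_23 {σ : M24} (h0 : σ.1 none = none)
    (hc : permHom σ * g23 = g23 * permHom σ) : permHom σ ∈ Subgroup.zpowers g23 := by
  have hrel : permHom σ * g23 * (permHom σ)⁻¹ = g23 ^ 1 := by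
    rw [hc, mul_inv_cancel_right, pow_one]
  obtain ⟨a, ha⟩ : ∃ a : ZMod 23, σ.1 (some 0) = some a :=
    Option.ne_none_iff_exists'.1 fun e => by
      simpa using σ.1.injective (e.trans h0.symm)
  have : σ = (⟨shift, Golay.shift_mem⟩ : M24) ^ a.val := by
    refine Subtype.ext (Equiv.ext ?_)
    rw [SubgroupClass.coe_pow]
    rintro (_ | t)
    · rw [h0]
      exact (Equiv.Perm.pow_apply_eq_self_of_apply_eq_self shift_none _).symm
    · have := perm_hall_23 hrel ha t.val
      rw [ZMod.natCast_zmod_val] at this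
      rw [this, shift_pow_some, one_mul, ZMod.natCast_zmod_val, ZMod.natCast_zmod_val]
  rw [this, map_pow]
  exact Subgroup.pow_mem _ (Subgroup.mem_zpowers _) _

theorem pow_fix {σ : M24} (h0 : σ.1 none = none) (n : ℕ) : (σ ^ n).1 none = none := by
  rw [SubgroupClass.coe_pow]
  exact Equiv.Perm.pow_apply_eq_self_of_apply_eq_self h0 n

theorem pow_eq_one_of_mem {G : Type*} [Group G] {x g : G} {n m N : ℕ} (hg : orderOf g = m)
    (h : x ^ n ∈ Subgroup.zpowers g) (hN : N = n * m) : x ^ N = 1 := by
  rw [hN, pow_mul]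
  obtain ⟨j, hj⟩ := Subgroup.mem_zpowers_iff.1 h
  rw [← hj, ← zpow_natCast, ← zpow_mul, mul_comm, zpow_mul, zpow_natCast, ← hg, pow_orderOf_eq_one,
    one_zpow]

theorem perm_normalise_23 {σ : M24} (h0 : σ.1 none = none)
    (h : permHom σ * g23 * (permHom σ)⁻¹ ∈ Subgroup.zpowers g23) :
    permHom σ ^ 253 = 1 ∧
      (permHom σ * g23 = g23 * permHom σ → permHom σ ∈ Subgroup.zpowers g23) := by
  refine ⟨?_, perm_centralise_23 h0⟩
  obtain ⟨k, hk, hrel⟩ := exists_nat_pow orderOf_g23 (by norm_num) h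
  obtain ⟨a, ha⟩ : ∃ a : ZMod 23, σ.1 (some 0) = some a :=
    Option.ne_none_iff_exists'.1 fun e => by
      simpa using σ.1.injective (e.trans h0.symm)
  have hall := perm_hall_23 hrel ha
  have htab : Tab σ.1 (affTab k a.val) := by
    intro i hi
    rw [affTab, Golay.getD_map_range _ hi]
    rcases eq_or_ne i 23 with e | e
    · subst e
      show Golay.idx (σ.1 none) = _
      rw [h0]; rfl
    · rw [if_neg e, show Golay.pt i = some (i : ZMod 23) from if_pos (by omega), hall]
      simp only [Golay.idx, ZMod.val_add, ZMod.val_natCast]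
      simp [Nat.add_mod]
  have hk0 : k ≠ 0 := by
    rintro rfl
    have := hall 1
    have h2 := hall 0
    simp only [Nat.zero_mul, Nat.cast_zero, zero_add] at this h2
    have := Option.some.inj (σ.1.injective (this.trans h2.symm))
    rw [Nat.cast_one] at this
    have : Fact (1 < 23) := ⟨by norm_num⟩
    exact one_ne_zero (α := ZMod 23) ‹_›
  rcases aff_facts ⟨k, hk⟩ ⟨a.val, ZMod.val_lt a⟩ with e | e | e
  · exact absurd e hk0
  · have hc := commute_of_rel orderOf_g23 hrel e
    rw [← map_pow] at hc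
    have := perm_centralise_23 (pow_fix h0 11) hc
    rw [map_pow] at this
    exact pow_eq_one_of_mem (n := 11) orderOf_g23 this (by norm_num)
  · exact absurd σ.2 (not_mem_of_autFail htab e)

theorem dotInt_sum (x y : GolayPt → ℤ) : dotInt x y = ∑ i, x i * y i := rfl

/-- An element of Co0 normalising the group of order 23, up to sign. -/
theorem normalise_23 [Finite Co0] {y : Co0} (h : y * g23 * y⁻¹ ∈ Subgroup.zpowers g23) :
    ∃ z : Co0, (z = 1 ∨ z = negOne) ∧ (z * y) ^ 253 = 1 ∧
      (y * g23 = g23 * y → z * y ∈ Subgroup.zpowers g23) := by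
  have hgA : g23 • vecA = vecA := by
    apply Subtype.ext; funext i
    rw [g23, coe_permHom_smul, coe_vecA, coe_vecA]
    simp only [Equiv.symm_apply_eq, shift_none]
  have hfix : ∀ y' : Co0, y' * g23 * y'⁻¹ ∈ Subgroup.zpowers g23 → ∀ x : leechLattice,
      g23 • x = x → ∃ a b : ℤ, ((y' • x : leechLattice) : GolayPt → ℤ) =
        fun p => if p = none then a else b := by
    intro y' hy' x hx
    have hx' := smul_fixed_of_normalise hy' hx
    set w : GolayPt → ℤ := ((y' • x : leechLattice) : GolayPt → ℤ) with hw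
    have hstep : ∀ t : ZMod 23, w (some (t + 1)) = w (some t) := by
      intro t
      have := congrFun (congrArg Subtype.val hx') (some (t + 1))
      rw [g23, coe_permHom_smul] at this
      rw [show (shift : Equiv.Perm GolayPt).symm (some (t + 1)) = some t from
        (Equiv.symm_apply_eq _).2 (shift_some t).symm] at this
      exact this.symm
    refine ⟨w none, w (some 0), funext fun p => ?_⟩
    rcases p with _ | t
    · rfl
    · have : ∀ n : ℕ, w (some (n : ZMod 23)) = w (some 0) := fun n => by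
        induction n with
        | zero => simp
        | succ n ih => rw [Nat.cast_succ, hstep, ih]
      simpa using this t.val
  obtain ⟨a, b, hab⟩ := hfix y h vecA hgA
  have hn : a * a + 23 * (b * b) = 32 := by
    have h1 := sqNorm_smul y vecA
    rw [hab, ← dotInt_self, ← dotInt_self, dotInt_sum, dotInt_sum, Fintype.sum_option,
      Fintype.sum_option] at h1
    simpa [coe_vecA, ZMod.card] using h1
  have h8 : (8 : ℤ) ∣ -3 * a + 23 * b := by
    have h1 := eight_dvd_dotInt vecA.2 (y • vecA).2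
    rw [hab, dotInt_sum, Fintype.sum_option] at h1
    simpa [coe_vecA, ZMod.card] using h1
  have hb : b = 1 ∨ b = -1 := by
    have : -1 ≤ b ∧ b ≤ 1 := ⟨by nlinarith, by nlinarith⟩
    rcases (show b = 0 ∨ b = 1 ∨ b = -1 by omega) with e | e
    · subst e
      have : -5 ≤ a ∧ a ≤ 5 := ⟨by nlinarith, by nlinarith⟩
      obtain ⟨h1, h2⟩ := this
      interval_cases a <;> simp_all
    · exact e
  have hA : y • vecA = vecA ∨ y • vecA = -vecA := by
    have ha : -3 ≤ a ∧ a ≤ 3 := ⟨by rcases hb with e | e <;> subst e <;> nlinarith,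
      by rcases hb with e | e <;> subst e <;> nlinarith⟩
    have haa : (a = -3 ∧ b = 1) ∨ (a = 3 ∧ b = -1) := by
      obtain ⟨h1, h2⟩ := ha
      rcases hb with e | e <;> subst e <;> interval_cases a <;> omega
    rcases haa with ⟨rfl, rfl⟩ | ⟨rfl, rfl⟩
    · exact Or.inl (Subtype.ext (hab.trans (funext fun p => (coe_vecA p).symm)))
    · refine Or.inr (Subtype.ext (hab.trans (funext fun p => ?_)))
      show _ = -((vecA : GolayPt → ℤ) p)
      rw [coe_vecA]; split_ifs <;> rfl
  obtain ⟨z, hz, hzA⟩ : ∃ z : Co0, (z = 1 ∨ z = negOne) ∧ (z * y) • vecA = vecA := by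
    rcases hA with e | e
    · exact ⟨1, Or.inl rfl, by rw [one_mul, e]⟩
    · exact ⟨negOne, Or.inr rfl, by rw [mul_smul, e, negOne_smul, neg_neg]⟩
  refine ⟨z, hz, ?_⟩
  have hzc : z ∈ Subgroup.center Co0 := by
    rcases hz with rfl | rfl
    · exact one_mem _
    · exact negOne_mem_center
  have hcj : z * y * g23 * (z * y)⁻¹ = y * g23 * y⁻¹ := by
    rw [mul_inv_rev, Subgroup.mem_center_iff] at *
    calc z * y * g23 * (y⁻¹ * z⁻¹) = z * (y * g23 * y⁻¹) * z⁻¹ := by group
      _ = _ := by rw [← hzc, mul_inv_cancel_right]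
  set y' := z * y with hy'
  have h' : y' * g23 * y'⁻¹ ∈ Subgroup.zpowers g23 := hcj ▸ h
  have hgB : g23 • std48 = std48 := by
    apply Subtype.ext; funext i
    rw [g23, coe_permHom_smul, coe_std48, coe_std48]
    simp only [Equiv.symm_apply_eq, shift_none]
  obtain ⟨c, d, hcd⟩ := hfix y' h' std48 hgB
  have hB : y' • std48 = std48 := by
    have h1 := sqNorm_smul y' std48
    have h2 := dotInt_smul y' vecA std48
    rw [hzA] at h2
    rw [hcd] at h1 h2
    rw [← dotInt_self, ← dotInt_self, dotInt_sum, dotInt_sum, Fintype.sum_option,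
      Fintype.sum_option] at h1
    rw [dotInt_sum, dotInt_sum, Fintype.sum_option, Fintype.sum_option] at h2
    simp [coe_vecA, coe_std48, ZMod.card] at h1 h2
    have hd : -1 ≤ d ∧ d ≤ 1 := ⟨by nlinarith, by nlinarith⟩
    obtain ⟨hd1, hd2⟩ := hd
    have : c = 5 ∧ d = 1 := by
      interval_cases d
      · exfalso; omega
      · exfalso
        have : c * c = 48 := by linarith
        have : -7 < c ∧ c < 7 := ⟨by nlinarith, by nlinarith⟩
        obtain ⟨h3, h4⟩ := this
        interval_cases c <;> omega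
      · omega
    obtain ⟨rfl, rfl⟩ := this
    exact Subtype.ext (hcd.trans (funext fun p => (coe_std48 p).symm))
  obtain ⟨σ, h0, hσ⟩ := exists_permHom (smul_frame_of_fix hzA hB) hB
  rw [hσ] at h' ⊢
  obtain ⟨h1, h2⟩ := perm_normalise_23 h0 h'
  refine ⟨h1, fun hc => h2 ?_⟩
  rw [← hσ, hy', mul_assoc, hc, ← mul_assoc, ← (Subgroup.mem_center_iff.1 hzc g23), mul_assoc]

/-- The classes of the coordinates under `Golay.double`. -/
def cls : GolayPt → Fin 4
  | none => 0
  | some t => if t = 0 then 1 else if ∃ n : Fin 11, t = 2 ^ n.val then 2 else 3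

theorem sum_cls (f : Fin 4 → ℤ) : ∑ p, f (cls p) = f 0 + f 1 + 11 * f 2 + 11 * f 3 := by
  have hcard : ∀ j : Fin 4, (Finset.univ.filter fun p => cls p = j).card = [1, 1, 11, 11].getD j.val 0 := by
    decide +kernel
  rw [← Finset.sum_fiberwise Finset.univ cls (fun p => f (cls p))]
  have : ∀ j : Fin 4, ∑ p ∈ Finset.univ.filter (fun p => cls p = j), f (cls p) =
      ([1, 1, 11, 11].getD j.val 0 : ℕ) * f j := by
    intro j
    rw [Finset.sum_congr rfl (fun p hp => congrArg f (Finset.mem_filter.1 hp).2), Finset.sum_const,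
      hcard, nsmul_eq_mul]
  simp only [this, Fin.sum_univ_four]
  simp

theorem perm_hall_11 {σ : M24} {k : ℕ} {t u : ZMod 23}
    (hrel : permHom σ * g11 * (permHom σ)⁻¹ = g11 ^ k) (hu : σ.1 (some t) = some u) :
    ∀ n : ℕ, σ.1 (some (2 ^ n * t)) = some (2 ^ (k * n) * u) := by
  intro n
  induction n with
  | zero => simpa using hu
  | succ n ih =>
    have := perm_rel hrel (some (2 ^ n * t))
    rw [g11_some, ih, g11_pow_some, ← mul_assoc, ← pow_succ'] at this
    rw [this, ← mul_assoc, ← pow_add, Nat.mul_succ, Nat.add_comm]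

theorem perm_tab_11 {σ : M24} {k : ℕ} {u w : ZMod 23} (h0 : σ.1 none = none)
    (h1 : σ.1 (some 0) = some 0) (hrel : permHom σ * g11 * (permHom σ)⁻¹ = g11 ^ k)
    (hu : σ.1 (some 1) = some u) (hw : σ.1 (some 5) = some w) :
    Tab σ.1 (semTab k u.val w.val) := by
  intro i hi
  rw [semTab, Golay.getD_map_range _ hi]
  rcases eq_or_ne i 23 with e | e
  · subst e
    show Golay.idx (σ.1 none) = _
    rw [h0]; rfl
  rw [if_neg e]
  rcases eq_or_ne i 0 with e' | e'
  · subst e'
    show Golay.idx (σ.1 (some 0)) = _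
    rw [h1]; rfl
  rw [if_neg e', show Golay.pt i = some (i : ZMod 23) from if_pos (by omega)]
  rcases log_facts ⟨i, hi⟩ with h' | h' | ⟨hc, hv⟩ | ⟨hc, hv⟩
  · exact absurd h' e'
  · exact absurd h' e
  · simp only [] at hc hv
    rw [if_pos hc, hv, ← mul_one ((2 : ZMod 23) ^ _), perm_hall_11 hrel hu]
    simp only [Golay.idx]
    rw [← ZMod.val_natCast]
    congr 1
    push_cast
    simp
  · simp only [] at hc hv
    rw [if_neg (by rw [hc]; norm_num), hv, mul_comm, perm_hall_11 hrel hw]
    simp only [Golay.idx]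
    rw [← ZMod.val_natCast]
    congr 1
    push_cast
    simp

theorem perm_exists_u {σ : M24} (h0 : σ.1 none = none) (t : ZMod 23) :
    ∃ u, σ.1 (some t) = some u :=
  Option.ne_none_iff_exists'.1 fun e => by
    simpa using σ.1.injective (e.trans h0.symm)

theorem perm_centralise_11 {σ : M24} (h0 : σ.1 none = none) (h1 : σ.1 (some 0) = some 0)
    (hc : permHom σ * g11 = g11 * permHom σ) : permHom σ ∈ Subgroup.zpowers g11 := by
  have hrel : permHom σ * g11 * (permHom σ)⁻¹ = g11 ^ 1 := by
    rw [hc, mul_inv_cancel_right, pow_one]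
  obtain ⟨u, hu⟩ := perm_exists_u h0 1
  obtain ⟨w, hw⟩ := perm_exists_u h0 5
  have htab := perm_tab_11 h0 h1 hrel hu hw
  rcases sem_facts 1 (by norm_num) one_ne_zero ⟨u.val, ZMod.val_lt u⟩ ⟨w.val, ZMod.val_lt w⟩ with
    ⟨-, e⟩ | e | e
  · rcases e with e | ⟨n, hn1, hn2⟩
    · exact absurd rfl e
    have hu' : u = 2 ^ n.val := by
      rw [← ZMod.natCast_zmod_val u]; simp only [] at hn1; rw [hn1, ZMod.natCast_mod]; push_cast; rfl
    have hw' : w = 2 ^ n.val * 5 := by
      rw [← ZMod.natCast_zmod_val w]; simp only [] at hn2; rw [hn2, ZMod.natCast_mod]; push_cast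
      exact mul_comm _ _
    have : σ = (⟨Golay.double, g11_mem⟩ : M24) ^ n.val := by
      refine Subtype.ext (Equiv.ext ?_)
      rw [SubgroupClass.coe_pow]
      rintro (_ | t)
      · rw [h0]
        exact (Equiv.Perm.pow_apply_eq_self_of_apply_eq_self g11_none _).symm
      · have hcls : ∀ s : ZMod 23, s = 0 ∨ ∃ m : Fin 11, s = 2 ^ m.val * 1 ∨ s = 2 ^ m.val * 5 := by
          decide +kernel
        rw [g11_pow_some]
        rcases hcls t with rfl | ⟨m, rfl | rfl⟩
        · rw [h1, mul_zero]
        · rw [perm_hall_11 hrel hu, hu', one_mul]; ring_nf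
        · rw [perm_hall_11 hrel hw, hw', one_mul]; ring_nf
    rw [this, map_pow]
    exact Subgroup.pow_mem _ (Subgroup.mem_zpowers _) _
  · exact absurd (isPermTab_of_tab htab) (by rw [e]; simp)
  · exact absurd σ.2 (not_mem_of_autFail htab e)

theorem perm_normalise_11 {σ : M24} (h0 : σ.1 none = none) (h1 : σ.1 (some 0) = some 0)
    (h : permHom σ * g11 * (permHom σ)⁻¹ ∈ Subgroup.zpowers g11) :
    permHom σ ^ 55 = 1 ∧
      (permHom σ * g11 = g11 * permHom σ → permHom σ ∈ Subgroup.zpowers g11) := by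
  refine ⟨?_, perm_centralise_11 h0 h1⟩
  obtain ⟨k, hk, hrel⟩ := exists_nat_pow orderOf_g11 (by norm_num) h
  have hk0 : k ≠ 0 := by
    rintro rfl
    rw [pow_zero, mul_inv_eq_one] at hrel
    have : g11 = 1 := mul_left_cancel (a := permHom σ) (hrel.trans (mul_one _).symm)
    have h' := orderOf_g11
    rw [this, orderOf_one] at h'
    norm_num at h'
  obtain ⟨u, hu⟩ := perm_exists_u h0 1
  obtain ⟨w, hw⟩ := perm_exists_u h0 5
  have htab := perm_tab_11 h0 h1 hrel hu hw
  rcases sem_facts k hk hk0 ⟨u.val, ZMod.val_lt u⟩ ⟨w.val, ZMod.val_lt w⟩ with ⟨e, -⟩ | e | e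
  · have hc := commute_of_rel orderOf_g11 hrel e
    rw [← map_pow] at hc
    have h1' : (σ ^ 5).1 (some 0) = some 0 := by
      rw [SubgroupClass.coe_pow]
      exact Equiv.Perm.pow_apply_eq_self_of_apply_eq_self h1 5
    have := perm_centralise_11 (pow_fix h0 5) h1' hc
    rw [map_pow] at this
    exact pow_eq_one_of_mem (n := 5) orderOf_g11 this (by norm_num)
  · exact absurd (isPermTab_of_tab htab) (by rw [e]; simp)
  · exact absurd σ.2 (not_mem_of_autFail htab e)

/-- An element normalising the group of order 11 and fixing the two vectors of HS or McL. -/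
theorem normalise_11 [Finite Co0] {y : Co0} (hy48 : y • std48 = std48)
    (hy : y • std32 = std32 ∨ y • Spor.leechU' = Spor.leechU')
    (h : y * g11 * y⁻¹ ∈ Subgroup.zpowers g11) :
    y ^ 55 = 1 ∧ (y * g11 = g11 * y → y ∈ Subgroup.zpowers g11) := by
  have hgA : g11 • vecA = vecA := by
    apply Subtype.ext; funext i
    rw [g11, coe_permHom_smul, coe_vecA, coe_vecA]
    simp only [Equiv.symm_apply_eq, g11_none]
  have hx := smul_fixed_of_normalise h hgA
  set x : GolayPt → ℤ := ((y • vecA : leechLattice) : GolayPt → ℤ) with hxdef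
  have hstep : ∀ t : ZMod 23, x (some (2 * t)) = x (some t) := by
    intro t
    have := congrFun (congrArg Subtype.val hx) (some (2 * t))
    rw [g11, coe_permHom_smul] at this
    rw [show (Golay.double : Equiv.Perm GolayPt).symm (some (2 * t)) = some t from
      (Equiv.symm_apply_eq _).2 (g11_some t).symm] at this
    exact this.symm
  have hpow : ∀ (n : ℕ) (t : ZMod 23), x (some (2 ^ n * t)) = x (some t) := fun n t => by
    induction n with
    | zero => simp
    | succ n ih => rw [pow_succ', mul_assoc, hstep, ih]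
  let f : Fin 4 → ℤ := ![x none, x (some 0), x (some 1), x (some 5)]
  have hxf : ∀ p, x p = f (cls p) := by
    rintro (_ | t)
    · rfl
    · have hcls : ∀ s : ZMod 23, (s = 0 ∧ cls (some s) = 1) ∨
          ∃ n : Fin 11, (cls (some s) = 2 ∧ s = 2 ^ n.val * 1) ∨
            (cls (some s) = 3 ∧ s = 2 ^ n.val * 5) := by decide +kernel
      rcases hcls t with ⟨rfl, e⟩ | ⟨n, ⟨e, ht⟩ | ⟨e, ht⟩⟩
      · rw [e]; rfl
      · rw [e, ht, hpow]; rfl
      · rw [e, ht, hpow]; rfl
  have hA4 : ∀ p, (vecA : GolayPt → ℤ) p = ![-3, 1, 1, 1] (cls p) := by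
    simp only [coe_vecA]; decide +kernel
  have hB4 : ∀ p, (std48 : GolayPt → ℤ) p = ![5, 1, 1, 1] (cls p) := by
    simp only [coe_std48]; decide +kernel
  have hU : ∀ p, (std32 : GolayPt → ℤ) p = ![4, 4, 0, 0] (cls p) := by
    show ∀ p, Spor.vecU p = _
    decide +kernel
  have hU' : ∀ p, (Spor.leechU' : GolayPt → ℤ) p = ![4, -4, 0, 0] (cls p) := by
    show ∀ p, Spor.vecU' p = _
    decide +kernel
  have key : ∀ (v : leechLattice) (gv : Fin 4 → ℤ), (∀ p, (v : GolayPt → ℤ) p = gv (cls p)) →
      y • v = v → f 0 * gv 0 + f 1 * gv 1 + 11 * (f 2 * gv 2) + 11 * (f 3 * gv 3) =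
        -3 * gv 0 + gv 1 + 11 * gv 2 + 11 * gv 3 := by
    intro v gv hgv hfix
    have h2 := dotInt_smul y vecA v
    rw [hfix] at h2
    change dotInt x _ = _ at h2
    simp only [dotInt_sum, hxf, hgv, hA4] at h2
    rw [sum_cls fun j => f j * gv j, sum_cls fun j => ![(-3 : ℤ), 1, 1, 1] j * gv j] at h2
    simpa using h2
  have hn : f 0 * f 0 + f 1 * f 1 + 11 * (f 2 * f 2) + 11 * (f 3 * f 3) = 32 := by
    have h1 := sqNorm_smul y vecA
    change sqNorm x = _ at h1
    rw [← dotInt_self, ← dotInt_self] at h1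
    simp only [dotInt_sum, hxf, hA4] at h1
    rw [sum_cls fun j => f j * f j, sum_cls fun j => ![(-3 : ℤ), 1, 1, 1] j * ![(-3 : ℤ), 1, 1, 1] j] at h1
    simpa using h1
  have h48 := key std48 _ hB4 hy48
  have hsecond : 4 * f 0 + 4 * f 1 = -8 ∨ 4 * f 0 - 4 * f 1 = -16 := by
    rcases hy with e | e
    · left; have := key std32 _ hU e; simp at this; linarith
    · right; have := key Spor.leechU' _ hU' e; simp at this; linarith
  simp at h48
  have hc : -1 ≤ f 2 ∧ f 2 ≤ 1 := ⟨by nlinarith, by nlinarith⟩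
  have hd : -1 ≤ f 3 ∧ f 3 ≤ 1 := ⟨by nlinarith, by nlinarith⟩
  have hsol : f 0 = -3 ∧ f 1 = 1 ∧ f 2 = 1 ∧ f 3 = 1 := by
    rcases hsecond with e | e
    · have h01 : f 1 = -2 - f 0 := by omega
      have h0 : -6 < f 0 ∧ f 0 < 6 := ⟨by nlinarith, by nlinarith⟩
      rw [h01] at hn h48 ⊢
      obtain ⟨a1, a2⟩ := h0
      obtain ⟨c1, c2⟩ := hc
      obtain ⟨d1, d2⟩ := hd
      interval_cases hh : f 0 <;> omega
    · have h01 : f 1 = f 0 + 4 := by omega
      have h0 : -6 < f 0 ∧ f 0 < 6 := ⟨by nlinarith, by nlinarith⟩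
      rw [h01] at hn h48 ⊢
      obtain ⟨a1, a2⟩ := h0
      obtain ⟨c1, c2⟩ := hc
      obtain ⟨d1, d2⟩ := hd
      interval_cases hh : f 0 <;> omega
  have hA : y • vecA = vecA := by
    apply Subtype.ext; funext p
    show x p = _
    rw [hxf, hA4]
    obtain ⟨a, b, c, d⟩ := hsol
    have : f = ![-3, 1, 1, 1] := by funext j; fin_cases j <;> assumption
    rw [this]
  obtain ⟨σ, h0, rfl⟩ := exists_permHom (smul_frame_of_fix hA hy48) hy48
  refine perm_normalise_11 h0 ?_ h
  rcases hy with e | e <;>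
  · have e' := congrFun (congrArg Subtype.val e) (σ.1 (some 0))
    rw [coe_permHom_smul, Equiv.symm_apply_apply] at e'
    first
      | rw [hU, hU] at e'
      | rw [hU', hU'] at e'
    have hz : ∀ p : GolayPt, p = none ∨ p = some 0 ∨ cls p = 2 ∨ cls p = 3 := by decide +kernel
    rcases hz (σ.1 (some 0)) with a | a | a | a
    · exact absurd (σ.1.injective (a.trans h0.symm)) (by simp)
    · exact a
    all_goals (rw [a] at e'; simp [cls] at e')

end Cfsg.Agent.Leech
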