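import Cfsg.Agent.Lib.Leech.CodeUniqueOf
import Cfsg.Agent.Lib.Steiner.Unique24

/-!
Uniqueness of the code, unconditionally.
-/
set_option autoImplicit false

namespace Cfsg.Agent.Leech

open Cfsg

theorem codeUnique : CodeUnique :=
  codeUnique_of_steiner fun _ hB =>
    Steiner.setSystemIso24 card_pt card_pt hB Golay.octads_steiner

end Cfsg.Agent.Leech
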