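import Cfsg.Agent.Lib.Leech.Orbits
import Cfsg.Agent.SporStruct.SteinerCount

/-!
The 552 decompositions of a norm 48 vector, and the orders of the stabilisers.
-/
set_option autoImplicit false

namespace Cfsg.Agent.Leech

open Cfsg
open scoped Pointwise

/-- Minimal vectors with product 24 with the standard norm 48 vector. -/
def decomp : Set (GolayPt → ℤ) :=
  {v | v ∈ leechLattice ∧ sqNorm v = 32 ∧ dotInt (std48 : GolayPt → ℤ) v = 24}

theorem decomp_flip {v : GolayPt → ℤ} (hv : v ∈ decomp) :
    (std48 : GolayPt → ℤ) - v ∈ decomp := by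
  refine ⟨sub_mem (SetLike.coe_mem _) hv.1, ?_, ?_⟩
  · rw [sqNorm_sub, sqNorm_std48, hv.2.1, hv.2.2]; norm_num
  · rw [dotInt_comm, dotInt_sub_left', dotInt_self, sqNorm_std48, dotInt_comm, hv.2.2]; norm_num

/-- All twos on an octad. -/
def octVec (o : Finset GolayPt) : GolayPt → ℤ := fun i => 2 * bit o i

theorem octVec_mem {o : Finset GolayPt} (ho : o ∈ octads) (hn : (none : GolayPt) ∈ o) :
    octVec o ∈ decomp ∧ octVec o none = 2 := by
  have h2 : octVec o none = 2 := by simp [octVec, bit, hn]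
  refine ⟨⟨?_, ?_, ?_⟩, h2⟩
  · refine mem_lattice_iff.2 ⟨0, o, ho.1, fun i => by simp [octVec], ?_⟩
    simp only [octVec, ← Finset.mul_sum, sum_bit, ho.2]
    norm_num
  · have e : ∀ i, octVec o i ^ 2 = 4 * bit o i := fun i => by
      simp only [octVec]; linear_combination 4 * bit_sq o i
    simp only [sqNorm, e, ← Finset.mul_sum, sum_bit, ho.2]
    norm_num
  · rw [dotInt_std48, h2]
    simp only [octVec, ← Finset.mul_sum, sum_bit, ho.2]
    norm_num

theorem four_mem_decomp {i : GolayPt} (hi : i ≠ none) :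
    four none i 4 4 ∈ decomp ∧ four none i 4 4 none = 4 := by
  obtain ⟨h1, h2⟩ := four_spec hi.symm (Or.inl rfl : (4 : ℤ) = 4 ∨ (4 : ℤ) = -4) (Or.inl rfl : (4 : ℤ) = 4 ∨ (4 : ℤ) = -4)
  refine ⟨⟨h1, h2, ?_⟩, by simp [four, hi.symm]⟩
  rw [dotInt_comm, dotInt_four, coe_std48, coe_std48, if_pos rfl, if_neg hi]
  norm_num

theorem decomp_two {v : GolayPt → ℤ} (hv : v ∈ decomp) (h2 : v none = 2) :
    ∃ o ∈ octads, (none : GolayPt) ∈ o ∧ v = octVec o := by
  rcases shape32 hv.1 hv.2.1 with ⟨a, b, _, ha, hb, h0⟩ | ⟨o, ho, ho2, h0⟩ | ⟨a, ha, h1⟩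
  · by_cases h1 : none = a
    · subst h1; omega
    · by_cases h3 : none = b
      · subst h3; omega
      · have := h0 none h1 h3; omega
  · have hno : (none : GolayPt) ∈ o := by
      by_contra h; have := h0 none h; omega
    refine ⟨o, ho, hno, ?_⟩
    have h := hv.2.2
    rw [dotInt_std48, h2, ← Finset.sum_subset (Finset.subset_univ o) fun i _ hi => h0 i hi] at h
    have hle : ∀ i ∈ o, v i ≤ 2 := fun i hi => by have := ho2 i hi; omega
    have heq := (Finset.sum_eq_sum_iff_of_le hle).1 (by
      rw [Finset.sum_const, ho.2]; norm_num; linarith)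
    funext i
    by_cases hi : i ∈ o
    · simp [octVec, bit, hi, heq i hi]
    · simp [octVec, bit, hi, h0 i hi]
  · by_cases h : none = a
    · subst h; omega
    · have := h1 none h; omega

theorem decomp_none {v : GolayPt → ℤ} (hv : v ∈ decomp) :
    v none = 4 ∨ v none = 2 ∨ v none = 1 ∨ v none = 3 := by
  obtain ⟨hm, hn, hd⟩ := hv
  rw [dotInt_std48] at hd
  have hs : ∑ i, v i ≤ 16 ∨ (∑ i, v i ≤ 26 ∧ (v none = 1 ∨ v none = -1 ∨ v none = 3 ∨ v none = -3)
      ∧ (v none = -1 → ∑ i, v i ≤ 24)) := by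
    rcases shape32 hm hn with ⟨a, b, hab, ha, hb, h0⟩ | ⟨o, ho, h2, h0⟩ | ⟨a, ha, h1⟩
    · left
      rw [← Finset.sum_subset (Finset.subset_univ {a, b}) fun i _ hi => by
        simp at hi; exact h0 i hi.1 hi.2, Finset.sum_pair hab]
      omega
    · left
      rw [← Finset.sum_subset (Finset.subset_univ o) fun i _ hi => h0 i hi]
      have h := Finset.sum_le_card_nsmul o v 2 fun i hi => by have := h2 i hi; omega
      rw [ho.2] at h
      simpa using h
    · right
      have h1' : ∀ i ∈ Finset.univ \ {a}, v i ≤ 1 := fun i hi => by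
        have := h1 i (by simpa using hi); omega
      have h : ∑ i ∈ (Finset.univ \ {a} : Finset GolayPt), v i ≤ _ := Finset.sum_le_card_nsmul _ v 1 h1'
      have hc : (Finset.univ \ {a} : Finset GolayPt).card = 23 := by
        rw [Finset.card_sdiff_of_subset (Finset.subset_univ _), Finset.card_univ, card_pt,
          Finset.card_singleton]
      rw [hc, nsmul_eq_mul] at h
      rw [Finset.sum_eq_add_sum_sdiff_singleton_of_mem (Finset.mem_univ a)]
      refine ⟨by omega, ?_, fun hm1 => ?_⟩
      · by_cases e : none = a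
        · subst e; omega
        · have := h1 none e; omega
      · have e : none ≠ a := fun e => by subst e; omega
        have hmem : (none : GolayPt) ∈ Finset.univ \ {a} := by simp [e]
        have h' := Finset.single_le_sum (f := fun i => 1 - v i)
          (fun i hi => by have := h1' i hi; omega) hmem
        simp only [Finset.sum_sub_distrib, Finset.sum_const, hc, nsmul_eq_mul] at h'
        omega
  have hb : v none ≤ 4 := by
    rcases shape32 hm hn with ⟨a, b, hab, ha, hb, h0⟩ | ⟨o, ho, h2, h0⟩ | ⟨a, ha, h1⟩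
    · by_cases e : none = a
      · subst e; omega
      · by_cases e' : none = b
        · subst e'; omega
        · have := h0 none e e'; omega
    · by_cases e : (none : GolayPt) ∈ o
      · have := h2 none e; omega
      · have := h0 none e; omega
    · by_cases e : none = a
      · subst e; omega
      · have := h1 none e; omega
  omega

theorem decomp_eq : decomp =
    ((fun i => four none i 4 4) '' {i | i ≠ none}) ∪
      (octVec '' {o | o ∈ octads ∧ (none : GolayPt) ∈ o}) ∪
      (((fun x => (std48 : GolayPt → ℤ) - x) '' ((fun i => four none i 4 4) '' {i | i ≠ none})) ∪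
      ((fun x => (std48 : GolayPt → ℤ) - x) '' (octVec '' {o | o ∈ octads ∧ (none : GolayPt) ∈ o}))) := by
  ext v
  constructor
  · intro hv
    have hflip : ((std48 : GolayPt → ℤ) - v) none = 5 - v none := by
      simp [coe_std48]
    rcases decomp_none hv with h | h | h | h
    · obtain ⟨i, hi, e⟩ := coord_four hv.2.1 hv.2.2 h hv.1
      exact Or.inl (Or.inl ⟨i, hi, e.symm⟩)
    · obtain ⟨o, ho, hno, e⟩ := decomp_two hv h
      exact Or.inl (Or.inr ⟨o, ⟨ho, hno⟩, e.symm⟩)
    · have hv' := decomp_flip hv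
      obtain ⟨i, hi, e⟩ := coord_four hv'.2.1 hv'.2.2 (by rw [hflip, h]; norm_num) hv'.1
      exact Or.inr (Or.inl ⟨_, ⟨i, hi, e.symm⟩, sub_sub_cancel _ _⟩)
    · have hv' := decomp_flip hv
      obtain ⟨o, ho, hno, e⟩ := decomp_two hv' (by rw [hflip, h]; norm_num)
      exact Or.inr (Or.inr ⟨_, ⟨o, ⟨ho, hno⟩, e.symm⟩, sub_sub_cancel _ _⟩)
  · rintro ((⟨i, hi, rfl⟩ | ⟨o, ho, rfl⟩) | (⟨_, ⟨i, hi, rfl⟩, rfl⟩ | ⟨_, ⟨o, ho, rfl⟩, rfl⟩))
    · exact (four_mem_decomp hi).1
    · exact (octVec_mem ho.1 ho.2).1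
    · exact decomp_flip (four_mem_decomp hi).1
    · exact decomp_flip (octVec_mem ho.1 ho.2).1

theorem card_octads_through (p : GolayPt) : {o | o ∈ octads ∧ p ∈ o}.ncard = 253 := by
  have e : {o | o ∈ octads ∧ p ∈ o} = ↑(SporStruct.blocksThrough octads {p}) := by
    ext o
    simp [SporStruct.mem_blocksThrough]
  rw [e, Set.ncard_coe_finset]
  have h := SporStruct.card_blocksThrough_mul Golay.octads_steiner ({p} : Finset GolayPt) (by simp)
  rw [Finset.card_singleton, card_pt] at h
  have h1 : (8 - 1).choose (5 - 1) = 35 := by decide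
  have h2 : (24 - 1).choose (5 - 1) = 8855 := by decide +kernel
  rw [h1, h2] at h
  omega

theorem decomp_ncard : decomp.ncard = 552 := by
  rw [decomp_eq]
  have ha : ((fun i => four none i 4 4) '' {i : GolayPt | i ≠ none}).ncard = 23 := by
    rw [Set.ncard_image_of_injOn, Set.ncard_eq_toFinset_card']
    · decide
    · intro i hi j hj h
      by_contra hne
      have := congrFun h i
      simp [four, Pi.single_apply, show i ≠ none from hi, hne] at this
  have hb : (octVec '' {o | o ∈ octads ∧ (none : GolayPt) ∈ o}).ncard = 253 := by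
    rw [Set.ncard_image_of_injective, card_octads_through]
    intro o p h
    ext i
    have := congrFun h i
    by_cases hi : i ∈ o <;> by_cases hp : i ∈ p <;> simp [octVec, bit, hi, hp] at this ⊢
  set A := (fun i => four none i 4 4) '' {i : GolayPt | i ≠ none} with hA
  set B := octVec '' {o | o ∈ octads ∧ (none : GolayPt) ∈ o} with hB
  set f := fun x : GolayPt → ℤ => (std48 : GolayPt → ℤ) - x with hf
  have hfi : Function.Injective f := fun x y h => sub_right_injective h
  have vA : ∀ x ∈ A, x none = 4 := by rintro _ ⟨i, hi, rfl⟩; exact (four_mem_decomp hi).2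
  have vB : ∀ x ∈ B, x none = 2 := by rintro _ ⟨o, ho, rfl⟩; exact (octVec_mem ho.1 ho.2).2
  have vfA : ∀ x ∈ f '' A, x none = 1 := by
    rintro _ ⟨x, hx, rfl⟩; simp [hf, coe_std48, vA x hx]
  have vfB : ∀ x ∈ f '' B, x none = 3 := by
    rintro _ ⟨x, hx, rfl⟩; simp [hf, coe_std48, vB x hx]
  have fA : A.Finite := Set.finite_of_ncard_ne_zero (by omega)
  have fB : B.Finite := Set.finite_of_ncard_ne_zero (by omega)
  rw [Set.ncard_union_eq ?_ (fA.union fB) ((fA.image f).union (fB.image f)),
    Set.ncard_union_eq ?_ fA fB, Set.ncard_union_eq ?_ (fA.image f) (fB.image f),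
    Set.ncard_image_of_injective _ hfi, Set.ncard_image_of_injective _ hfi, ha, hb]
  · exact Set.disjoint_left.2 fun x a b => by have := vfA x a; have := vfB x b; omega
  · exact Set.disjoint_left.2 fun x a b => by have := vA x a; have := vB x b; omega
  · refine Set.disjoint_left.2 fun x a b => ?_
    rcases a with a | a <;> rcases b with b | b
    · have := vA x a; have := vfA x b; omega
    · have := vA x a; have := vfB x b; omega
    · have := vB x a; have := vfA x b; omega
    · have := vB x a; have := vfB x b; omega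

/-- Subtype sets versus sets of vectors. -/
theorem ncard_lattice_set (P : (GolayPt → ℤ) → Prop) :
    {v : leechLattice | P (v : GolayPt → ℤ)}.ncard = {x | x ∈ leechLattice ∧ P x}.ncard := by
  rw [← Set.ncard_image_of_injective _
    (Subtype.val_injective : Function.Injective (Subtype.val : leechLattice → _))]
  congr 1
  ext x
  exact ⟨fun ⟨y, hy, e⟩ => e ▸ ⟨y.2, hy⟩, fun ⟨hx, h⟩ => ⟨⟨x, hx⟩, h, rfl⟩⟩

theorem finite_Co0 (hu : CodeUnique) : Finite Co0 :=
  Nat.finite_of_card_ne_zero (by rw [card_Co0_of_unique hu]; norm_num)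

theorem card_stab32 (hu : CodeUnique) {v : leechLattice} (hv : sqNorm (v : GolayPt → ℤ) = 32) :
    Nat.card (MulAction.stabilizer Co0 v) = 42305421312000 := by
  have ho : MulAction.orbit Co0 v = {w : leechLattice | sqNorm (w : GolayPt → ℤ) = 32} := by
    ext w
    refine ⟨?_, fun hw => transitive_32 hu hv hw⟩
    rintro ⟨g, rfl⟩
    exact (sqNorm_smul g v).trans hv
  have h := Subgroup.card_mul_index (MulAction.stabilizer Co0 v)
  rw [MulAction.index_stabilizer, ho, ncard_lattice_set (fun x => sqNorm x = 32), card_shell_32,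
    card_Co0_of_unique hu] at h
  exact Nat.eq_of_mul_eq_mul_right (by norm_num : 0 < 196560) (h.trans (by norm_num))

theorem card_stab48 (hu : CodeUnique) {v : leechLattice} (hv : sqNorm (v : GolayPt → ℤ) = 48) :
    Nat.card (MulAction.stabilizer Co0 v) = 495766656000 := by
  have ho : MulAction.orbit Co0 v = {w : leechLattice | sqNorm (w : GolayPt → ℤ) = 48} := by
    ext w
    refine ⟨?_, fun hw => transitive_48 hu hv hw⟩
    rintro ⟨g, rfl⟩
    exact (sqNorm_smul g v).trans hv
  have h := Subgroup.card_mul_index (MulAction.stabilizer Co0 v)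
  rw [MulAction.index_stabilizer, ho, ncard_lattice_set (fun x => sqNorm x = 48), card_shell_48,
    card_Co0_of_unique hu] at h
  exact Nat.eq_of_mul_eq_mul_right (by norm_num : 0 < 16773120) (h.trans (by norm_num))

/-- Decompositions of any norm 48 vector. -/
theorem card_decomp (hu : CodeUnique) {u : leechLattice} (hn : sqNorm (u : GolayPt → ℤ) = 48) :
    {v : leechLattice | sqNorm (v : GolayPt → ℤ) = 32 ∧
      sqNorm ((u - v : leechLattice) : GolayPt → ℤ) = 32}.ncard = 552 := by
  obtain ⟨g, hg⟩ := exists_smul_eq_std48 hu hn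
  have h := ncard_lattice_set (fun x => sqNorm x = 32 ∧ dotInt (std48 : GolayPt → ℤ) x = 24)
  rw [show {x | x ∈ leechLattice ∧ (sqNorm x = 32 ∧ dotInt (std48 : GolayPt → ℤ) x = 24)} = decomp
    from rfl, decomp_ncard] at h
  rw [← h, ← Set.ncard_image_of_injective _ (MulAction.injective g)]
  congr 1
  ext v
  simp only [Set.mem_image, Set.mem_setOf_eq]
  constructor
  · rintro ⟨w, ⟨h1, h2⟩, rfl⟩
    refine ⟨(sqNorm_smul g w).trans h1, ?_⟩
    rw [AddSubgroup.coe_sub, sqNorm_sub, hn, h1] at h2
    rw [← hg, dotInt_smul]; omega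
  · rintro ⟨h1, h2⟩
    refine ⟨g⁻¹ • v, ⟨(sqNorm_smul _ v).trans h1, ?_⟩, smul_inv_smul g v⟩
    rw [← hg, ← smul_inv_smul g v, dotInt_smul] at h2
    rw [AddSubgroup.coe_sub, sqNorm_sub, hn, (sqNorm_smul _ v).trans h1, h2]
    norm_num

theorem transitive_decomp (hu : CodeUnique) {u v v' : leechLattice}
    (hn : sqNorm (u : GolayPt → ℤ) = 48) (hv : sqNorm (v : GolayPt → ℤ) = 32)
    (huv : sqNorm ((u - v : leechLattice) : GolayPt → ℤ) = 32)
    (hv' : sqNorm (v' : GolayPt → ℤ) = 32)
    (huv' : sqNorm ((u - v' : leechLattice) : GolayPt → ℤ) = 32) :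
    ∃ g : Co0, g • u = u ∧ g • v = v' := by
  have key : ∀ v : leechLattice, sqNorm (v : GolayPt → ℤ) = 32 →
      sqNorm ((u - v : leechLattice) : GolayPt → ℤ) = 32 →
      dotInt (v : GolayPt → ℤ) ((u - v : leechLattice) : GolayPt → ℤ) = -8 := by
    intro v hv h
    rw [AddSubgroup.coe_sub] at h ⊢
    rw [sqNorm_sub, hn, hv] at h
    rw [dotInt_comm, dotInt_sub_left', dotInt_self, hv]
    omega
  obtain ⟨g, h1, h2⟩ := transitive_pair hu hv huv (key v hv huv) hv' huv' (key v' hv' huv')
  refine ⟨g, ?_, h1⟩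
  calc g • u = g • (v + (u - v)) := by rw [add_sub_cancel]
    _ = v' + (u - v') := by rw [smul_add', h1, h2]
    _ = u := add_sub_cancel v' u

theorem card_stab_pair (hu : CodeUnique) {v w : leechLattice}
    (hv : sqNorm (v : GolayPt → ℤ) = 32) (hw : sqNorm (w : GolayPt → ℤ) = 32)
    (hd : dotInt (v : GolayPt → ℤ) (w : GolayPt → ℤ) = -8) :
    Nat.card ↥(MulAction.stabilizer Co0 v ⊓ MulAction.stabilizer Co0 w) = 898128000 := by
  have hun : sqNorm ((v + w : leechLattice) : GolayPt → ℤ) = 48 := by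
    rw [AddSubgroup.coe_add, sqNorm_add, hv, hw, hd]; norm_num
  set H := MulAction.stabilizer Co0 (v + w) with hH
  have ho : MulAction.orbit H v = {x : leechLattice | sqNorm (x : GolayPt → ℤ) = 32 ∧
      sqNorm ((v + w - x : leechLattice) : GolayPt → ℤ) = 32} := by
    ext x
    constructor
    · rintro ⟨g, rfl⟩
      have hg : (g : Co0) • (v + w) = v + w := g.2
      refine ⟨(sqNorm_smul _ v).trans hv, ?_⟩
      show sqNorm ((v + w - (g : Co0) • v : leechLattice) : GolayPt → ℤ) = 32
      rw [← hg, ← smul_sub', add_sub_cancel_left, sqNorm_smul]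
      exact hw
    · rintro ⟨h1, h2⟩
      obtain ⟨g, hg1, hg2⟩ := transitive_decomp hu hun hv (by rw [add_sub_cancel_left]; exact hw)
        h1 h2
      exact ⟨⟨g, hg1⟩, hg2⟩
  have h := Subgroup.card_mul_index (MulAction.stabilizer H v)
  rw [MulAction.index_stabilizer, ho, card_decomp hu hun, hH, card_stab48 hu hun] at h
  have e : Nat.card (MulAction.stabilizer H v) =
      Nat.card ↥(MulAction.stabilizer Co0 v ⊓ MulAction.stabilizer Co0 w) := by
    refine Nat.card_congr
      { toFun := fun g => ⟨g.1.1, ?_, ?_⟩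
        invFun := fun g => ⟨⟨g.1, ?_⟩, ?_⟩
        left_inv := fun g => rfl
        right_inv := fun g => rfl }
    · exact g.2
    · show g.1.1 • w = w
      have h1 : g.1.1 • (v + w) = v + w := g.1.2
      have h2 : g.1.1 • v = v := g.2
      rw [smul_add', h2] at h1
      exact add_left_cancel h1
    · show g.1 • (v + w) = v + w
      rw [smul_add', (g.2.1 : g.1 • v = v), (g.2.2 : g.1 • w = w)]
    · show g.1 • v = v
      exact g.2.1
  rw [← e]
  exact Nat.eq_of_mul_eq_mul_right (by norm_num : 0 < 552) (h.trans (by norm_num))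

end Cfsg.Agent.Leech
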