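import Cfsg.Agent.Lib.Golay.Transitive
import Cfsg.Agent.Lib.LinearGroup.PermRep
import Cfsg.Agent.Lib.LinearGroup.Generation
import Cfsg.Agent.Lib.LinearGroup.Simple
import Cfsg.Agent.Lib.LinearGroup.Card

/-!
A three-point stabiliser in M24 is PSL(3,4): the 21 points of the projective plane are labelled
by the 21 other points and the transvections are checked to lie in the code's group.
-/
set_option autoImplicit false

namespace Cfsg.Agent.Leech.M21

open Matrix Equiv Cfsg.Agent.Golay Cfsg.Agent.LinearGroup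
open scoped Pointwise

/-- Representatives of the points of the plane, entries numbering the field elements. -/
def pv : Fin 21 → Fin 3 → Fin 4 :=
  ![![0, 0, 1], ![0, 1, 0], ![0, 1, 1], ![0, 1, 2], ![0, 1, 3], ![1, 0, 0], ![1, 0, 1], ![1, 0, 2], ![1, 0, 3], ![1, 1, 0], ![1, 1, 1], ![1, 1, 2], ![1, 1, 3], ![1, 2, 0], ![1, 2, 1], ![1, 2, 2], ![1, 2, 3], ![1, 3, 0], ![1, 3, 1], ![1, 3, 2], ![1, 3, 3]]

/-- The label of a point. -/
def labN : Fin 21 → ℕ := ![2, 3, 5, 14, 17, 4, 13, 16, 22, 11, 8, 18, 12, 19, 6, 7, 21, 20, 10, 9, 15]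

/-- Positions and coefficient number of the generating transvections. -/
def gi : Fin 12 → Fin 3 := ![0, 0, 0, 0, 1, 1, 1, 1, 2, 2, 2, 2]

/-- Second index of the generating transvections. -/
def gj : Fin 12 → Fin 3 := ![1, 1, 2, 2, 0, 0, 2, 2, 0, 0, 1, 1]

/-- Coefficient number of the generating transvections. -/
def gc : Fin 12 → Fin 4 := ![1, 2, 1, 2, 1, 2, 1, 2, 1, 2, 1, 2]

/-- The permutation of the points by a generator. -/
def sig : Fin 12 → Fin 21 → Fin 21 :=
  ![![0, 9, 10, 11, 12, 5, 6, 7, 8, 1, 2, 3, 4, 17, 19, 20, 18, 13, 16, 14, 15], ![0, 17, 20, 18, 19, 5, 6, 7, 8, 13, 15, 16, 14, 9, 12, 10, 11, 1, 3, 4, 2], ![6, 1, 10, 18, 14, 5, 0, 8, 7, 9, 2, 16, 19, 13, 4, 20, 11, 17, 3, 12, 15], ![8, 1, 20, 16, 12, 5, 7, 6, 0, 9, 15, 18, 4, 13, 19, 10, 3, 17, 11, 14, 2], ![0, 1, 2, 3, 4, 9, 10, 11, 12, 5, 6, 7, 8, 17, 18, 19, 20, 13, 14, 15, 16], ![0, 1, 2, 3, 4, 13, 14, 15, 16, 17, 18, 19, 20, 5, 6, 7, 8, 9, 10, 11, 12], ![2, 1, 0, 4, 3,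 5, 10, 15, 20, 9, 6, 19, 16, 13, 18, 7, 12, 17, 14, 11, 8], ![4, 1, 3, 2, 0, 5, 14, 19, 12, 9, 18, 15, 8, 13, 6, 11, 20, 17, 10, 7, 16], ![0, 1, 2, 3, 4, 6, 5, 8, 7, 10, 9, 12, 11, 14, 13, 16, 15, 18, 17, 20, 19], ![0, 1, 2, 3, 4, 7, 8, 5, 6, 11, 12, 9, 10, 15, 16, 13, 14, 19, 20, 17, 18], ![0, 2, 1, 4, 3, 5, 6, 7, 8, 10, 9, 12, 11, 15, 16, 13, 14, 20, 19, 18, 17], ![0, 3, 4, 1, 2, 5, 6, 7, 8, 11, 12, 9, 10, 16, 15, 14, 13, 18, 17, 20, 19]]

/-- The scalar picked up by a representative. -/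
def scal : Fin 12 → Fin 21 → Fin 4 :=
  ![![1, 1, 1, 1, 1, 1, 1, 1, 1, 1, 1, 1, 1, 3, 3, 3, 3, 2, 2, 2, 2], ![1, 2, 2, 2, 2, 1, 1, 1, 1, 3, 3, 3, 3, 2, 2, 2, 2, 3, 3, 3, 3], ![1, 1, 1, 2, 3, 1, 1, 3, 2, 1, 1, 3, 2, 1, 2, 3, 2, 1, 3, 3, 2], ![2, 1, 2, 3, 1, 1, 3, 2, 3, 1, 3, 2, 1, 1, 3, 2, 2, 1, 3, 2, 3], ![1, 1, 1, 1, 1, 1, 1, 1, 1, 1, 1, 1, 1, 1, 1, 1, 1, 1, 1, 1, 1], ![1, 1, 1, 1, 1, 1, 1, 1, 1, 1, 1, 1, 1, 1, 1, 1, 1, 1, 1, 1, 1], ![1, 1, 1, 3, 2, 1, 1, 1, 1, 1, 1, 1, 1, 1, 1, 1, 1, 1, 1, 1, 1], ![2, 1, 3, 2, 3, 1, 1, 1, 1, 1, 1, 1, 1, 1, 1, 1, 1, 1, 1, 1, 1], ![1, 1, 1, 1, 1, 1, 1, 1, 1, 1, 1, 1, 1, 1, 1, 1, 1, 1, 1, 1, 1], ![1, 1, 1, 1, 1, 1, 1, 1, 1, 1, 1, 1, 1, 1, 1, 1, 1, 1, 1, 1, 1], ![1, 1, 1, 1, 1, 1, 1, 1, 1, 1, 1, 1, 1, 1, 1, 1, 1, 1, 1, 1, 1], ![1, 1, 1, 1, 1, 1, 1, 1, 1, 1, 1, 1, 1, 1, 1, 1, 1, 1, 1, 1, 1]]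

/-- The tables of the generators. -/
def tab : Fin 12 → List ℕ :=
  ![[0, 1, 2, 11, 4, 8, 9, 15, 5, 6, 21, 3, 17, 13, 18, 7, 16, 12, 14, 20, 19, 10, 22, 23], [0, 1, 2, 20, 4, 15, 12, 8, 7, 17, 14, 19, 6, 13, 10, 5, 16, 9, 21, 11, 3, 18, 22, 23], [0, 1, 13, 3, 4, 8, 17, 15, 5, 12, 14, 11, 9, 2, 10, 7, 22, 6, 21, 19, 20, 18, 16, 23], [0, 1, 22, 3, 4, 15, 9, 8, 7, 6, 18, 11, 17, 16, 21, 5, 13, 12, 10, 19, 20, 14, 2, 23], [0, 1, 2, 3, 11, 5, 10, 9, 13, 7, 6, 4, 22, 8, 14, 21, 18, 17, 16, 20, 19, 15, 12, 23], [0, 1, 2, 3, 19, 5, 13, 16, 10, 18, 8, 20, 15, 6, 14, 12, 7, 17, 9, 4, 11, 22, 21, 23], [0, 1, 5, 3, 4, 2, 10, 16, 13, 18, 6, 11, 21, 8, 17, 22, 7, 14, 9, 19, 20, 12, 15, 23], [0, 1, 17, 3, 4, 14, 13, 18, 10, 16, 8, 11, 22, 6, 5, 21, 9, 2, 7, 19, 20, 15, 12, 23], [0, 1, 2, 3, 13, 5, 19, 21, 11, 15, 20, 8, 18, 4, 14, 9, 22, 17, 12, 6, 10, 7, 16, 23], [0, 1, 2, 3, 16, 5, 21, 19, 12, 20, 15, 18, 8, 22, 14, 10, 4, 17, 11, 7, 9, 6, 13, 23], [0, 1,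 2, 5, 4, 3, 21, 19, 11, 10, 9, 8, 18, 13, 17, 20, 16, 14, 12, 7, 15, 6, 22, 23], [0, 1, 2, 14, 4, 17, 7, 6, 12, 15, 20, 18, 8, 13, 3, 9, 16, 5, 11, 21, 10, 19, 22, 23]]

/-- Addition of numbered field elements. -/
def ad : Fin 4 → Fin 4 → Fin 4 := ![![0, 1, 2, 3], ![1, 0, 3, 2], ![2, 3, 0, 1], ![3, 2, 1, 0]]

/-- Multiplication of numbered field elements. -/
def mu : Fin 4 → Fin 4 → Fin 4 := ![![0, 0, 0, 0], ![0, 1, 2, 3], ![0, 2, 3, 1], ![0, 3, 1, 2]]

/-- The transvection on representatives. -/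
def tr (n : Fin 12) (l : Fin 21) (t : Fin 3) : Fin 4 :=
  if t = gi n then ad (pv l t) (mu (gc n) (pv l (gj n))) else pv l t

theorem table_facts :
    (∀ n, gi n ≠ gj n) ∧
    (∀ n l t, tr n l t = mu (scal n l) (pv (sig n l) t)) ∧
    (∀ n l, scal n l ≠ 0) ∧
    (∀ l l' : Fin 21, ∀ k, (∀ t, pv l t = mu k (pv l' t)) → l = l') ∧
    (∀ a b c : Fin 4, mu a (mu b c) = mu (mu a b) c) ∧
    (∀ b : Fin 4, b ≠ 0 → ∀ k, ∃ k', mu k' b = k) ∧
    (∀ l t, mu 1 (pv l t) = pv l t) ∧
    (∀ i j : Fin 3, ∀ c : Fin 4, i ≠ j → (c = 1 ∨ c = 2) → ∃ n, gi n = i ∧ gj n = j ∧ gc n = c) := by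
  decide +kernel

/-- The point of the code with a given label. -/
def lab (l : Fin 21) : GolayPt := pt (labN l)

theorem lab_facts :
    (∀ l, labN l < 24) ∧ (∀ l l', lab l = lab l' → l = l') ∧
    (∀ l, lab l ≠ bp 0 ∧ lab l ≠ bp 1 ∧ lab l ≠ bp 2) ∧
    (∀ p : GolayPt, p = bp 0 ∨ p = bp 1 ∨ p = bp 2 ∨ ∃ l, lab l = p) ∧
    (∀ n, isPermTab (tab n) = true ∧ checkAut (tab n) = true) ∧
    (∀ n l, idx (lab (sig n l)) = (tab n).getD (idx (lab l)) 0) ∧
    (∀ n, ∀ p ∈ [bp 0, bp 1, bp 2], (tab n).getD (idx p) 0 = idx p) := by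
  decide +kernel

section Field

variable {F : Type} [Field F] [Fintype F]

/-- An element of order three. -/
theorem exists_omega (hF : Fintype.card F = 4) :
    ∃ ω : F, ω ≠ 0 ∧ ω ≠ 1 ∧ ω * ω = ω + 1 ∧ (2 : F) = 0 := by
  have h4 : ((4 : ℕ) : F) = 0 := hF ▸ FiniteField.cast_card_eq_zero F
  have h2 : (2 : F) = 0 := by
    have : (2 : F) * 2 = 0 := by push_cast at h4; linear_combination h4
    rcases mul_eq_zero.1 this with h | h <;> exact h
  classical
  have hcard : 0 < ((Finset.univ : Finset F) \ {0, 1}).card := by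
    rw [Finset.card_sdiff_of_subset (Finset.subset_univ _), Finset.card_univ, hF]
    have := Finset.card_le_two (a := (0 : F)) (b := 1)
    omega
  obtain ⟨ω, hω⟩ := Finset.card_pos.1 hcard
  simp at hω
  have h3 : ω ^ (Fintype.card F - 1) = 1 := FiniteField.pow_card_sub_one_eq_one ω hω.1
  rw [hF] at h3
  have : (ω - 1) * (ω * ω + ω + 1) = 0 := by
    have h3' : ω ^ 3 = 1 := h3
    linear_combination h3'
  refine ⟨ω, hω.1, hω.2, ?_, h2⟩
  rcases mul_eq_zero.1 this with h | h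
  · exact absurd (sub_eq_zero.1 h) hω.2
  · linear_combination h - (ω + 1) * h2

/-- The numbering of the field. -/
def num (ω : F) : Fin 4 → F := ![0, 1, ω, ω + 1]

variable {ω : F}

theorem num_facts (h0 : ω ≠ 0) (h1 : ω ≠ 1) (hω : ω * ω = ω + 1) (h2 : (2 : F) = 0) :
    (∀ a b, num ω (ad a b) = num ω a + num ω b) ∧ (∀ a b, num ω (mu a b) = num ω a * num ω b) ∧
    Function.Injective (num ω) := by
  refine ⟨?_, ?_, ?_⟩
  · intro a b
    fin_cases a <;> fin_cases b <;> simp [num, ad] <;>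
      first
        | linear_combination (0 : F) * h2
        | linear_combination h2
        | linear_combination -h2
        | linear_combination (ω : F) * h2
        | linear_combination -(ω : F) * h2
        | linear_combination (ω + 1 : F) * h2
        | linear_combination -(ω + 1 : F) * h2
  · intro a b
    fin_cases a <;> fin_cases b <;> simp [num, mu] <;>
      first
        | linear_combination hω
        | linear_combination -hω
        | linear_combination hω + ω * h2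
        | linear_combination -hω - ω * h2
        | linear_combination hω + h2
        | linear_combination -hω - h2
        | linear_combination hω + (ω + 1) * h2
        | linear_combination -hω - (ω + 1) * h2
  · have h1' : ω + 1 ≠ 0 := fun e => h1 (by linear_combination e - h2)
    intro a b h
    fin_cases a <;> fin_cases b <;> simp [num] at h ⊢ <;>
      first
        | exact h0 h
        | exact h0 h.symm
        | exact h1 h
        | exact h1 h.symm
        | exact h1' h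
        | exact h1' h.symm

/-- A representative vector. -/
def vec (ω : F) (l : Fin 21) : Fin 3 → F := fun t => num ω (pv l t)

/-- A point of the plane as a set of vectors. -/
def line (ω : F) (l : Fin 21) : Set (Fin 3 → F) := {w | ∃ k, w = num ω k • vec ω l}

theorem line_injective (hmul : ∀ a b, num ω (mu a b) = num ω a * num ω b)
    (hinj : Function.Injective (num ω)) : Function.Injective (line ω) := by
  intro l l' h
  have hl : vec ω l ∈ line ω l :=
    ⟨1, funext fun t => by rw [Pi.smul_apply, smul_eq_mul]; simp [num]⟩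
  rw [h] at hl
  obtain ⟨k, hk⟩ := hl
  refine table_facts.2.2.2.1 l l' k fun t => hinj ?_
  rw [hmul]
  exact congrFun hk t

/-- The action on sets of vectors. -/
def setAct : Matrix.SpecialLinearGroup (Fin 3) F →* Perm (Set (Fin 3 → F)) :=
  MulAction.toPermHom (Matrix.SpecialLinearGroup (Fin 3) F) (Set (Fin 3 → F))

theorem setAct_apply (g : Matrix.SpecialLinearGroup (Fin 3) F) (s : Set (Fin 3 → F)) :
    setAct g s = (fun v => g.1 *ᵥ v) '' s := rfl

/-- The generator transvection. -/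
def gen (ω : F) (n : Fin 12) : Matrix.SpecialLinearGroup (Fin 3) F :=
  Matrix.SpecialLinearGroup.transvection (table_facts.1 n) (num ω (gc n))

theorem gen_line (hadd : ∀ a b, num ω (ad a b) = num ω a + num ω b)
    (hmul : ∀ a b, num ω (mu a b) = num ω a * num ω b) (n : Fin 12) (l : Fin 21) :
    setAct (gen ω n) (line ω l) = line ω (sig n l) := by
  have hv : (gen ω n).1 *ᵥ vec ω l = num ω (scal n l) • vec ω (sig n l) := by
    funext t
    have h := congrArg (num ω) (table_facts.2.1 n l t)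
    simp only [tr, hmul] at h
    rw [Pi.smul_apply, smul_eq_mul]
    show _ = num ω (scal n l) * num ω (pv (sig n l) t)
    rw [← h]
    by_cases ht : t = gi n
    · subst ht
      simp [gen, vec, Matrix.SpecialLinearGroup.transvection_coe, Matrix.add_mulVec,
        Matrix.single_mulVec_eq, hadd, hmul]
    · simp [gen, vec, Matrix.SpecialLinearGroup.transvection_coe, Matrix.add_mulVec,
        Matrix.single_mulVec_eq, ht]
  rw [setAct_apply]
  ext w
  constructor
  · rintro ⟨_, ⟨k, rfl⟩, rfl⟩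
    refine ⟨mu k (scal n l), ?_⟩
    show (gen ω n).1 *ᵥ (num ω k • vec ω l) = _
    rw [Matrix.mulVec_smul, hv, hmul, smul_smul]
  · rintro ⟨k, rfl⟩
    obtain ⟨k', hk'⟩ := table_facts.2.2.2.2.2.1 (scal n l) (table_facts.2.2.1 n l) k
    refine ⟨num ω k' • vec ω l, ⟨k', rfl⟩, ?_⟩
    show (gen ω n).1 *ᵥ (num ω k' • vec ω l) = _
    rw [Matrix.mulVec_smul, hv, smul_smul, ← hmul, hk']

theorem closure_gen (h0 : ω ≠ 0) (h1 : ω ≠ 1) (hω : ω * ω = ω + 1) (h2 : (2 : F) = 0)
    (hF : Fintype.card F = 4) : Subgroup.closure (Set.range (gen ω)) = ⊤ := by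
  classical
  obtain ⟨-, -, hinj⟩ := num_facts h0 h1 hω h2
  have hsurj : Function.Surjective (num ω) :=
    ((Fintype.bijective_iff_injective_and_card _).2 ⟨hinj, by rw [hF, Fintype.card_fin]⟩).2
  refine eq_top_of_transvection_mem_of_addClosure {1, ω} ?_ ?_
  · rw [eq_top_iff]
    intro x _
    obtain ⟨a, rfl⟩ := hsurj x
    have e1 : (1 : F) ∈ AddSubgroup.closure ({1, ω} : Set F) :=
      AddSubgroup.subset_closure (Or.inl rfl)
    have e2 : ω ∈ AddSubgroup.closure ({1, ω} : Set F) :=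
      AddSubgroup.subset_closure (Or.inr rfl)
    fin_cases a
    · exact zero_mem _
    · exact e1
    · exact e2
    · exact add_mem e2 e1
  · intro i j hij c hc
    obtain ⟨n, rfl, rfl, hn⟩ := table_facts.2.2.2.2.2.2.2 i j (if c = 1 then 1 else 2) hij (by
      split_ifs <;> simp)
    refine Subgroup.subset_closure ⟨n, ?_⟩
    have : num ω (gc n) = c := by
      rw [hn]
      rcases hc with rfl | hc
      · simp [num]
      · cases Set.mem_singleton_iff.1 hc
        simp [h1, num]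
    subst this
    rfl

/-- The labels as the points outside the base. -/
noncomputable def labEquiv : Fin 21 ≃ {p : GolayPt // p ≠ bp 0 ∧ p ≠ bp 1 ∧ p ≠ bp 2} :=
  Equiv.ofBijective (fun l => ⟨lab l, lab_facts.2.2.1 l⟩)
    ⟨fun a b h => lab_facts.2.1 a b (congrArg Subtype.val h), fun ⟨p, hp⟩ => by
      rcases lab_facts.2.2.2.1 p with h | h | h | ⟨l, hl⟩
      · exact absurd h hp.1
      · exact absurd h hp.2.1
      · exact absurd h hp.2.2
      · exact ⟨l, Subtype.ext hl⟩⟩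

/-- Permutations of the labels as permutations of the points. -/
noncomputable def toPts : Perm (Fin 21) →* Perm GolayPt :=
  (Equiv.Perm.ofSubtype).comp labEquiv.permCongrHom.toMonoidHom

theorem toPts_lab (π : Perm (Fin 21)) (l : Fin 21) : toPts π (lab l) = lab (π l) := by
  classical
  have hl := lab_facts.2.2.1 l
  show Equiv.Perm.ofSubtype (labEquiv.permCongr π) (lab l) = _
  refine (Equiv.Perm.ofSubtype_apply_of_mem (p := fun p => p ≠ bp 0 ∧ p ≠ bp 1 ∧ p ≠ bp 2)
    _ hl).trans ?_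
  rw [Equiv.permCongr_apply]
  have : labEquiv.symm ⟨lab l, hl⟩ = l := by rw [Equiv.symm_apply_eq]; rfl
  rw [this]; rfl

theorem toPts_base (π : Perm (Fin 21)) {p : GolayPt} (hp : p ∈ [bp 0, bp 1, bp 2]) :
    toPts π p = p := by
  classical
  refine Equiv.Perm.ofSubtype_apply_of_not_mem _ ?_
  simp only [List.mem_cons, List.not_mem_nil, or_false] at hp
  rcases hp with rfl | rfl | rfl <;> simp

theorem toPts_injective : Function.Injective toPts :=
  Equiv.Perm.ofSubtype_injective.comp labEquiv.permCongrHom.injective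

theorem toPts_sig_mem (n : Fin 12) (π : Perm (Fin 21)) (h : ⇑π = sig n) :
    toPts π ∈ fixUpTo M24 3 := by
  have hfix : ∀ j < 3, toPts π (bp j) = bp j := fun j hj =>
    toPts_base π (by interval_cases j <;> simp)
  refine mem_fixUpTo.2 ⟨?_, hfix⟩
  refine Tab.mem_M24 (l := tab n) (fun i hi => ?_) (lab_facts.2.2.2.2.1 n).2
  have hbase := lab_facts.2.2.2.2.2.2 n
  rcases lab_facts.2.2.2.1 (pt i) with e | e | e | ⟨l, hl⟩
  · have := hbase (bp 0) (by simp)
    rw [e, hfix 0 (by norm_num), ← this, ← e, idx_pt hi]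
  · have := hbase (bp 1) (by simp)
    rw [e, hfix 1 (by norm_num), ← this, ← e, idx_pt hi]
  · have := hbase (bp 2) (by simp)
    rw [e, hfix 2 (by norm_num), ← this, ← e, idx_pt hi]
  · have := lab_facts.2.2.2.2.2.1 n l
    rw [← hl, toPts_lab, h, this, hl, idx_pt hi]

theorem card_fix_three : Nat.card (fixUpTo M24 3) = 20160 := by
  have h : Nat.card (fixUpTo M24 2) = (orbN.getD 2 []).length * Nat.card (fixUpTo M24 3) :=
    card_fixUpTo_succ (i := 2) (by norm_num)
  have h2 := card_fix_two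
  have hl : (orbN.getD 2 []).length = 22 := by decide +kernel
  rw [h2, hl] at h
  omega

/-- The isomorphism at the base points. -/
theorem equiv_base (hF : Fintype.card F = 4) :
    Nonempty (fixUpTo M24 3 ≃* Matrix.ProjectiveSpecialLinearGroup (Fin 3) F) := by
  classical
  obtain ⟨ω, h0, h1, hω, h2⟩ := exists_omega hF
  obtain ⟨hadd, hmul, hinj⟩ := num_facts h0 h1 hω h2
  have henc := line_injective hmul hinj
  have hstab : famStab setAct (line ω) henc = ⊤ :=
    famStab_eq_top_of_closure _ henc (closure_gen h0 h1 hω h2 hF) (by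
      rintro _ ⟨n, rfl⟩ l
      exact ⟨_, gen_line hadd hmul n l⟩)
  let f : Matrix.SpecialLinearGroup (Fin 3) F →* Perm GolayPt :=
    toPts.comp (famHom setAct henc hstab)
  have hcen : Subgroup.center (Matrix.SpecialLinearGroup (Fin 3) F) ≤ f.ker := by
    intro z hz
    obtain ⟨r, -, hr⟩ := Matrix.SpecialLinearGroup.mem_center_iff.1 hz
    have hr0 : r ≠ 0 := fun e => by
      have := z.2
      rw [← hr, e, map_zero, Matrix.det_zero] at this
      exact zero_ne_one this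
    have hfix : ∀ l, setAct z (line ω l) = line ω l := fun l => by
      have hsurj : Function.Surjective (num ω) :=
        ((Fintype.bijective_iff_injective_and_card _).2 ⟨hinj, by rw [hF, Fintype.card_fin]⟩).2
      have hz' : ∀ v : Fin 3 → F, z.1 *ᵥ v = r • v := fun v => by
        rw [← hr, Matrix.scalar_apply, ← Matrix.smul_one_eq_diagonal, Matrix.smul_mulVec,
          Matrix.one_mulVec]
      rw [setAct_apply]
      ext w
      constructor
      · rintro ⟨_, ⟨k, rfl⟩, rfl⟩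
        obtain ⟨k', hk'⟩ := hsurj (r * num ω k)
        exact ⟨k', by
          show z.1 *ᵥ (num ω k • vec ω l) = _
          rw [hz', smul_smul, hk']⟩
      · rintro ⟨k, rfl⟩
        obtain ⟨k', hk'⟩ := hsurj (r⁻¹ * num ω k)
        refine ⟨num ω k' • vec ω l, ⟨k', rfl⟩, ?_⟩
        show z.1 *ᵥ (num ω k' • vec ω l) = _
        rw [hz', smul_smul, hk', mul_inv_cancel_left₀ hr0]
    rw [MonoidHom.mem_ker]
    have : famHom setAct henc hstab z = 1 := Equiv.ext fun l =>
      congrFun (famHom_eq setAct henc hstab z id fun i => hfix i) l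
    show toPts (famHom setAct henc hstab z) = 1
    rw [this, map_one]
  let g : Matrix.ProjectiveSpecialLinearGroup (Fin 3) F →* Perm GolayPt :=
    QuotientGroup.lift _ f hcen
  have hsimple : IsSimpleGroup (Matrix.ProjectiveSpecialLinearGroup (Fin 3) F) :=
    isSimpleGroup_PSL_of_three_le (ι := Fin 3) (F := F) (by simp)
  have hginj : Function.Injective g := by
    refine injective_of_simple g (QuotientGroup.mk (gen ω 0)) fun h => ?_
    have hf : f (gen ω 0) = 1 := h
    have e : famHom setAct henc hstab (gen ω 0) = 1 := toPts_injective (hf.trans (map_one _).symm)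
    have e2 := famHom_eq setAct henc hstab (gen ω 0) (sig 0) fun i => gen_line hadd hmul 0 i
    rw [e] at e2
    have e3 : ∀ l : Fin 21, sig 0 l = l := fun l => (congrFun e2 l).symm
    exact absurd e3 (by decide)
  have hrange : g.range ≤ fixUpTo M24 3 := by
    rintro _ ⟨x, rfl⟩
    induction x using QuotientGroup.induction_on with
    | H x =>
      show f x ∈ _
      have hx : x ∈ (fixUpTo M24 3).comap f := by
        have hle : Subgroup.closure (Set.range (gen ω)) ≤ (fixUpTo M24 3).comap f := by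
          rw [Subgroup.closure_le]
          rintro _ ⟨n, rfl⟩
          exact toPts_sig_mem n _ (famHom_eq setAct henc hstab _ _ fun i => gen_line hadd hmul n i)
        exact hle (closure_gen h0 h1 hω h2 hF ▸ Subgroup.mem_top x)
      exact hx
  have hcard : Nat.card (Matrix.ProjectiveSpecialLinearGroup (Fin 3) F) = 20160 := by
    have h := card_SL_eq_center_mul_PSL (n := Fin 3) (R := F)
    rw [card_center_SL, card_SL_eq_pow_mul_prod 2, Nat.card_eq_fintype_card (α := F), hF,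
      Fintype.card_fin] at h
    norm_num [Finset.prod_range_succ, Fin.sum_univ_succ] at h
    rw [Nat.card_eq_fintype_card]
    omega
  have heq : g.range = fixUpTo M24 3 := by
    refine Subgroup.eq_of_le_of_card_ge hrange ?_
    rw [← Nat.card_congr (MonoidHom.ofInjective hginj).toEquiv, hcard, card_fix_three]
  exact ⟨((MonoidHom.ofInjective hginj).trans (MulEquiv.subgroupCongr heq)).symm⟩

/-- A three-point stabiliser is PSL(3,4). -/
theorem stabilizer_three (p q r : GolayPt) (hpq : p ≠ q) (hpr : p ≠ r) (hqr : q ≠ r)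
    (hF : Fintype.card F = 4) :
    Nonempty (↥(MulAction.stabilizer M24 p ⊓ MulAction.stabilizer M24 q ⊓
      MulAction.stabilizer M24 r) ≃* Matrix.ProjectiveSpecialLinearGroup (Fin 3) F) := by
  obtain ⟨c, hc, hcj⟩ := exists_map_base (fun j => if j = 0 then p else if j = 1 then q else r) 3
    (by norm_num) (fun j k hj hk => by
      interval_cases j <;> interval_cases k <;> simp [hpq, hpr, hqr, hpq.symm, hpr.symm, hqr.symm])
  have h0' : c (bp 0) = p := by simpa using hcj 0 (by norm_num)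
  have h1' : c (bp 1) = q := by simpa using hcj 1 (by norm_num)
  have h2' : c (bp 2) = r := by simpa using hcj 2 (by norm_num)
  obtain ⟨e⟩ := equiv_base (F := F) hF
  let e0 : ↥(MulAction.stabilizer M24 p ⊓ MulAction.stabilizer M24 q ⊓
      MulAction.stabilizer M24 r) ≃* fixUpTo M24 3 :=
    { toFun := fun x => ⟨c⁻¹ * x.1.1 * c, mem_fixUpTo.2
        ⟨M24.mul_mem (M24.mul_mem (M24.inv_mem hc) x.1.2) hc, fun j hj => by
          have a0 : x.1.1 p = p := x.2.1.1
          have a1 : x.1.1 q = q := x.2.1.2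
          have a2 : x.1.1 r = r := x.2.2
          rw [Equiv.Perm.mul_apply, Equiv.Perm.mul_apply, Equiv.Perm.coe_inv, Equiv.symm_apply_eq]
          interval_cases j
          · rw [h0', a0]
          · rw [h1', a1]
          · rw [h2', a2]⟩⟩
      invFun := fun y => ⟨⟨c * y.1 * c⁻¹,
        M24.mul_mem (M24.mul_mem hc (mem_fixUpTo.1 y.2).1) (M24.inv_mem hc)⟩, ⟨by
          show (c * y.1 * c⁻¹) p = p
          rw [Equiv.Perm.mul_apply, Equiv.Perm.mul_apply, ← h0', Equiv.Perm.coe_inv,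
            Equiv.symm_apply_apply, (mem_fixUpTo.1 y.2).2 0 (by norm_num)], by
          show (c * y.1 * c⁻¹) q = q
          rw [Equiv.Perm.mul_apply, Equiv.Perm.mul_apply, ← h1', Equiv.Perm.coe_inv,
            Equiv.symm_apply_apply, (mem_fixUpTo.1 y.2).2 1 (by norm_num)]⟩, by
          show (c * y.1 * c⁻¹) r = r
          rw [Equiv.Perm.mul_apply, Equiv.Perm.mul_apply, ← h2', Equiv.Perm.coe_inv,
            Equiv.symm_apply_apply, (mem_fixUpTo.1 y.2).2 2 (by norm_num)]⟩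
      left_inv := fun x => by ext1; ext1; simp only; group
      right_inv := fun y => by ext1; simp only; group
      map_mul' := fun a b => by ext1; simp only [Subgroup.coe_mul]; group }
  exact ⟨e0.trans e⟩

end Field

end Cfsg.Agent.Leech.M21
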