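import Cfsg.Agent.Lib.Leech.Norms

/-!
The index of the lattice in the integer vectors, in terms of the number of codewords.
-/
set_option autoImplicit false

namespace Cfsg.Agent.Leech

open Cfsg
open scoped Pointwise

theorem support₂_injective : Function.Injective (support₂ : (GolayPt → ZMod 2) → Finset GolayPt) := by
  intro u v h
  funext i
  have hi : u i ≠ 0 ↔ v i ≠ 0 := by simpa [support₂] using Finset.ext_iff.1 h i
  rcases zmod2_cases (u i) with a | a <;> rcases zmod2_cases (v i) with b | b <;> simp_all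

theorem ncard_code : code.ncard = Nat.card golayCode := by
  rw [code, supports, Set.ncard_image_of_injective _ support₂_injective]
  rfl

/-- Residues: coordinates modulo 4 off the extra point, and the coordinate sum modulo 8. -/
def resMap : (GolayPt → ℤ) →+ (({i : GolayPt // i ≠ none} → ZMod 4) × ZMod 8) where
  toFun x := (fun i => (x i.1 : ZMod 4), ((∑ i, x i : ℤ) : ZMod 8))
  map_zero' := by ext i <;> simp
  map_add' x y := by ext i <;> simp [Finset.sum_add_distrib]

theorem resMap_surjective : Function.Surjective resMap := by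
  rintro ⟨a, s⟩
  let f : GolayPt → ℤ := fun i => if h : i = none then 0 else ((a ⟨i, h⟩).val : ℤ)
  have hT : ∀ i : {i : GolayPt // i ≠ none}, (f i.1 : ZMod 4) = a i := fun i => by
    simp [f, i.2]
  refine ⟨f + Pi.single none ((s.val : ℤ) - ∑ i, f i), ?_⟩
  refine Prod.ext (funext fun i => ?_) ?_
  · have h := hT i
    simp [resMap, Pi.single_apply, i.2, h]
  · simp [resMap]; ring

theorem resMap_ker_le : resMap.ker ≤ leechLattice := by
  intro x hx
  have hx' : resMap x = 0 := hx
  have h4 : ∀ i, i ≠ none → (4 : ℤ) ∣ x i := fun i hi =>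
    (ZMod.intCast_zmod_eq_zero_iff_dvd _ 4).1 (congrFun (congrArg Prod.fst hx') ⟨i, hi⟩)
  have h8 : (8 : ℤ) ∣ ∑ i, x i :=
    (ZMod.intCast_zmod_eq_zero_iff_dvd _ 8).1 (congrArg Prod.snd hx')
  have hn : (4 : ℤ) ∣ x none := by
    have e := Finset.sum_eq_add_sum_sdiff_singleton_of_mem (Finset.mem_univ (none : GolayPt)) x
    rw [e] at h8
    have : (4 : ℤ) ∣ ∑ i ∈ Finset.univ \ {none}, x i :=
      Finset.dvd_sum fun i hi => h4 i (by simpa using hi)
    omega
  refine mem_lattice_iff.2 ⟨0, ∅, empty_mem_code, fun i => ?_, by simpa using h8⟩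
  rcases eq_or_ne i none with rfl | hi
  · simpa [bit] using hn
  · simpa [bit] using h4 i hi

/-- A representative with parameters `m`, `c`. -/
def rep (m : ℤ) (c : Finset GolayPt) : GolayPt → ℤ :=
  fun i => m + 2 * bit c i + 4 * (if i = none then m else 0)

theorem rep_isLVec {m : ℤ} {c : Finset GolayPt} (hc : c ∈ code) : IsLVec m c (rep m c) :=
  isLVec_of_param (y := fun i => if i = none then m else 0) hc (fun _ => rfl) (by simp)

theorem rep_mem {m : ℤ} {c : Finset GolayPt} (hc : c ∈ code) : rep m c ∈ leechLattice :=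
  mem_lattice_iff.2 ⟨m, c, hc, rep_isLVec hc⟩

theorem resMap_rep_congr {m n : ℤ} {c d : Finset GolayPt} {x y : GolayPt → ℤ}
    (hx : IsLVec m c x) (hy : IsLVec n d y) (hm : m = n) (hcd : c = d) :
    resMap x = resMap y := by
  subst hm hcd
  refine Prod.ext (funext fun i => ?_) ?_
  · have h1 := hx.1 i.1
    have h2 := hy.1 i.1
    exact (ZMod.intCast_eq_intCast_iff_dvd_sub _ _ 4).2 (by push_cast; omega)
  · have h1 := hx.2
    have h2 := hy.2
    exact (ZMod.intCast_eq_intCast_iff_dvd_sub _ _ 8).2 (by push_cast; omega)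

theorem resMap_image_card :
    Nat.card (leechLattice.map resMap) = 2 * code.ncard := by
  classical
  let S : Set (ℤ × Finset GolayPt) := ({0, 1} : Set ℤ) ×ˢ code
  have hinj : Set.InjOn (fun p : ℤ × Finset GolayPt => resMap (rep p.1 p.2)) S := by
    rintro ⟨m, c⟩ ⟨hm, hc⟩ ⟨n, d⟩ ⟨hn, hd⟩ h
    simp only [Set.mem_insert_iff, Set.mem_singleton_iff] at hm hn
    have h4 : ∀ i, (4 : ℤ) ∣ (n + 2 * bit d i) - (m + 2 * bit c i) := by
      intro i
      have e := congrArg Prod.fst h
      have e2 := congrArg Prod.snd h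
      have hres : ∀ j, j ≠ none → (4 : ℤ) ∣ rep n d j - rep m c j := fun j hj =>
        (ZMod.intCast_eq_intCast_iff_dvd_sub _ _ 4).1 (congrFun e ⟨j, hj⟩)
      have hs : (8 : ℤ) ∣ ∑ j, rep n d j - ∑ j, rep m c j :=
        (ZMod.intCast_eq_intCast_iff_dvd_sub _ _ 8).1 e2
      have hd4 : (4 : ℤ) ∣ rep n d i - rep m c i := by
        rcases eq_or_ne i none with rfl | hi
        · rw [← Finset.sum_sub_distrib, Finset.sum_eq_add_sum_sdiff_singleton_of_mem
            (Finset.mem_univ (none : GolayPt))] at hs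
          have : (4 : ℤ) ∣ ∑ j ∈ Finset.univ \ {(none : GolayPt)}, (rep n d j - rep m c j) :=
            Finset.dvd_sum fun j hj => hres j (by simpa using hj)
          omega
        · exact hres i hi
      simp only [rep] at hd4
      split_ifs at hd4 <;> omega
    have hmn : m = n := by
      have := h4 none
      simp only [bit] at this
      split_ifs at this <;> omega
    subst hmn
    refine Prod.ext rfl (Finset.ext fun i => ?_)
    have := h4 i
    simp only [bit] at this
    by_cases a : i ∈ c <;> by_cases b : i ∈ d <;> simp [a, b] at this ⊢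
  have himg : ((leechLattice.map resMap : AddSubgroup _) : Set _) =
      (fun p : ℤ × Finset GolayPt => resMap (rep p.1 p.2)) '' S := by
    ext z
    constructor
    · rintro ⟨x, hx, rfl⟩
      obtain ⟨m, hm, c, hc, h⟩ := exists_normal_form hx
      exact ⟨(m, c), ⟨by simpa using hm, hc⟩, resMap_rep_congr (rep_isLVec hc) h rfl rfl⟩
    · rintro ⟨⟨m, c⟩, ⟨_, hc⟩, rfl⟩
      exact ⟨_, rep_mem hc, rfl⟩
  have : Nat.card (leechLattice.map resMap) =
      ((leechLattice.map resMap : AddSubgroup _) :
      Set (({i : GolayPt // i ≠ none} → ZMod 4) × ZMod 8)).ncard := rfl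
  rw [this, himg, Set.ncard_image_of_injOn hinj, Set.ncard_prod,
    Set.ncard_pair (by norm_num : (0 : ℤ) ≠ 1)]

theorem index_mul_card : leechLattice.index * (2 * code.ncard) = 4 ^ 23 * 8 := by
  have h := AddSubgroup.index_mul_card (leechLattice.map resMap)
  rw [AddSubgroup.index_map_eq leechLattice resMap_surjective resMap_ker_le,
    resMap_image_card] at h
  rw [h, Nat.card_prod, Nat.card_fun, Nat.card_zmod, Nat.card_zmod, Nat.card_eq_fintype_card,
    Fintype.card_subtype_compl, Fintype.card_subtype_eq, card_pt]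

end Cfsg.Agent.Leech
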