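import Cfsg.Agent.Lib.Leech.DigitsW
import Cfsg.Agent.Lib.Leech.Decomp

/-!
Pairs of norm 48 vectors with product -32: orbit and stabiliser order.
-/
set_option autoImplicit false

namespace Cfsg.Agent.Leech

open Cfsg
open scoped Pointwise

/-- Minimal vectors with product -16 with the standard norm 48 vector. -/
def hsSet : Set (GolayPt → ℤ) :=
  {x | x ∈ leechLattice ∧ sqNorm x = 32 ∧ dotInt (std48 : GolayPt → ℤ) x = -16}

/-- Count in one coset by weight and membership of the extra point. -/
def hsCount (m : ℤ) (k : ℕ) (b : Bool) : ℕ :=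
  tblCountW 64 (((5 : ℤ), coordVals m b) ::
    (List.replicate (if b then k - 1 else k) ((1 : ℤ), coordVals m true) ++
     List.replicate (if b then 24 - k else 23 - k) ((1 : ℤ), coordVals m false))) 48 32

/-- The vectors of `hsSet` in one coset. -/
def hsVecs (m : ℤ) (c : Finset GolayPt) : Finset (GolayPt → ℤ) :=
  (vecs (cosetVals m c) Finset.univ).filter fun x =>
    ((∑ i, (std48 : GolayPt → ℤ) i * x i) % ((64 : ℕ) : ℤ)).toNat = 48 ∧ (sqNorm x).natAbs = 32

theorem mem_hsVecs {m : ℤ} (hm : m = 0 ∨ m = 1) {c : Finset GolayPt} {x : GolayPt → ℤ} :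
    x ∈ hsVecs m c ↔
      IsLVec m c x ∧ sqNorm x = 32 ∧ dotInt (std48 : GolayPt → ℤ) x = -16 := by
  simp only [hsVecs, Finset.mem_filter, mem_vecs_univ, cosetVals, coordVals]
  have hnn := sqNorm_nonneg x
  constructor
  · rintro ⟨hv, hs, hn⟩
    have hn' : sqNorm x = 32 := by omega
    have hb := dotInt_sq_le (std48 : GolayPt → ℤ) x
    rw [sqNorm_std48, hn'] at hb
    have hlo : -40 < dotInt (std48 : GolayPt → ℤ) x := by
      by_contra hh; nlinarith
    have hhi : dotInt (std48 : GolayPt → ℤ) x < 40 := by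
      by_contra hh; nlinarith
    have hd : dotInt (std48 : GolayPt → ℤ) x = -16 := by
      simp only [dotInt] at hlo hhi ⊢; omega
    have h4 : ∀ i, (4 : ℤ) ∣ x i - m - 2 * bit c i := fun i => by
      have h := hv i
      rcases hm with rfl | rfl <;> by_cases hi : i ∈ c <;> simp [hi, bit] at h ⊢ <;> omega
    refine ⟨⟨h4, ?_⟩, hn', hd⟩
    rw [dotInt_std48] at hd
    have h0 := h4 none
    rcases hm with rfl | rfl <;> omega
  · rintro ⟨⟨h4, _⟩, hn, hd⟩
    refine ⟨fun i => ?_, ?_, by omega⟩
    · have hb := abs_le_eight (x := x) (by omega) i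
      have h := h4 i
      rcases hm with rfl | rfl <;> by_cases hi : i ∈ c <;> simp [hi, bit] at h ⊢ <;> omega
    · simp only [dotInt] at hd
      rw [hd]; rfl

/-- An enumeration starting with the extra point, then a given set. -/
noncomputable def enumW (c : Finset GolayPt) : List GolayPt :=
  none :: ((c.erase none).toList ++ (cᶜ.erase none).toList)

theorem enumW_nodup (c : Finset GolayPt) : (enumW c).Nodup := by
  refine List.nodup_cons.2 ⟨by simp, List.nodup_append'.2
    ⟨(c.erase none).nodup_toList, (cᶜ.erase none).nodup_toList, fun a h1 h2 => ?_⟩⟩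
  simp at h1 h2
  exact h2.2 h1.2

theorem enumW_toFinset (c : Finset GolayPt) : (enumW c).toFinset = Finset.univ := by
  ext a
  by_cases h : a = none <;> by_cases hc : a ∈ c <;> simp [enumW, h, hc]

theorem map_enumW (m : ℤ) (c : Finset GolayPt) :
    (enumW c).map (fun i => ((std48 : GolayPt → ℤ) i, cosetVals m c i)) =
      ((5 : ℤ), coordVals m (decide ((none : GolayPt) ∈ c))) ::
        (List.replicate (if decide ((none : GolayPt) ∈ c) then c.card - 1 else c.card)
            ((1 : ℤ), coordVals m true) ++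
         List.replicate (if decide ((none : GolayPt) ∈ c) then 24 - c.card else 23 - c.card)
            ((1 : ℤ), coordVals m false)) := by
  rw [enumW, List.map_cons, List.map_append]
  rw [List.cons.injEq]
  refine ⟨by simp [coe_std48, cosetVals], ?_⟩
  congr 1 <;> refine List.eq_replicate_iff.2 ⟨?_, ?_⟩
  · simp only [List.length_map, Finset.length_toList]
    by_cases h : (none : GolayPt) ∈ c <;> simp [h]
  · intro b hb
    obtain ⟨i, hi, rfl⟩ := List.mem_map.1 hb
    simp at hi
    simp [coe_std48, cosetVals, hi.1, hi.2]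
  · simp only [List.length_map, Finset.length_toList]
    by_cases h : (none : GolayPt) ∈ c
    · simp [h, Finset.card_compl]
    · simp [h, Finset.card_erase_of_mem, Finset.card_compl]; omega
  · intro b hb
    obtain ⟨i, hi, rfl⟩ := List.mem_map.1 hb
    simp at hi
    simp [coe_std48, cosetVals, hi.1, hi.2]

theorem card_hsVecs (m : ℤ) (c : Finset GolayPt) :
    (hsVecs m c).card = hsCount m c.card (decide ((none : GolayPt) ∈ c)) := by
  rw [hsVecs, card_vecs_eq_tblCountW (M := 64) (by norm_num) (std48 : GolayPt → ℤ) (cosetVals m c)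
    (fun i => (coordVals_nodup _ _).1) (fun i => (coordVals_nodup _ _).2) (enumW_nodup c)
    (enumW_toFinset c) _ _ (by norm_num), map_enumW, hsCount]

theorem hsSet_ncard : hsSet.ncard = 11178 := by
  classical
  have hfin : code.Finite := Set.toFinite _
  set C := hfin.toFinset with hC
  have hmem : ∀ c, c ∈ C ↔ c ∈ code := fun c => hfin.mem_toFinset
  have e : hsSet =
      (((({0, 1} : Finset ℤ) ×ˢ C).biUnion fun p => hsVecs p.1 p.2 : Finset _) : Set _) := by
    ext x
    simp only [hsSet, Set.mem_setOf_eq, Finset.mem_coe, Finset.mem_biUnion, Finset.mem_product,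
      Finset.mem_insert, Finset.mem_singleton]
    constructor
    · rintro ⟨hx, hN⟩
      obtain ⟨m, hm, c, hc, h⟩ := exists_normal_form hx
      exact ⟨(m, c), ⟨hm, (hmem c).2 hc⟩, (mem_hsVecs hm).2 ⟨h, hN⟩⟩
    · rintro ⟨p, ⟨hp, hpC⟩, hx⟩
      obtain ⟨h, hN⟩ := (mem_hsVecs hp).1 hx
      exact ⟨mem_lattice_iff.2 ⟨_, _, (hmem _).1 hpC, h⟩, hN⟩
  have hdisj : ((({0, 1} : Finset ℤ) ×ˢ C : Finset _) : Set (ℤ × Finset GolayPt)).PairwiseDisjoint
      (fun p => hsVecs p.1 p.2) := by
    intro p hp q hq hne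
    simp only [Finset.mem_coe, Finset.mem_product, Finset.mem_insert, Finset.mem_singleton]
      at hp hq
    refine Finset.disjoint_left.2 fun x hx1 hx2 => hne ?_
    have := isLVec_unique hp.1 hq.1 ((mem_hsVecs hp.1).1 hx1).1 ((mem_hsVecs hq.1).1 hx2).1
    exact Prod.ext this.1 this.2
  rw [e, Set.ncard_coe_finset, Finset.card_biUnion hdisj, Finset.sum_product]
  simp only [card_hsVecs, Finset.sum_insert (by decide : (0 : ℤ) ∉ ({1} : Finset ℤ)),
    Finset.sum_singleton, ← Finset.sum_add_distrib]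
  let S : Finset (ℕ × Bool) := {(0, false), (8, true), (8, false), (12, true), (12, false),
    (16, true), (16, false), (24, true)}
  have hmaps : ∀ c ∈ C, (c.card, decide ((none : GolayPt) ∈ c)) ∈ S := by
    intro c hc
    have hk := code_weights c ((hmem c).1 hc)
    simp only [List.mem_cons, List.not_mem_nil, or_false] at hk
    by_cases hn : (none : GolayPt) ∈ c
    · rcases hk with h | h | h | h | h <;> simp [S, hn, h]
      rw [Finset.card_eq_zero] at h
      rw [h] at hn
      simp at hn
    · rcases hk with h | h | h | h | h <;> simp [S, hn, h]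
      have : c = Finset.univ := Finset.eq_univ_of_card c (by rw [h, card_pt])
      exact hn (this ▸ Finset.mem_univ _)
  have hkey : ∀ k b, (C.filter fun c => (c.card, decide ((none : GolayPt) ∈ c)) = (k, b)).card =
      {c | c ∈ code ∧ c.card = k ∧ ((none : GolayPt) ∈ c ↔ b = true)}.ncard := by
    intro k b
    rw [← Set.ncard_coe_finset]
    congr 1
    ext c
    cases b <;> simp [hmem]
  have hcompl : ∀ k b, k ≤ 24 →
      {c | c ∈ code ∧ c.card = 24 - k ∧ ((none : GolayPt) ∈ c ↔ b = true)}.ncard =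
      {c | c ∈ code ∧ c.card = k ∧ ((none : GolayPt) ∈ c ↔ (!b) = true)}.ncard := by
    intro k b hk
    rw [← Set.ncard_image_of_injective {c | c ∈ code ∧ c.card = k ∧ ((none : GolayPt) ∈ c ↔ (!b) = true)}
      compl_injective]
    congr 1
    ext c
    simp only [Set.mem_image, Set.mem_setOf_eq]
    constructor
    · rintro ⟨h1, h2, h3⟩
      refine ⟨cᶜ, ⟨compl_mem_code h1, ?_, ?_⟩, compl_compl c⟩
      · simp [Finset.card_compl, h2]; omega
      · cases b <;> simp_all
    · rintro ⟨d, ⟨h1, h2, h3⟩, rfl⟩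
      refine ⟨compl_mem_code h1, by simp [Finset.card_compl, h2], ?_⟩
      cases b <;> simp_all
  have hsplit : ∀ k, {c | c ∈ code ∧ c.card = k ∧ ((none : GolayPt) ∈ c ↔ true = true)}.ncard +
      {c | c ∈ code ∧ c.card = k ∧ ((none : GolayPt) ∈ c ↔ false = true)}.ncard =
      (wordsOfWeight (golayCode : Set (GolayPt → ZMod 2)) k).ncard := by
    intro k
    rw [← Set.ncard_union_eq (Set.disjoint_left.2 fun c a b => by
      simp at a b; exact b.2.2 a.2.2) (Set.toFinite _) (Set.toFinite _)]
    congr 1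
    ext c
    simp [wordsOfWeight]; tauto
  have h8 : {c | c ∈ code ∧ c.card = 8 ∧ ((none : GolayPt) ∈ c ↔ true = true)}.ncard = 253 := by
    rw [← card_octads_through none]
    congr 1
    ext c
    simp [octads, wordsOfWeight]; tauto
  have h8f : {c | c ∈ code ∧ c.card = 8 ∧ ((none : GolayPt) ∈ c ↔ false = true)}.ncard = 506 := by
    have := hsplit 8
    have h759 : (wordsOfWeight (golayCode : Set (GolayPt → ZMod 2)) 8).ncard = 759 := Golay.ncard_octads
    omega
  have h16t : {c | c ∈ code ∧ c.card = 16 ∧ ((none : GolayPt) ∈ c ↔ true = true)}.ncard = 506 :=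
    (hcompl 8 true (by norm_num)).trans h8f
  have h16f : {c | c ∈ code ∧ c.card = 16 ∧ ((none : GolayPt) ∈ c ↔ false = true)}.ncard = 253 :=
    (hcompl 8 false (by norm_num)).trans h8
  have h12 : {c | c ∈ code ∧ c.card = 12 ∧ ((none : GolayPt) ∈ c ↔ true = true)}.ncard = 
      {c | c ∈ code ∧ c.card = 12 ∧ ((none : GolayPt) ∈ c ↔ false = true)}.ncard :=
    hcompl 12 true (by norm_num)
  have h12s := hsplit 12
  have h2576 : (wordsOfWeight (golayCode : Set (GolayPt → ZMod 2)) 12).ncard = 2576 := Golay.ncard_dodecads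
  have h0 : {c | c ∈ code ∧ c.card = 0 ∧ ((none : GolayPt) ∈ c ↔ false = true)}.ncard = 1 := by
    rw [Set.ncard_eq_one]
    refine ⟨∅, Set.ext fun c => ?_⟩
    simp only [Set.mem_setOf_eq, Finset.card_eq_zero, Set.mem_singleton_iff]
    exact ⟨fun h => h.2.1, fun h => ⟨h ▸ empty_mem_code, h, by simp [h]⟩⟩
  have h24 : {c | c ∈ code ∧ c.card = 24 ∧ ((none : GolayPt) ∈ c ↔ true = true)}.ncard = 1 :=
    (hcompl 0 true (by norm_num)).trans h0
  rw [← Finset.sum_fiberwise_of_maps_to' hmaps
    (fun p => hsCount 0 p.1 p.2 + hsCount 1 p.1 p.2)]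
  simp only [Finset.sum_const, smul_eq_mul, S]
  rw [Finset.sum_insert (by decide), Finset.sum_insert (by decide), Finset.sum_insert (by decide),
    Finset.sum_insert (by decide), Finset.sum_insert (by decide), Finset.sum_insert (by decide),
    Finset.sum_insert (by decide), Finset.sum_singleton]
  simp only [hkey]
  have h12t : {c | c ∈ code ∧ c.card = 12 ∧ ((none : GolayPt) ∈ c ↔ true = true)}.ncard = 1288 := by
    simp only [iff_true, Bool.false_eq_true, iff_false] at *; omega
  have h12f : {c | c ∈ code ∧ c.card = 12 ∧ ((none : GolayPt) ∈ c ↔ false = true)}.ncard = 1288 := by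
    simp only [iff_true, Bool.false_eq_true, iff_false] at *; omega
  simp only [iff_true, Bool.false_eq_true, iff_false] at *
  rw [h0, h8, h8f, h12t, h12f, h16t, h16f, h24]
  decide +kernel

theorem coord_neg_four {x : GolayPt → ℤ} (hx : x ∈ leechLattice) (hn : sqNorm x = 32)
    (hd : dotInt (std48 : GolayPt → ℤ) x = -16) (h4 : x none = -4) :
    ∃ i, i ≠ none ∧ x = four none i (-4) 4 := by
  rcases shape32 hx hn with ⟨a, b, hab, ha, hb, h0⟩ | ⟨o, ho, h2, h0⟩ | ⟨a, ha, h1⟩
  · have key : ∀ a b : GolayPt, a = none → a ≠ b → (x b = 4 ∨ x b = -4) →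
        (∀ i, i ≠ a → i ≠ b → x i = 0) → ∃ i, i ≠ none ∧ x = four none i (-4) 4 := by
      rintro _ b rfl hab hb h0
      have e : x = four none b (-4) (x b) := by
        funext k
        simp only [four, Pi.add_apply, Pi.single_apply]
        by_cases h1 : k = none
        · subst h1; simp [h4, hab]
        · by_cases h2 : k = b
          · subst h2; simp [h1]
          · simp [h1, h2, h0 k h1 h2]
      rw [e, dotInt_comm, dotInt_four, coe_std48, coe_std48, if_pos rfl, if_neg hab.symm] at hd
      have hb4 : x b = 4 := by omega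
      exact ⟨b, hab.symm, by rw [hb4] at e; exact e⟩
    by_cases han : a = none
    · exact key a b han hab hb h0
    · by_cases hbn : b = none
      · exact key b a hbn hab.symm ha fun i p q => h0 i q p
      · have := h0 none (Ne.symm han) (Ne.symm hbn); omega
  · by_cases hno : (none : GolayPt) ∈ o
    · have := h2 none hno; omega
    · have := h0 none hno; omega
  · by_cases ha0 : none = a
    · subst ha0; omega
    · have := h1 none ha0; omega

theorem exists_aux_j {x : GolayPt → ℤ} (hx : x ∈ hsSet) :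
    ∃ j, j ≠ none ∧ (x j = -x none ∨ x j = -4 - x none) := by
  classical
  obtain ⟨hm, hn, hd⟩ := hx
  rw [dotInt_std48] at hd
  by_contra hne
  push Not at hne
  rcases shape32 hm hn with ⟨a, b, hab, ha, hb, h0⟩ | ⟨o, ho, h2, h0⟩ | ⟨a, ha, h1⟩
  · obtain ⟨k, hk1, hk2, hk3⟩ := exists_ne_ne none a b
    have e := hne k hk1
    rw [h0 k hk2 hk3] at e
    have hs : ∑ i, x i = x a + x b := by
      rw [← Finset.sum_subset (Finset.subset_univ {a, b}) fun i _ hi => by
        simp at hi; exact h0 i hi.1 hi.2, Finset.sum_pair hab]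
    by_cases p : none = a
    · subst p; omega
    · by_cases q : none = b
      · subst q; omega
      · have := h0 none p q; omega
  · have hs : ∑ i, x i = ∑ i ∈ o, x i :=
      (Finset.sum_subset (Finset.subset_univ o) fun i _ hi => h0 i hi).symm
    have hge : ∑ i ∈ o, x i ≥ -16 := by
      have h := Finset.card_nsmul_le_sum o x (-2) fun i hi => by have := h2 i hi; omega
      rw [ho.2] at h
      simp at h ⊢
      exact h
    by_cases p : (none : GolayPt) ∈ o
    · have := h2 none p
      obtain ⟨j, hj, hjn⟩ := Finset.exists_mem_ne (by rw [ho.2]; norm_num : 1 < o.card) none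
      have := h2 j hj
      have := hne j hjn
      omega
    · obtain ⟨j, hj1, -, hj3⟩ := card_le_eight_compl ho.2 none none
      have e := hne j hj1
      rw [h0 j hj3, h0 none p] at e
      omega
  · have hne' : ∀ i, i ≠ none → i ≠ a → x i = x none ∨ (x none ≠ 1 ∧ x none ≠ -1) := by
      intro i h1' h2'
      have := hne i h1'
      have := h1 i h2'
      omega
    by_cases p : none = a
    · subst p
      have hall : ∀ i ∈ Finset.univ \ {(none : GolayPt)}, x i = 1 ∨ (x none = 3 ∧ x i = -1) := by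
        intro i hi
        have hi' : i ≠ none := by simpa using hi
        have := hne i hi'
        have := h1 i hi'
        omega
      rw [Finset.sum_eq_add_sum_sdiff_singleton_of_mem (Finset.mem_univ (none : GolayPt))] at hd
      have h := Finset.card_nsmul_le_sum (Finset.univ \ {(none : GolayPt)}) (fun i => x i) (-1)
        fun i hi => by have := hall i hi; omega
      have hc : (Finset.univ \ {none} : Finset GolayPt).card = 23 := by
        rw [Finset.card_sdiff_of_subset (Finset.subset_univ _), Finset.card_univ, card_pt,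
          Finset.card_singleton]
      rw [hc, nsmul_eq_mul] at h
      rcases ha with ha | ha
      · omega
      · have hs2 : ∑ i ∈ Finset.univ \ {(none : GolayPt)}, x i = 23 := by
          rw [Finset.sum_congr rfl (g := fun _ => (1 : ℤ)) fun i hi => by
            have := hall i hi; omega, Finset.sum_const, hc]
          rfl
        omega
    · have hn1 := h1 none p
      have hsum : ∑ i ∈ (Finset.univ \ {a} : Finset GolayPt), x i = 23 * x none := by
        rw [Finset.sum_congr rfl (g := fun _ => x none) fun i hi => ?_, Finset.sum_const,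
          Finset.card_sdiff_of_subset (Finset.subset_univ _), Finset.card_univ, card_pt,
          Finset.card_singleton, nsmul_eq_mul]
        · rfl
        · have hi' : i ≠ a := by simpa using hi
          by_cases q : i = none
          · subst q; rfl
          · have := hne' i q hi'; omega
      rw [Finset.sum_eq_add_sum_sdiff_singleton_of_mem (Finset.mem_univ a)] at hd
      omega

theorem exists_aux_t {x : GolayPt → ℤ} (hx : x ∈ hsSet) :
    ∃ r ∈ decomp, dotInt r x = -16 := by
  obtain ⟨j, hj, h⟩ := exists_aux_j hx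
  have h4 := (four_mem_decomp hj).1
  rcases h with h | h
  · refine ⟨_, decomp_flip h4, ?_⟩
    rw [dotInt_sub_left', dotInt_four, hx.2.2, h]; ring
  · exact ⟨_, h4, by rw [dotInt_four, h]; ring⟩

theorem exists_smul_hs (hu : CodeUnique) {u x : leechLattice}
    (hun : sqNorm (u : GolayPt → ℤ) = 48) (hxn : sqNorm (x : GolayPt → ℤ) = 32)
    (hd : dotInt (u : GolayPt → ℤ) (x : GolayPt → ℤ) = -16) :
    ∃ g : Co0, g • u = std48 ∧ g • x = -Spor.leechU' := by
  obtain ⟨g0, hg0⟩ := exists_smul_eq_std48 hu hun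
  have hx' : ((g0 • x : leechLattice) : GolayPt → ℤ) ∈ hsSet :=
    ⟨SetLike.coe_mem _, (sqNorm_smul _ x).trans hxn, by rw [← hg0, dotInt_smul, hd]⟩
  obtain ⟨r, hr, hrx⟩ := exists_aux_t hx'
  set y : leechLattice := g0 • x with hy
  let t : leechLattice := -(⟨r, hr.1⟩ : leechLattice) - y
  have hyn : sqNorm (y : GolayPt → ℤ) = 32 := hx'.2.1
  have hyd : dotInt (std48 : GolayPt → ℤ) (y : GolayPt → ℤ) = -16 := hx'.2.2
  have ht : sqNorm (t : GolayPt → ℤ) = 32 := by
    show sqNorm (-r - (y : GolayPt → ℤ)) = 32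
    rw [sqNorm_sub, sqNorm_neg, dotInt_neg_left', hr.2.1, hyn, hrx]; norm_num
  have htu : dotInt (t : GolayPt → ℤ) (std48 : GolayPt → ℤ) = -8 := by
    show dotInt (-r - (y : GolayPt → ℤ)) (std48 : GolayPt → ℤ) = -8
    rw [dotInt_sub_left', dotInt_neg_left', dotInt_comm r, dotInt_comm (y : GolayPt → ℤ), hr.2.2,
      hyd]
    norm_num
  obtain ⟨g, hga, hgu⟩ := exists_smul_eq_std48_of hu sqNorm_std48 ht htu
  have h4 : ((g • y : leechLattice) : GolayPt → ℤ) none = -4 := by
    have := coord_none hga y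
    rw [AddSubgroup.coe_add, dotInt_add_left', hyd] at this
    have e : dotInt (t : GolayPt → ℤ) (y : GolayPt → ℤ) = -16 := by
      show dotInt (-r - (y : GolayPt → ℤ)) (y : GolayPt → ℤ) = -16
      rw [dotInt_sub_left', dotInt_neg_left', hrx, dotInt_self, hyn]; norm_num
    omega
  obtain ⟨i, hi, hyi⟩ := coord_neg_four (g • y).2 ((sqNorm_smul g y).trans hyn)
    (by rw [← hgu, dotInt_smul, hyd]) h4
  obtain ⟨σ, hσ, h1, h2⟩ := Golay.exists_map_two hi.symm
  let τ : M24 := ⟨σ⁻¹, inv_mem hσ⟩
  have hτn : τ.1 none = none := by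
    show σ⁻¹ none = none
    rw [Equiv.Perm.inv_def, Equiv.symm_apply_eq, h1]
  have hτi : τ.1 i = some 0 := by
    show σ⁻¹ i = some 0
    rw [Equiv.Perm.inv_def, Equiv.symm_apply_eq, h2]
  have hfix : mono τ empty_mem_code • std48 = std48 := by
    apply Subtype.ext
    funext p
    rw [coe_mono_smul, coe_std48]
    simp only [signedPerm, Finset.notMem_empty, if_false, coe_std48]
    have : τ.1.symm p = none ↔ p = none := by rw [Equiv.symm_apply_eq, hτn]
    simp only [this]
  refine ⟨mono τ empty_mem_code * g * g0, by rw [mul_smul, mul_smul, hg0, hgu, hfix],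
    Subtype.ext ?_⟩
  rw [mul_smul, mul_smul, ← hy, coe_mono_smul, hyi, four, signedPerm_add, signedPerm_single,
    signedPerm_single]
  funext p
  show _ = -(Spor.vecU' p)
  rcases p with _ | q
  · simp [hτn, hτi, Spor.vecU']
  · by_cases h : q = 0 <;> simp [hτn, hτi, Spor.vecU', h]

theorem transitive_hs (hu : CodeUnique) {u x u' x' : leechLattice}
    (hun : sqNorm (u : GolayPt → ℤ) = 48) (hxn : sqNorm (x : GolayPt → ℤ) = 32)
    (hd : dotInt (u : GolayPt → ℤ) (x : GolayPt → ℤ) = -16)
    (hun' : sqNorm (u' : GolayPt → ℤ) = 48) (hxn' : sqNorm (x' : GolayPt → ℤ) = 32)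
    (hd' : dotInt (u' : GolayPt → ℤ) (x' : GolayPt → ℤ) = -16) :
    ∃ g : Co0, g • u = u' ∧ g • x = x' := by
  obtain ⟨g, hg1, hg2⟩ := exists_smul_hs hu hun hxn hd
  obtain ⟨h, hh1, hh2⟩ := exists_smul_hs hu hun' hxn' hd'
  exact ⟨h⁻¹ * g, by rw [mul_smul, hg1, ← hh1, inv_smul_smul],
    by rw [mul_smul, hg2, ← hh2, inv_smul_smul]⟩

theorem card_hsOrbit (hu : CodeUnique) {u : leechLattice} (hun : sqNorm (u : GolayPt → ℤ) = 48) :
    {x : leechLattice | sqNorm (x : GolayPt → ℤ) = 32 ∧
      dotInt (u : GolayPt → ℤ) (x : GolayPt → ℤ) = -16}.ncard = 11178 := by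
  obtain ⟨g, hg⟩ := exists_smul_eq_std48 hu hun
  have h := ncard_lattice_set (fun x => sqNorm x = 32 ∧ dotInt (std48 : GolayPt → ℤ) x = -16)
  rw [show {x | x ∈ leechLattice ∧ (sqNorm x = 32 ∧ dotInt (std48 : GolayPt → ℤ) x = -16)} = hsSet
    from rfl, hsSet_ncard] at h
  rw [← h, ← Set.ncard_image_of_injective _ (MulAction.injective g)]
  congr 1
  ext v
  simp only [Set.mem_image, Set.mem_setOf_eq]
  constructor
  · rintro ⟨w, ⟨h1, h2⟩, rfl⟩
    exact ⟨(sqNorm_smul g w).trans h1, by rw [← hg, dotInt_smul, h2]⟩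
  · rintro ⟨h1, h2⟩
    refine ⟨g⁻¹ • v, ⟨(sqNorm_smul _ v).trans h1, ?_⟩, smul_inv_smul g v⟩
    rw [← hg, ← smul_inv_smul g v, dotInt_smul] at h2
    exact h2

theorem card_stab_hs (hu : CodeUnique) {v w : leechLattice}
    (hv : sqNorm (v : GolayPt → ℤ) = 48) (hw : sqNorm (w : GolayPt → ℤ) = 48)
    (hd : dotInt (v : GolayPt → ℤ) (w : GolayPt → ℤ) = -32) :
    Nat.card ↥(MulAction.stabilizer Co0 v ⊓ MulAction.stabilizer Co0 w) = 44352000 := by
  set x : leechLattice := -(v + w) with hx
  have hxn : sqNorm (x : GolayPt → ℤ) = 32 := by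
    rw [hx, AddSubgroup.coe_neg, sqNorm_neg, AddSubgroup.coe_add, sqNorm_add, hv, hw, hd]; norm_num
  have hxd : dotInt (v : GolayPt → ℤ) (x : GolayPt → ℤ) = -16 := by
    rw [hx, AddSubgroup.coe_neg, AddSubgroup.coe_add, dotInt_comm, dotInt_neg_left', dotInt_add_left',
      dotInt_self, hv, dotInt_comm, hd]; norm_num
  set H := MulAction.stabilizer Co0 v with hH
  have ho : MulAction.orbit H x = {y : leechLattice | sqNorm (y : GolayPt → ℤ) = 32 ∧
      dotInt (v : GolayPt → ℤ) (y : GolayPt → ℤ) = -16} := by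
    ext y
    constructor
    · rintro ⟨g, rfl⟩
      have hg : (g : Co0) • v = v := g.2
      refine ⟨(sqNorm_smul _ x).trans hxn, ?_⟩
      show dotInt (v : GolayPt → ℤ) (((g : Co0) • x : leechLattice) : GolayPt → ℤ) = -16
      rw [← hg, dotInt_smul, hxd]
    · rintro ⟨h1, h2⟩
      obtain ⟨g, hg1, hg2⟩ := transitive_hs hu hv hxn hxd hv h1 h2
      exact ⟨⟨g, hg1⟩, hg2⟩
  have h := Subgroup.card_mul_index (MulAction.stabilizer H x)
  rw [MulAction.index_stabilizer, ho, card_hsOrbit hu hv, hH, card_stab48 hu hv] at h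
  have e : Nat.card (MulAction.stabilizer H x) =
      Nat.card ↥(MulAction.stabilizer Co0 v ⊓ MulAction.stabilizer Co0 w) := by
    refine Nat.card_congr
      { toFun := fun g => ⟨g.1.1, ?_, ?_⟩
        invFun := fun g => ⟨⟨g.1, ?_⟩, ?_⟩
        left_inv := fun g => rfl
        right_inv := fun g => rfl }
    · exact g.1.2
    · show g.1.1 • w = w
      have h1 : g.1.1 • v = v := g.1.2
      have h2 : g.1.1 • (-(v + w)) = -(v + w) := g.2
      rw [smul_neg', smul_add', h1, neg_inj] at h2
      exact add_left_cancel h2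
    · exact g.2.1
    · show g.1 • x = x
      rw [hx, smul_neg', smul_add', (g.2.1 : g.1 • v = v), (g.2.2 : g.1 • w = w)]
  rw [← e]
  exact Nat.eq_of_mul_eq_mul_right (by norm_num : 0 < 11178) (h.trans (by norm_num))

end Cfsg.Agent.Leech
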