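import Cfsg.Agent.Lib.Leech.Normalisers
import Cfsg.Agent.Lib.Leech.CodeUnique
import Cfsg.Agent.Lib.Leech.Decomp
import Cfsg.Agent.Lib.Leech.Pairs48
import Cfsg.Prelude.Def_Sporadic

/-!
Co1, Co2, Co3, McL and HS are simple.
-/
set_option autoImplicit false

namespace Cfsg.Agent.Leech

open Cfsg Cfsg.Agent.Leech.Criterion

theorem orderOf_conj' {G : Type*} [Group G] (c x : G) : orderOf (c * x * c⁻¹) = orderOf x :=
  orderOf_injective (MulAut.conj c).toMonoidHom (MulAut.conj c).injective x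

theorem negOne_sq : negOne * negOne = 1 := ext_frame fun i => by
  rw [mul_smul, negOne_smul, negOne_smul, neg_neg, one_smul]

theorem neg_ne_self {v : leechLattice} (hv : sqNorm (v : GolayPt → ℤ) ≠ 0) : -v ≠ v := by
  intro h
  apply hv
  have e : (v : GolayPt → ℤ) = 0 := funext fun i => by
    have := congrFun (congrArg Subtype.val h) i
    simp only [AddSubgroup.coe_neg, Pi.neg_apply] at this
    show (v : GolayPt → ℤ) i = 0
    omega
  rw [e]; simp [sqNorm]

/-- The factor lists. -/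
theorem ok_Co1 : factorsOK 4157776806543360000
    [(2, 21), (3, 9), (5, 4), (7, 2), (11, 1), (13, 1), (23, 1)] := by
  refine ⟨by norm_num, fun x hx => ?_⟩
  fin_cases hx <;> norm_num

theorem ok_Co2 : factorsOK 42305421312000
    [(2, 18), (3, 6), (5, 3), (7, 1), (11, 1), (23, 1)] := by
  refine ⟨by norm_num, fun x hx => ?_⟩
  fin_cases hx <;> norm_num

theorem ok_Co3 : factorsOK 495766656000
    [(2, 10), (3, 7), (5, 3), (7, 1), (11, 1), (23, 1)] := by
  refine ⟨by norm_num, fun x hx => ?_⟩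
  fin_cases hx <;> norm_num

theorem ok_McL : factorsOK 898128000 [(2, 7), (3, 6), (5, 3), (7, 1), (11, 1)] := by
  refine ⟨by norm_num, fun x hx => ?_⟩
  fin_cases hx <;> norm_num

theorem ok_HS : factorsOK 44352000 [(2, 9), (3, 2), (5, 3), (7, 1), (11, 1)] := by
  refine ⟨by norm_num, fun x hx => ?_⟩
  fin_cases hx <;> norm_num

/-- The transported conditions for a subgroup of Co0 containing a conjugate `c⁻¹ g c`. -/
theorem transfer_cond {H : Subgroup Co0} {g : Co0} {n N : ℕ} {c : Co0} (hg : orderOf g = n)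
    (hh : c⁻¹ * g * c ∈ H)
    (key : ∀ y ∈ H, c * y * c⁻¹ * g * (c * y * c⁻¹)⁻¹ ∈ Subgroup.zpowers g →
      y ^ N = 1 ∧ (Commute (c * y * c⁻¹) g → c * y * c⁻¹ ∈ Subgroup.zpowers g)) :
    orderOf (⟨c⁻¹ * g * c, hh⟩ : H) = n ∧
    (∀ y : H, (⟨c⁻¹ * g * c, hh⟩ : H) * y = y * ⟨c⁻¹ * g * c, hh⟩ →
      y ∈ Subgroup.zpowers (⟨c⁻¹ * g * c, hh⟩ : H)) ∧
    (∀ y : H, y * ⟨c⁻¹ * g * c, hh⟩ * y⁻¹ ∈ Subgroup.zpowers (⟨c⁻¹ * g * c, hh⟩ : H) → y ^ N = 1) := by
  refine ⟨?_, fun y hy => ?_, fun y hy => ?_⟩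
  · rw [Subgroup.orderOf_mk]
    have := orderOf_conj' c⁻¹ g
    rw [inv_inv] at this
    rw [this, hg]
  · have e : c⁻¹ * g * c * (y : Co0) = (y : Co0) * (c⁻¹ * g * c) := congrArg Subtype.val hy
    have hc : Commute (c * (y : Co0) * c⁻¹) g := by
      have h1 := (Commute.conj (show Commute (c⁻¹ * g * c) (y : Co0) from e) c).symm
      rwa [show c * (c⁻¹ * g * c) * c⁻¹ = g by group] at h1
    have h1 := (key y.1 y.2 (by rw [hc.eq, mul_inv_cancel_right]; exact Subgroup.mem_zpowers g)).2 hc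
    obtain ⟨j, hj⟩ := Subgroup.mem_zpowers_iff.1 h1
    refine ⟨j, Subtype.ext ?_⟩
    show ((⟨c⁻¹ * g * c, hh⟩ : H) ^ j : H).1 = (y : Co0)
    have h2 := conj_zpow (i := j) (a := c⁻¹) (b := g)
    rw [inv_inv] at h2
    rw [SubgroupClass.coe_zpow, h2, hj]
    group
  · obtain ⟨j, hj⟩ := Subgroup.mem_zpowers_iff.1 hy
    have e : (c⁻¹ * g * c) ^ j = (y : Co0) * (c⁻¹ * g * c) * (y : Co0)⁻¹ := by
      have := congrArg Subtype.val hj
      simpa using this
    have h2 := conj_zpow (i := j) (a := c⁻¹) (b := g)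
    rw [inv_inv] at h2
    have hmem : c * (y : Co0) * c⁻¹ * g * (c * (y : Co0) * c⁻¹)⁻¹ ∈ Subgroup.zpowers g := by
      refine ⟨j, ?_⟩
      show g ^ j = _
      rw [h2] at e
      calc g ^ j = c * (c⁻¹ * g ^ j * c) * c⁻¹ := by group
        _ = _ := by rw [e]; group
    exact Subtype.ext (by rw [SubgroupClass.coe_pow]; exact (key y.1 y.2 hmem).1)

/-- The conditions for a subgroup of order divisible by 23 that does not contain `-1`. -/
theorem cond_23 [Finite Co0] {H : Subgroup Co0} (hcard : 23 ∣ Nat.card H) (hneg : negOne ∉ H) :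
    ∃ g : H, orderOf g = 23 ∧ (∀ y : H, g * y = y * g → y ∈ Subgroup.zpowers g) ∧
      ∀ y : H, y * g * y⁻¹ ∈ Subgroup.zpowers g → y ^ (23 * 11) = 1 := by
  have : Fact (Nat.Prime 23) := ⟨by norm_num⟩
  obtain ⟨h, hh⟩ := exists_prime_orderOf_dvd_card' (G := H) 23 hcard
  have hp2 : ¬ 23 ^ 2 ∣ Nat.card Co0 := by
    rw [card_Co0_of_unique codeUnique]; norm_num
  obtain ⟨c, k, hk⟩ := exists_conj_zpowers hp2 (x := (h : Co0)) (y := g23)
    (by rw [Subgroup.orderOf_coe, hh]) orderOf_g23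
  have hmem : c⁻¹⁻¹ * g23 * c⁻¹ ∈ H := by
    rw [inv_inv, hk]; exact H.zpow_mem h.2 k
  refine ⟨⟨_, hmem⟩, transfer_cond orderOf_g23 hmem fun y hy hn => ?_⟩
  obtain ⟨z, hz, hz253, hzc⟩ := normalise_23 hn
  have hzcomm : ∀ a : Co0, Commute z a := by
    rcases hz with rfl | rfl
    · exact fun a => Commute.one_left a
    · exact fun a => (Subgroup.mem_center_iff.1 negOne_mem_center a).symm
  rw [(hzcomm _).mul_pow, conj_pow] at hz253
  have hz1 : z = 1 := by
    rcases hz with e | e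
    · exact e
    exfalso
    subst e
    apply hneg
    rw [show (253 : ℕ) = 2 * 126 + 1 from rfl, pow_succ, pow_mul, pow_two, negOne_sq, one_pow, one_mul] at hz253
    have e2 : y ^ (2 * 126 + 1) = negOne := by
      have h3 : c⁻¹ * y ^ (2 * 126 + 1) * c⁻¹⁻¹ = negOne⁻¹ := eq_inv_of_mul_eq_one_right hz253
      rw [inv_eq_of_mul_eq_one_left negOne_sq, inv_inv] at h3
      calc y ^ (2 * 126 + 1) = c * (c⁻¹ * y ^ (2 * 126 + 1) * c) * c⁻¹ := by group
        _ = negOne := by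
          rw [h3, (Subgroup.mem_center_iff.1 negOne_mem_center c), mul_inv_cancel_right]
    exact e2 ▸ H.pow_mem hy _
  subst hz1
  rw [one_pow, one_mul, ← conj_pow] at hz253
  simp only [one_mul] at hzc
  refine ⟨?_, fun hc => hzc hc⟩
  rw [conj_pow, conj_eq_one_iff] at hz253
  exact hz253

theorem isSimpleGroup_of_23 [Finite Co0] {H : Subgroup Co0} (hneg : negOne ∉ H) {n : ℕ}
    (hcard : Nat.card H = n) (hdvd : 23 ∣ n) (h2 : ¬ 23 ^ 2 ∣ n)
    (hbig : ¬ n ∣ 23 * 11) {L : List (ℕ × ℕ)} (hL : factorsOK n L) {q0 k0 : ℕ}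
    (hexp : ∀ x ∈ L, x.1 ≠ 23 → ∀ k < x.2, x.1 ^ (k + 1) % 23 = 1 → x.1 = q0 ∧ k + 1 = k0)
    (hkill : q0 ^ k0 ∣ n → ∃ r e, r.Prime ∧ r ≠ q0 ∧ r ^ e ∣ n ∧
      ¬ r ^ e ∣ ∏ j ∈ Finset.range k0, (q0 ^ k0 - q0 ^ j)) : IsSimpleGroup H := by
  subst hcard
  have : Fact (Nat.Prime 23) := ⟨by norm_num⟩
  obtain ⟨g, hg, hC, hN⟩ := cond_23 hdvd hneg
  exact Criterion.isSimpleGroup (p := 23) (m := 11) (by norm_num) (by norm_num) hdvd h2 hbig hg hC hN
    (by norm_num) hL hexp hkill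

theorem negOne_not_mem_stab {v : leechLattice} (hv : sqNorm (v : GolayPt → ℤ) ≠ 0) :
    negOne ∉ MulAction.stabilizer Co0 v := fun h => by
  rw [MulAction.mem_stabilizer_iff, negOne_smul] at h
  exact neg_ne_self hv h

theorem isCo2_stab {v : leechLattice} (hv : sqNorm (v : GolayPt → ℤ) = 32) :
    IsCo2 (MulAction.stabilizer Co0 v) := by
  have := finite_Co0 codeUnique
  have hc := card_stab32 codeUnique hv
  refine ⟨isSimpleGroup_of_23 (negOne_not_mem_stab (by rw [hv]; norm_num)) hc (by norm_num)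
    (by norm_num) (by norm_num) ok_Co2 (q0 := 2) (k0 := 11) (by decide +kernel)
    fun _ => ⟨5, 3, by norm_num, by norm_num, by norm_num, by decide +kernel⟩, hc⟩

theorem isCo3_stab {v : leechLattice} (hv : sqNorm (v : GolayPt → ℤ) = 48) :
    IsCo3 (MulAction.stabilizer Co0 v) := by
  have := finite_Co0 codeUnique
  have hc := card_stab48 codeUnique hv
  refine ⟨isSimpleGroup_of_23 (negOne_not_mem_stab (by rw [hv]; norm_num)) hc (by norm_num)
    (by norm_num) (by norm_num) ok_Co3 (q0 := 2) (k0 := 11) (by decide +kernel)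
    fun h => absurd h (by norm_num), hc⟩

theorem isCo1_quot : IsCo1 (Co0 ⧸ Subgroup.center Co0) := by
  have := finite_Co0 codeUnique
  have : Fact (Nat.Prime 23) := ⟨by norm_num⟩
  have hcard : Nat.card (Co0 ⧸ Subgroup.center Co0) = 4157776806543360000 := by
    have h := Subgroup.card_eq_card_quotient_mul_card_subgroup (Subgroup.center Co0)
    rw [card_center, card_Co0_of_unique codeUnique] at h
    omega
  refine ⟨?_, hcard⟩
  set mk := QuotientGroup.mk' (Subgroup.center Co0) with hmk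
  have hsur : Function.Surjective mk := QuotientGroup.mk'_surjective _
  have hker : ∀ a b : Co0, mk a = mk b → a = b ∨ a = b * negOne := by
    intro a b h
    obtain ⟨z, hz, e⟩ := (QuotientGroup.mk'_eq_mk' _).1 h
    rcases center_eq_or z hz with rfl | rfl
    · exact Or.inl (by rw [← e, mul_one])
    · exact Or.inr (by rw [← e, mul_assoc, negOne_sq, mul_one])
  have hpow : g23 ^ 23 = 1 := by rw [← orderOf_g23, pow_orderOf_eq_one]
  have hgo : orderOf (mk g23) = 23 := by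
    refine orderOf_eq_prime (by rw [← map_pow, hpow, map_one]) fun h => ?_
    rw [← map_one mk] at h
    rcases hker _ _ h with e | e
    · have h' := orderOf_g23; rw [e, orderOf_one] at h'; norm_num at h'
    · rw [one_mul] at e
      rw [e, show (23 : ℕ) = 2 * 11 + 1 from rfl, pow_succ, pow_mul, pow_two, negOne_sq, one_pow,
        one_mul] at hpow
      exact negOne_ne_one hpow
  have hlift : ∀ (y : Co0) (j : ℤ), mk (y * g23 * y⁻¹) = mk (g23 ^ j) → y * g23 * y⁻¹ = g23 ^ j := by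
    intro y j h
    rcases hker _ _ h with e | e
    · exact e
    exfalso
    have h1 : (y * g23 * y⁻¹) ^ 23 = 1 := by rw [conj_pow, hpow]; group
    have hc : Commute (g23 ^ j) negOne := Subgroup.mem_center_iff.1 negOne_mem_center _
    have hj : (g23 ^ j) ^ (23 : ℕ) = 1 := by
      rw [← zpow_natCast, ← zpow_mul, mul_comm, zpow_mul, zpow_natCast, hpow, one_zpow]
    rw [e, hc.mul_pow, hj, one_mul, show (23 : ℕ) = 2 * 11 + 1 from rfl, pow_succ, pow_mul, pow_two,
      negOne_sq, one_pow, one_mul] at h1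
    exact negOne_ne_one h1
  have hzmk : ∀ z : Co0, (z = 1 ∨ z = negOne) → mk z = 1 := by
    intro z hz
    refine (QuotientGroup.eq_one_iff _).2 ?_
    rcases hz with rfl | rfl
    · exact one_mem _
    · exact negOne_mem_center
  refine Criterion.isSimpleGroup (p := 23) (m := 11) (g := mk g23) (L := _) (q0 := 2) (k0 := 11)
    (by norm_num) (by norm_num) (by rw [hcard]; norm_num) (by rw [hcard]; norm_num)
    (by rw [hcard]; norm_num) hgo ?_ ?_ (by norm_num)
    (hcard ▸ ok_Co1) (by decide +kernel)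
    (fun _ => ⟨13, 1, by norm_num, by norm_num, by rw [hcard]; norm_num, by decide +kernel⟩)
  · intro y hy
    obtain ⟨y, rfl⟩ := hsur y
    have e := hlift y 1 (by rw [map_mul, map_mul, map_inv, zpow_one, ← hy, mul_inv_cancel_right])
    rw [zpow_one] at e
    obtain ⟨z, hz, -, hzc⟩ := normalise_23 (y := y) (by rw [e]; exact Subgroup.mem_zpowers g23)
    obtain ⟨i, hi⟩ := Subgroup.mem_zpowers_iff.1 (hzc (mul_inv_eq_iff_eq_mul.1 e))
    refine ⟨i, ?_⟩
    show mk g23 ^ i = mk y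
    rw [← map_zpow, hi, map_mul, hzmk z hz, one_mul]
  · intro y hy
    obtain ⟨y, rfl⟩ := hsur y
    obtain ⟨j, hj⟩ := Subgroup.mem_zpowers_iff.1 hy
    have e := hlift y j (by rw [map_mul, map_mul, map_inv, map_zpow, hj])
    obtain ⟨z, hz, hz253, -⟩ := normalise_23 (y := y) (by rw [e]; exact ⟨j, rfl⟩)
    have := congrArg mk hz253
    rw [map_pow, map_mul, hzmk z hz, one_mul, map_one] at this
    exact this

theorem isSimpleGroup_of_11 [Finite Co0] {H : Subgroup Co0} {c : Co0} (hh : c⁻¹ * g11 * c ∈ H)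
    (hfix : ∀ y ∈ H, (c * y * c⁻¹) • std48 = std48 ∧
      ((c * y * c⁻¹) • std32 = std32 ∨ (c * y * c⁻¹) • Spor.leechU' = Spor.leechU')) {n : ℕ}
    (hcard : Nat.card H = n) (hdvd : 11 ∣ n) (h2 : ¬ 11 ^ 2 ∣ n)
    (hbig : ¬ n ∣ 11 * 5) {L : List (ℕ × ℕ)} (hL : factorsOK n L) {q0 k0 : ℕ}
    (hexp : ∀ x ∈ L, x.1 ≠ 11 → ∀ k < x.2, x.1 ^ (k + 1) % 11 = 1 → x.1 = q0 ∧ k + 1 = k0)
    (hkill : q0 ^ k0 ∣ n → ∃ r e, r.Prime ∧ r ≠ q0 ∧ r ^ e ∣ n ∧
      ¬ r ^ e ∣ ∏ j ∈ Finset.range k0, (q0 ^ k0 - q0 ^ j)) : IsSimpleGroup H := by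
  subst hcard
  have : Fact (Nat.Prime 11) := ⟨by norm_num⟩
  obtain ⟨hg, hC, hN⟩ := transfer_cond (N := 11 * 5) orderOf_g11 hh (fun y hy hn => by
    obtain ⟨h1, h2⟩ := normalise_11 (hfix y hy).1 (hfix y hy).2 hn
    rw [conj_pow, conj_eq_one_iff] at h1
    exact ⟨h1, h2⟩)
  exact Criterion.isSimpleGroup (p := 11) (m := 5) (by norm_num) (by norm_num) hdvd h2 hbig hg hC hN
    (by norm_num) hL hexp hkill

theorem g11_fixes :
    g11 • std48 = std48 ∧ g11 • std32 = std32 ∧ g11 • Spor.leechU' = Spor.leechU' := by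
  have hsym : ∀ i, (Golay.double : Equiv.Perm GolayPt).symm i = none ↔ i = none := fun i => by
    rw [Equiv.symm_apply_eq, g11_none]
  have hsym0 : ∀ i, (Golay.double : Equiv.Perm GolayPt).symm i = some 0 ↔ i = some 0 := fun i => by
    rw [Equiv.symm_apply_eq, g11_some, mul_zero]
  refine ⟨?_, ?_, ?_⟩ <;> (apply Subtype.ext; funext i; rw [g11, coe_permHom_smul])
  · simp only [coe_std48, hsym]
  · show Spor.vecU _ = Spor.vecU i
    simp only [Spor.vecU, hsym, hsym0]
  · show Spor.vecU' _ = Spor.vecU' i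
    simp only [Spor.vecU', hsym, hsym0]

theorem smul_conj_fix {c y : Co0} {a b : leechLattice} (h : c • a = b) (hy : y • a = a) :
    (c * y * c⁻¹) • b = b := by
  rw [← h, mul_smul, mul_smul, inv_smul_smul, hy]

theorem conj_smul_fix {c : Co0} {a b : leechLattice} (h : c • a = b) (hg : g11 • b = b) :
    (c⁻¹ * g11 * c) • a = a := by
  rw [mul_smul, mul_smul, h, hg, ← h, inv_smul_smul]

theorem isMcL_stab {v w : leechLattice} (hv : sqNorm (v : GolayPt → ℤ) = 32)
    (hw : sqNorm (w : GolayPt → ℤ) = 32) (hd : dotInt (v : GolayPt → ℤ) (w : GolayPt → ℤ) = -8) :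
    IsMcL ↥(MulAction.stabilizer Co0 v ⊓ MulAction.stabilizer Co0 w) := by
  have := finite_Co0 codeUnique
  have hc := card_stab_pair codeUnique hv hw hd
  obtain ⟨c, h1, h2⟩ := transitive_pair codeUnique hv hw hd sqNorm_std32
    (w' := std48 - std32) (by
      show sqNorm ((std48 - std32 : leechLattice) : GolayPt → ℤ) = 32
      show sqNorm (fun i => -(Spor.vecV i) - Spor.vecU i) = 32
      decide +kernel) (by
      show dotInt Spor.vecU (fun i => -(Spor.vecV i) - Spor.vecU i) = -8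
      decide +kernel)
  refine ⟨isSimpleGroup_of_11 (c := c) ?_ ?_ hc (by norm_num) (by norm_num) (by norm_num) ok_McL
    (q0 := 3) (k0 := 5) (by decide +kernel)
    fun _ => ⟨5, 3, by norm_num, by norm_num, by norm_num, by decide +kernel⟩, hc⟩
  · refine ⟨conj_smul_fix h1 g11_fixes.2.1, conj_smul_fix h2 ?_⟩
    rw [smul_sub', g11_fixes.1, g11_fixes.2.1]
  · rintro y ⟨hy1, hy2⟩
    have a1 := smul_conj_fix h1 hy1
    have a2 := smul_conj_fix h2 hy2
    rw [smul_sub', a1, sub_left_inj] at a2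
    exact ⟨a2, Or.inl a1⟩

theorem isHS_stab {v w : leechLattice} (hv : sqNorm (v : GolayPt → ℤ) = 48)
    (hw : sqNorm (w : GolayPt → ℤ) = 48) (hd : dotInt (v : GolayPt → ℤ) (w : GolayPt → ℤ) = -32) :
    IsHS ↥(MulAction.stabilizer Co0 v ⊓ MulAction.stabilizer Co0 w) := by
  have := finite_Co0 codeUnique
  have hc := card_stab_hs codeUnique hv hw hd
  have hxn : sqNorm ((-(v + w) : leechLattice) : GolayPt → ℤ) = 32 := by
    rw [AddSubgroup.coe_neg, sqNorm_neg, AddSubgroup.coe_add, sqNorm_add, hv, hw, hd]; norm_num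
  have hxd : dotInt (v : GolayPt → ℤ) ((-(v + w) : leechLattice) : GolayPt → ℤ) = -16 := by
    rw [AddSubgroup.coe_neg, AddSubgroup.coe_add, dotInt_comm, dotInt_neg_left', dotInt_add_left',
      dotInt_self, hv, dotInt_comm, hd]; norm_num
  obtain ⟨c, h1, h2⟩ := transitive_hs codeUnique hv hxn hxd sqNorm_std48
    (x' := -Spor.leechU') (by
      show sqNorm (fun i => -(Spor.vecU' i)) = 32
      decide +kernel) (by
      show dotInt (fun i => -(Spor.vecV i)) (fun i => -(Spor.vecU' i)) = -16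
      decide +kernel)
  refine ⟨isSimpleGroup_of_11 (c := c) ?_ ?_ hc (by norm_num) (by norm_num) (by norm_num) ok_HS
    (q0 := 3) (k0 := 5) (by decide +kernel) fun h => absurd h (by norm_num), hc⟩
  · have a1 := conj_smul_fix h1 g11_fixes.1
    have a2 := conj_smul_fix h2 (by rw [smul_neg', g11_fixes.2.2])
    rw [smul_neg', smul_add', a1, neg_inj, add_right_inj] at a2
    exact ⟨a1, a2⟩
  · rintro y ⟨hy1, hy2⟩
    have a1 := smul_conj_fix h1 hy1
    have a2 := smul_conj_fix h2 (show y • (-(v + w)) = -(v + w) by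
      rw [smul_neg', smul_add', MulAction.mem_stabilizer_iff.1 hy1,
        MulAction.mem_stabilizer_iff.1 hy2])
    rw [smul_neg', neg_inj] at a2
    exact ⟨a1, Or.inr a2⟩

end Cfsg.Agent.Leech
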