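import Cfsg.Agent.Lib.Leech.Facts

/-!
Numbers of lattice vectors of given norm with coordinates in a given set of values.
-/
set_option autoImplicit false

namespace Cfsg.Agent.Leech

open Cfsg

/-- Vectors of norm `n` all of whose coordinates satisfy `P`. -/
def shellP (P : ℤ → Bool) (n : ℤ) : Set (GolayPt → ℤ) :=
  {x | x ∈ leechLattice ∧ sqNorm x = n ∧ ∀ i, P (x i) = true}

/-- The vectors of a coset with coordinates satisfying `P`. -/
def cosetVecsP (P : ℤ → Bool) (m : ℤ) (c : Finset GolayPt) (n : ℕ) : Finset (GolayPt → ℤ) :=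
  (cosetVecs m c n).filter fun x => ∀ i, P (x i) = true

/-- The count for a coset. -/
def cosetCountP (P : ℤ → Bool) (m : ℤ) (n k : ℕ) : ℕ :=
  tblCount ((classList m k).map fun l => l.filter P) (if m = 0 then 0 else 4) n

theorem card_cosetVecsP (P : ℤ → Bool) (m : ℤ) (c : Finset GolayPt) (n : ℕ) :
    (cosetVecsP P m c n).card = cosetCountP P m n c.card := by
  rw [cosetCountP, ← map_enumFrom, List.map_map]
  simp only [Function.comp_def]
  rw [
    ← card_vecs_eq_tblCount (fun i => (cosetVals m c i).filter P)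
      (fun i => (coordVals_nodup _ _).1.filter _)
      (fun i => (List.length_filter_le _ _).trans (coordVals_nodup _ _).2)
      (enumFrom_nodup c) (enumFrom_toFinset c) _ _ (by split_ifs <;> omega)]
  congr 1
  ext x
  simp only [cosetVecsP, cosetVecs, Finset.mem_filter, mem_vecs_univ, List.mem_filter,
    forall_and]
  tauto

theorem ncard_shellP (P : ℤ → Bool) (n : ℕ) (hn : n ≤ 80) (hw : ∀ c ∈ code, c.card ∈ [0, 8, 12, 16, 24])
    (h8 : octads.ncard = 759) (h12 : dodecads.ncard = 2576) :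
    (shellP P (n : ℤ)).ncard =
      (cosetCountP P 0 n 0 + cosetCountP P 1 n 0) + 759 * (cosetCountP P 0 n 8 + cosetCountP P 1 n 8) +
      2576 * (cosetCountP P 0 n 12 + cosetCountP P 1 n 12) +
      759 * (cosetCountP P 0 n 16 + cosetCountP P 1 n 16) +
      (cosetCountP P 0 n 24 + cosetCountP P 1 n 24) := by
  classical
  have hfin : code.Finite := Set.toFinite _
  set C := hfin.toFinset with hC
  have hmem : ∀ c, c ∈ C ↔ c ∈ code := fun c => hfin.mem_toFinset
  have e : shellP P (n : ℤ) =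
      (((({0, 1} : Finset ℤ) ×ˢ C).biUnion fun p => cosetVecsP P p.1 p.2 n : Finset _) : Set _) := by
    ext x
    simp only [shellP, Set.mem_setOf_eq, Finset.mem_coe, Finset.mem_biUnion, Finset.mem_product,
      Finset.mem_insert, Finset.mem_singleton, cosetVecsP, Finset.mem_filter]
    constructor
    · rintro ⟨hx, hN, hP⟩
      obtain ⟨m, hm, c, hc, h⟩ := exists_normal_form hx
      exact ⟨(m, c), ⟨hm, (hmem c).2 hc⟩, (mem_cosetVecs hm hn).2 ⟨h, hN⟩, hP⟩
    · rintro ⟨p, ⟨hp, hpC⟩, hx, hP⟩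
      obtain ⟨h, hN⟩ := (mem_cosetVecs hp hn).1 hx
      exact ⟨mem_lattice_iff.2 ⟨_, _, (hmem _).1 hpC, h⟩, hN, hP⟩
  have hdisj : ((({0, 1} : Finset ℤ) ×ˢ C : Finset _) : Set (ℤ × Finset GolayPt)).PairwiseDisjoint
      (fun p => cosetVecsP P p.1 p.2 n) := by
    intro p hp q hq hne
    simp only [Finset.mem_coe, Finset.mem_product, Finset.mem_insert, Finset.mem_singleton]
      at hp hq
    refine Finset.disjoint_left.2 fun x hx1 hx2 => hne ?_
    have := isLVec_unique hp.1 hq.1 ((mem_cosetVecs hp.1 hn).1 (Finset.mem_filter.1 hx1).1).1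
      ((mem_cosetVecs hq.1 hn).1 (Finset.mem_filter.1 hx2).1).1
    exact Prod.ext this.1 this.2
  rw [e, Set.ncard_coe_finset, Finset.card_biUnion hdisj, Finset.sum_product]
  simp only [card_cosetVecsP, Finset.sum_insert (by decide : (0 : ℤ) ∉ ({1} : Finset ℤ)),
    Finset.sum_singleton, ← Finset.sum_add_distrib]
  have hmaps : ∀ c ∈ C, c.card ∈ ({0, 8, 12, 16, 24} : Finset ℕ) := fun c hc => by
    simpa using hw c ((hmem c).1 hc)
  have hfib : ∀ k, {c ∈ C | c.card = k}.card = (wordsOfWeight (golayCode : Set (GolayPt → ZMod 2)) k).ncard := by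
    intro k
    rw [← Set.ncard_coe_finset]
    congr 1
    ext c
    simp only [Finset.coe_filter, Set.mem_setOf_eq, hmem, wordsOfWeight]
  have hcomp : ∀ k, k ≤ 24 → (wordsOfWeight (golayCode : Set (GolayPt → ZMod 2)) (24 - k)).ncard =
      (wordsOfWeight (golayCode : Set (GolayPt → ZMod 2)) k).ncard := by
    intro k hk
    rw [← Set.ncard_image_of_injective (wordsOfWeight (golayCode : Set (GolayPt → ZMod 2)) k) compl_injective]
    congr 1
    ext c
    simp only [wordsOfWeight, Set.mem_image, Set.mem_setOf_eq]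
    constructor
    · rintro ⟨h1, h2⟩
      refine ⟨cᶜ, ⟨compl_mem_code h1, ?_⟩, compl_compl c⟩
      simp [Finset.card_compl, h2]; omega
    · rintro ⟨d, ⟨h1, h2⟩, rfl⟩
      exact ⟨compl_mem_code h1, by simp [Finset.card_compl, h2]⟩
  have h0 : (wordsOfWeight (golayCode : Set (GolayPt → ZMod 2)) 0).ncard = 1 := by
    rw [Set.ncard_eq_one]
    refine ⟨∅, Set.ext fun c => ?_⟩
    simp only [wordsOfWeight, Set.mem_setOf_eq, Finset.card_eq_zero, Set.mem_singleton_iff]
    exact ⟨fun h => h.2, fun h => ⟨h ▸ empty_mem_code, h⟩⟩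
  have h16 : (wordsOfWeight (golayCode : Set (GolayPt → ZMod 2)) 16).ncard = 759 :=
    (hcomp 8 (by norm_num)).trans h8
  have h24 : (wordsOfWeight (golayCode : Set (GolayPt → ZMod 2)) 24).ncard = 1 :=
    (hcomp 0 (by norm_num)).trans h0
  rw [← Finset.sum_fiberwise_of_maps_to' hmaps (fun k => cosetCountP P 0 n k + cosetCountP P 1 n k)]
  simp only [Finset.sum_const, smul_eq_mul, hfib]
  rw [Finset.sum_insert (by decide), Finset.sum_insert (by decide), Finset.sum_insert (by decide),
    Finset.sum_insert (by decide), Finset.sum_singleton, h0, h16, h24]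
  simp only [octads, dodecads] at h8 h12
  rw [h8, h12]
  ring

/-- The number from the weight enumerator. -/
def countP (P : ℤ → Bool) (n : ℕ) : ℕ :=
  (cosetCountP P 0 n 0 + cosetCountP P 1 n 0) + 759 * (cosetCountP P 0 n 8 + cosetCountP P 1 n 8) +
      2576 * (cosetCountP P 0 n 12 + cosetCountP P 1 n 12) +
      759 * (cosetCountP P 0 n 16 + cosetCountP P 1 n 16) +
      (cosetCountP P 0 n 24 + cosetCountP P 1 n 24)

theorem ncard_shellP_48 (P : ℤ → Bool) :
    (shellP P 48).ncard = countP P 48 :=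
  ncard_shellP P 48 (by norm_num) code_weights Golay.ncard_octads Golay.ncard_dodecads

theorem count_shapes :
    countP (fun z => z == 0 || z == 2 || z == -2) 48 = 5275648 ∧
    countP (fun z => z == 1 || z == -1 || z == 3 || z == -3) 48 = 8290304 ∧
    countP (fun z => z != 4 && z != -4) 48 = 16773120 - 3108864 ∧
    countP (fun z => z != 5 && z != -5) 48 = 16773120 - 98304 := by
  refine ⟨?_, ?_, ?_, ?_⟩ <;> decide +kernel

theorem ncard_exists_48 {a : ℤ} (ha : 0 ≤ a) :
    {x : GolayPt → ℤ | x ∈ leechLattice ∧ sqNorm x = 48 ∧ ∃ i, |x i| = a}.ncard =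
      16773120 - countP (fun z => z != a && z != -a) 48 := by
  set T := shellP (fun z => z != a && z != -a) 48
  have hT : {x : GolayPt → ℤ | x ∈ leechLattice ∧ sqNorm x = 48 ∧ ∃ i, |x i| = a} =
      {x | x ∈ leechLattice ∧ sqNorm x = 48} \ T := by
    ext x
    simp only [T, shellP, Set.mem_setOf_eq, Set.mem_sdiff, Bool.and_eq_true, bne_iff_ne, ne_eq,
      not_and, not_forall, abs_eq ha]
    constructor
    · rintro ⟨h1, h2, i, hi⟩
      exact ⟨⟨h1, h2⟩, fun _ _ => ⟨i, fun h => by tauto⟩⟩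
    · rintro ⟨⟨h1, h2⟩, h⟩
      obtain ⟨i, hi⟩ := h h1 h2
      exact ⟨h1, h2, i, by tauto⟩
  have hfin : {x : GolayPt → ℤ | x ∈ leechLattice ∧ sqNorm x = 48}.Finite :=
    Set.finite_of_ncard_ne_zero (by rw [card_shell_48]; norm_num)
  have hsub : T ⊆ {x | x ∈ leechLattice ∧ sqNorm x = 48} := fun x hx => ⟨hx.1, hx.2.1⟩
  rw [hT, Set.ncard_sdiff hsub (hfin.subset hsub), card_shell_48, ncard_shellP_48]

theorem shape_census : {x : GolayPt → ℤ | x ∈ leechLattice ∧ sqNorm x = 48 ∧ ∀ i, x i = 0 ∨ x i = 2 ∨ x i = -2}.ncard = 5275648 ∧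
    {x : GolayPt → ℤ | x ∈ leechLattice ∧ sqNorm x = 48 ∧ ∃ i j k, i ≠ j ∧ j ≠ k ∧ i ≠ k ∧ |x i| = 3 ∧ |x j| = 3 ∧ |x k| = 3}.ncard = 8290304 ∧
    {x : GolayPt → ℤ | x ∈ leechLattice ∧ sqNorm x = 48 ∧ ∃ i, |x i| = 4}.ncard = 3108864 ∧
    {x : GolayPt → ℤ | x ∈ leechLattice ∧ sqNorm x = 48 ∧ ∃ i, |x i| = 5}.ncard = 98304 := by
  obtain ⟨hA, hB, hC, hD⟩ := count_shapes
  refine ⟨?_, ?_, ?_, ?_⟩
  · rw [← hA, ← ncard_shellP_48]
    congr 1
    ext x
    simp only [shellP, Set.mem_setOf_eq, Bool.or_eq_true, beq_iff_eq, or_assoc]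
  · rw [← hB, ← ncard_shellP_48]
    congr 1
    ext x
    simp only [shellP, Set.mem_setOf_eq, Bool.or_eq_true, beq_iff_eq, or_assoc]
    constructor
    · rintro ⟨hx, hN, i, j, k, hij, hjk, hik, hi, hj, hk⟩
      refine ⟨hx, hN, fun p => ?_⟩
      obtain ⟨m, hm, c, hc, h4, h8⟩ := exists_normal_form hx
      have hodd : ∀ q, ¬ (2 : ℤ) ∣ x q := by
        have h := h4 i
        have hi' := (abs_eq (by norm_num : (0 : ℤ) ≤ 3)).1 hi
        have hm1 : m = 1 := by
          simp only [bit] at h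
          rcases hm with rfl | rfl
          · split_ifs at h <;> omega
          · rfl
        intro q
        have h' := h4 q
        simp only [bit] at h'
        split_ifs at h' <;> omega
      have hsq : ∀ q, 1 ≤ x q ^ 2 := fun q => by
        have : x q ≠ 0 := fun e => hodd q (by rw [e]; exact dvd_zero _)
        nlinarith [Int.one_le_abs this, sq_abs (x q)]
      have hi2 : x i ^ 2 = 9 := by rw [← sq_abs, hi]; norm_num
      have hj2 : x j ^ 2 = 9 := by rw [← sq_abs, hj]; norm_num
      have hk2 : x k ^ 2 = 9 := by rw [← sq_abs, hk]; norm_num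
      by_cases hp : p = i ∨ p = j ∨ p = k
      · rcases hp with rfl | rfl | rfl
        · rcases (abs_eq (by norm_num : (0 : ℤ) ≤ 3)).1 hi with e | e <;> simp [e]
        · rcases (abs_eq (by norm_num : (0 : ℤ) ≤ 3)).1 hj with e | e <;> simp [e]
        · rcases (abs_eq (by norm_num : (0 : ℤ) ≤ 3)).1 hk with e | e <;> simp [e]
      · push Not at hp
        have hs : ∑ q ∈ ({i, j, k, p} : Finset GolayPt), (x q ^ 2 - 1) ≤ ∑ q, (x q ^ 2 - 1) :=
          Finset.sum_le_sum_of_subset_of_nonneg (Finset.subset_univ _)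
            (fun q _ _ => by linarith [hsq q])
        rw [Finset.sum_insert (by simp [hij, hik, Ne.symm hp.1]),
          Finset.sum_insert (by simp [hjk, Ne.symm hp.2.1]),
          Finset.sum_insert (by simp [Ne.symm hp.2.2]), Finset.sum_singleton, Finset.sum_sub_distrib,
          Finset.sum_const, Finset.card_univ, card_pt, hi2, hj2, hk2] at hs
        have : x p ^ 2 ≤ 1 := by
          have e : ∑ q, x q ^ 2 = 48 := hN
          rw [e] at hs; norm_num at hs; linarith
        have h1 : x p ≠ 0 := fun e => hodd p (by rw [e]; exact dvd_zero _)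
        have : -1 ≤ x p ∧ x p ≤ 1 := ⟨by nlinarith, by nlinarith⟩
        omega
    · rintro ⟨hx, hN, hP⟩
      refine ⟨hx, hN, ?_⟩
      have e : ∑ q, x q ^ 2 = 48 := hN
      have hval : ∀ q, x q ^ 2 = if |x q| = 3 then 9 else 1 := fun q => by
        rcases hP q with h | h | h | h <;> simp [h]
      rw [Finset.sum_congr rfl (fun q _ => hval q), Finset.sum_ite, Finset.sum_const, Finset.sum_const] at e
      have hc := Finset.card_filter_add_card_filter_not (s := (Finset.univ : Finset GolayPt)) (fun q => |x q| = 3)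
      rw [Finset.card_univ, card_pt] at hc
      simp only [nsmul_eq_mul, mul_one] at e
      have h3 : (Finset.univ.filter fun q => |x q| = 3).card = 3 := by omega
      obtain ⟨i, j, k, hij, hik, hjk, hs⟩ := Finset.card_eq_three.1 h3
      have hmem : ∀ q, q ∈ ({i, j, k} : Finset GolayPt) → |x q| = 3 := fun q hq => by
        rw [← hs, Finset.mem_filter] at hq
        exact hq.2
      exact ⟨i, j, k, hij, hjk, hik, hmem i (by simp), hmem j (by simp), hmem k (by simp)⟩
  · rw [ncard_exists_48 (by norm_num), hC]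
  · rw [ncard_exists_48 (by norm_num), hD]

end Cfsg.Agent.Leech
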