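import Cfsg.Agent.SporStruct.OctadStab

/-!
The pointwise stabiliser of an octad has exponent two.
-/
set_option autoImplicit false

namespace Cfsg.Agent.Leech

open Cfsg Cfsg.Agent.Golay Cfsg.Agent.SporStruct.M24
open scoped Pointwise

theorem reps6_sq : ((reps24.getD 6 []).all fun xk =>
    (List.range 24).all fun i =>
      ((evalSLP gens24 prog24).getD xk.2 idTab).getD
        (((evalSLP gens24 prog24).getD xk.2 idTab).getD i 0) 0 == i) = true := by
  decide +kernel

theorem sq_eq_one_base {g : Equiv.Perm GolayPt} (hg : g ∈ fixUpTo Cfsg.M24 6) : g * g = 1 := by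
  obtain ⟨hfix, hfst, himg, -⟩ := reps6_fix
  have hx := orbit_subset (by norm_num : 6 < 7) hg
  rw [← hfst, List.mem_map] at hx
  obtain ⟨xk, hxk, hxe⟩ := hx
  obtain ⟨h, hh, hht⟩ := evalSLP_mem Cfsg.M24 prog24 gens24 (by
    intro l hl
    simp only [gens24, List.mem_cons, List.not_mem_nil, or_false] at hl
    rcases hl with rfl | rfl | rfl | rfl
    exacts [⟨_, shift_mem, tab_shift⟩, ⟨_, projInv_mem, tab_projInv⟩,
      ⟨_, cubeTwist_mem, tab_cubeTwist⟩, ⟨1, one_mem _, tab_one⟩]) xk.2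
  have hall := List.all_eq_true.1 hfix xk hxk
  have hh8 : ∀ p ∈ toSet octadO, h p = p := by
    intro p hp
    have := List.all_eq_true.1 hall (idx p) (List.mem_range.2 (idx_lt p))
    rw [mem_toSet.1 hp, Bool.not_true, Bool.false_or, beq_iff_eq] at this
    rw [hht.apply, this, pt_idx]
  have heq : g = h := by
    refine eq_of_base (mem_fixUpTo.1 hg).1 hh fun j hj => ?_
    rcases Nat.lt_succ_iff_lt_or_eq.1 hj with hj | rfl
    · rw [(mem_fixUpTo.1 hg).2 j hj, hh8 _ (bp_facts.1 ⟨j, hj⟩)]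
    · apply idx_injective
      rw [← hxe, hht.apply, idx_bp, idx_pt (hht.lt (by decide +kernel))]
      exact (beq_iff_eq.1 (List.all_eq_true.1 himg xk hxk)).symm
  refine Equiv.ext fun p => ?_
  have hsq := beq_iff_eq.1 (List.all_eq_true.1 (List.all_eq_true.1 reps6_sq xk hxk) (idx p)
    (List.mem_range.2 (idx_lt p)))
  rw [heq, Equiv.Perm.mul_apply, Equiv.Perm.one_apply]
  refine idx_injective ?_
  rw [hht.apply (h p), idx_pt, hht.apply p, idx_pt]
  · exact hsq
  · exact hht.lt (idx_lt p)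
  · exact hht.lt (idx_lt _)

theorem sq_eq_one_of_mem_pointFix {o : Finset GolayPt} (ho : o ∈ octads) {g : Equiv.Perm GolayPt}
    (hg : g ∈ pointFix o) : g * g = 1 := by
  rw [mem_pointFix] at hg
  obtain ⟨f, hf, hfo, -⟩ := exists_frame ho none
  obtain ⟨c, hc, -, hcj⟩ := exists_map_six f hf ho hfo
  have hmem : c⁻¹ * g * c ∈ fixUpTo Cfsg.M24 6 :=
    mem_fixUpTo.2 ⟨Cfsg.M24.mul_mem (Cfsg.M24.mul_mem (Cfsg.M24.inv_mem hc) hg.1) hc, fun j hj => by
      rw [Equiv.Perm.mul_apply, Equiv.Perm.mul_apply, hcj j hj, hg.2 _ (hfo j hj), ← hcj j hj,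
        Equiv.Perm.coe_inv, Equiv.symm_apply_apply]⟩
  have h := sq_eq_one_base hmem
  have e : g * g = c * ((c⁻¹ * g * c) * (c⁻¹ * g * c)) * c⁻¹ := by group
  rw [e, h, mul_one, mul_inv_cancel]

end Cfsg.Agent.Leech
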