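import Cfsg.Agent.Lib.Leech.Criterion
import Cfsg.Agent.SporStruct.HSGraph
import Cfsg.Prelude.Def_Sporadic

/-!
A simple subgroup of index 2 in the automorphism group of the graph of an S(3,6,22).
-/
set_option autoImplicit false

namespace Cfsg.Agent.Leech.HSAut

open Cfsg Cfsg.Agent.Steiner Cfsg.Agent.SporStruct.HSGraph
open scoped Pointwise

abbrev Model := pointBlockGraph (decSet 22 autModel22)
abbrev Aut := Model ≃g Model

/-- The numbering of the vertices. -/
noncomputable def vE : Fin 100 ≃ V22 := Equiv.ofBijective vtx vtx_bijective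

/-- The action on the numbers of the vertices. -/
noncomputable def rho : Aut →* Equiv.Perm (Fin 100) :=
  MonoidHom.mk' (fun f => (vE.trans f.toEquiv).trans vE.symm) fun f g => Equiv.ext fun i => by
    show vE.symm ((f * g) (vE i)) = vE.symm (f (vE (vE.symm (g (vE i)))))
    rw [Equiv.apply_symm_apply]
    rfl

theorem rho_injective : Function.Injective rho := fun f g h => by
  refine RelIso.ext fun x => ?_
  obtain ⟨i, rfl⟩ := vE.surjective x
  have := congrArg (fun e : Equiv.Perm (Fin 100) => vE (e i)) h
  simpa [rho] using this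

/-- Transpositions whose product is the second table. -/
def swapList : List (Fin 100 × Fin 100) :=
  [(1, 2), (8, 10), (11, 12), (13, 21), (14, 22), (15, 19), (16, 20), (27, 96), (28, 95), (29, 72), (30, 71), (31, 88), (32, 87), (33, 76), (34, 75), (35, 92), (36, 91), (37, 60), (38, 59), (42, 99), (43, 65), (44, 81), (46, 53), (47, 69), (48, 85), (50, 57), (51, 66), (52, 82), (55, 70), (56, 86), (61, 98), (64, 79), (68, 83), (74, 93), (77, 90)]

theorem swap_facts : swapList.length % 2 = 1 ∧ (swapList.all fun x => x.1 != x.2) = true ∧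
    ∀ i : Fin 100, (swapList.foldl (fun z x => if z = x.1 then x.2 else if z = x.2 then x.1 else z) i).val =
      (graphTabs.getD 1 []).getD i.val 0 := by
  decide +kernel

theorem prod_apply : ∀ (L : List (Fin 100 × Fin 100)) (i : Fin 100),
    ((L.reverse).map fun x => Equiv.swap x.1 x.2).prod i =
      L.foldl (fun z x => if z = x.1 then x.2 else if z = x.2 then x.1 else z) i
  | [], i => rfl
  | a :: L, i => by
    rw [List.reverse_cons, List.map_append, List.prod_append, Equiv.Perm.mul_apply,
      List.map_singleton, List.prod_singleton, List.foldl_cons, ← prod_apply L]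
    congr 1

theorem sign_swaps : ∀ (L : List (Fin 100 × Fin 100)), (L.all fun x => x.1 != x.2) = true →
    L.length % 2 = 1 → Equiv.Perm.sign ((L.reverse).map fun x => Equiv.swap x.1 x.2).prod = -1 := by
  intro L hne hodd
  have h : ∀ M : List (Equiv.Perm (Fin 100)), (∀ σ ∈ M, σ.IsSwap) →
      Equiv.Perm.sign M.prod = (-1) ^ M.length := fun M hM => Equiv.Perm.sign_prod_list_swap hM
  rw [h _ ?_, List.length_map, List.length_reverse]
  · exact Odd.neg_one_pow (Nat.odd_iff.2 hodd)
  · intro σ hσ
    obtain ⟨x, hx, rfl⟩ := List.mem_map.1 hσ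
    have := List.all_eq_true.1 hne x (List.mem_reverse.1 hx)
    exact ⟨x.1, x.2, bne_iff_ne.1 this, rfl⟩

/-- The sign of the action on the vertices. -/
noncomputable def chi : Aut →* ℤˣ := Equiv.Perm.sign.comp rho

theorem exists_odd : ∃ f : Aut, chi f = -1 := by
  obtain ⟨f, hf⟩ := exists_aut_of_tab (t := graphTabs.getD 1 [])
    (List.all_eq_true.1 graphTabs_ok _ (by decide +kernel))
  refine ⟨f, ?_⟩
  have he : rho f = ((swapList.reverse).map fun x => Equiv.swap x.1 x.2).prod := by
    refine Equiv.ext fun i => ?_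
    obtain ⟨j, hj, hfj⟩ := hf i
    rw [prod_apply]
    show vE.symm (f (vtx i)) = _
    rw [hfj]
    refine (vE.symm_apply_apply j).trans (Fin.ext ?_)
    rw [hj, swap_facts.2.2 i]
  show Equiv.Perm.sign (rho f) = -1
  rw [he]
  exact sign_swaps _ swap_facts.2.1 swap_facts.1

theorem card_even : Nat.card chi.ker = 44352000 := by
  have h1 : chi.ker.index = 2 := by
    obtain ⟨f, hf⟩ := exists_odd
    have hsur : Function.Surjective chi := fun u => by
      rcases Int.units_eq_one_or u with rfl | rfl
      · exact ⟨1, map_one _⟩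
      · exact ⟨f, hf⟩
    rw [Subgroup.index_ker, MonoidHom.range_eq_top.2 hsur, Subgroup.card_top, Nat.card_eq_fintype_card]
    rfl
  have h := chi.ker.card_mul_index
  rw [h1, card_aut_model] at h
  omega

/-- An automorphism of order 11 of the model. -/
def elevenTab : List ℕ :=
  [20, 8, 0, 4, 10, 18, 1, 12, 2, 16, 5, 3, 11, 14, 6, 17, 21, 7, 19, 15, 9, 13]

/-- Iterates of the table. -/
def iterTab : ℕ → ℕ → ℕ
  | 0, p => p
  | n + 1, p => elevenTab.getD (iterTab n p) 0

/-- Each point as an iterate of the image of 0 or of 3. -/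
def posList : List (ℕ × Bool) :=
  [(0, true), (8, true), (10, true), (0, false), (1, false), (3, false), (7, true), (8, false), (9, true), (2, true), (2, false), (10, false), (9, false), (5, true), (6, true), (6, false), (3, true), (7, false), (4, false), (5, false), (1, true), (4, true)]

/-- The table of the element commuting with the eleven cycle with the given values at 0 and 3. -/
def comTab (p q : ℕ) : List ℕ :=
  (List.range 22).map fun x =>
    iterTab (posList.getD x (0, true)).1 (if (posList.getD x (0, true)).2 then p else q)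

theorem eleven_facts : isAutList 22 autModel22 elevenTab = true ∧
    (∀ x : Fin 22, elevenTab.getD x 0 ≠ x.val ∧ iterTab 11 x = x.val ∧
      iterTab (posList.getD x (0, true)).1 (if (posList.getD x (0, true)).2 then 0 else 3) = x.val) ∧
    (∀ k : Fin 77, mapMask 22 elevenTab (autModel22.getD k 0) ≠ autModel22.getD k 0 ∧
      mapMask 22 elevenTab (autModel22.getD k 0) < 2 ^ 22) := by
  decide +kernel

theorem com_facts : ∀ b : Fin 2, ∀ q : Fin 22, (b.val = 0 ∧ q.val = 3) ∨
    ∃ k : Fin 77, autModel22.contains (mapMask 22 (comTab (b.val * 3) q) (autModel22.getD k 0)) = false ∧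
      mapMask 22 (comTab (b.val * 3) q) (autModel22.getD k 0) < 2 ^ 22 := by
  decide +kernel

theorem comTab_base : comTab 0 3 = List.range 22 := by decide +kernel

theorem dec_mapMask {σ : Equiv.Perm (Fin 22)} {l : List ℕ} (hl : ∀ i : Fin 22, (σ i).val = l.getD i 0)
    (x : ℕ) : dec 22 (mapMask 22 l x) = (dec 22 x).image σ := by
  ext p
  rw [mem_dec, mapMask, testBit_foldl_or, Finset.mem_image]
  simp only [Nat.zero_testBit, Bool.false_or, List.any_eq_true, List.mem_range, Bool.and_eq_true,
    beq_iff_eq]
  constructor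
  · rintro ⟨i, hi, h1, h2⟩
    exact ⟨⟨i, hi⟩, mem_dec.2 h1, Fin.ext ((hl _).trans h2)⟩
  · rintro ⟨i, h1, rfl⟩
    exact ⟨i, i.2, mem_dec.1 h1, (hl i).symm⟩

theorem exists_g : ∃ g : Aut, orderOf g = 11 ∧ (∀ y : Aut, g * y = y * g → y ∈ Subgroup.zpowers g) := by
  classical
  obtain ⟨hg, hpt, hblk⟩ := eleven_facts
  obtain ⟨s, hs, hsv⟩ := exists_aut_of_isAutList hg
  let g : Aut := autOfPerm ⟨s, hs⟩ (image_eq_of_mem_aut ⟨s, hs⟩)
  have gpt : ∀ a, g (some (Sum.inl a)) = some (Sum.inl (s a)) := fun a => rfl
  have g0 : g none = none := rfl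
  have hiter : ∀ (n : ℕ) (a : Fin 22), ((s ^ n) a).val = iterTab n a.val := by
    intro n a
    induction n with
    | zero => rfl
    | succ n ih => rw [pow_succ', Equiv.Perm.mul_apply, hsv, ih]; rfl
  have gpow : ∀ (n : ℕ) (a : Fin 22), (g ^ n) (some (Sum.inl a)) = some (Sum.inl ((s ^ n) a)) := by
    intro n a
    induction n with
    | zero => rfl
    | succ n ih => rw [pow_succ' g n, RelIso.mul_apply, ih, gpt, pow_succ' s n, Equiv.Perm.mul_apply]
  have gpow0 : ∀ n : ℕ, (g ^ n) none = none := by
    intro n
    induction n with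
    | zero => rfl
    | succ n ih => rw [pow_succ' g n, RelIso.mul_apply, ih, g0]
  -- determined by the points
  have hext : ∀ f f' : Aut, f none = none → f' none = none →
      (∀ a, f (some (Sum.inl a)) = f' (some (Sum.inl a))) → f = f' := by
    intro f f' h0 h0' h
    obtain ⟨σ, -, hp, hb⟩ := exists_point_perm h0
    obtain ⟨σ', -, hp', hb'⟩ := exists_point_perm h0'
    have e : σ = σ' := Equiv.ext fun a => by
      have := h a
      rw [hp, hp'] at this
      simpa using this
    refine RelIso.ext fun x => ?_
    rcases x with _ | (a | b)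
    · rw [h0, h0']
    · exact h a
    · obtain ⟨c, hc1, hc2⟩ := hb b
      obtain ⟨c', hc1', hc2'⟩ := hb' b
      rw [hc1, hc1', show c = c' from Subtype.ext (by rw [hc2, hc2', e])]
  have hs11 : ∀ a, (s ^ 11) a = a := fun a => Fin.ext ((hiter 11 a).trans (hpt a).2.1)
  refine ⟨g, ?_, fun y hy => ?_⟩
  · have : Fact (Nat.Prime 11) := ⟨by norm_num⟩
    refine orderOf_eq_prime (hext _ 1 (gpow0 11) rfl fun a => ?_) fun h => ?_
    · rw [gpow, hs11]; rfl
    · have h1 : g (some (Sum.inl (0 : Fin 22))) = some (Sum.inl 0) := by rw [h]; rfl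
      rw [gpt, Option.some.injEq, Sum.inl.injEq] at h1
      exact (hpt 0).1 ((hsv 0).symm.trans (congrArg Fin.val h1))
  have hyg : ∀ x, g (y x) = y (g x) := fun x => by
    have := congrArg (fun f : Aut => f x) hy
    simpa [RelIso.mul_apply] using this
  have hy0 : y none = none := by
    have h := hyg none
    rw [g0] at h
    rcases hc : y none with _ | (a | b)
    · rfl
    · rw [hc, gpt, Option.some.injEq, Sum.inl.injEq] at h
      exact absurd ((hsv a).symm.trans (congrArg Fin.val h)) (hpt a).1
    · exfalso
      rw [hc] at h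
      obtain ⟨k, rfl⟩ := blockNum.surjective b
      obtain ⟨σ, -, hp, hb⟩ := exists_point_perm (f := g) g0
      obtain ⟨c, hc1, hc2⟩ := hb (blockNum k)
      rw [hc1, Option.some.injEq, Sum.inr.injEq] at h
      subst h
      have hσ : σ = s := Equiv.ext fun a => by
        have := hp a
        rw [gpt] at this
        simpa using this.symm
      rw [hσ, show ((blockNum k : decSet 22 autModel22) : Finset (Fin 22)) =
        dec 22 (autModel22.getD k.val 0) from rfl, ← dec_mapMask hsv] at hc2
      exact (hblk k).1 (Cfsg.Agent.SporStruct.HSGraph.dec_injOn (hblk k).2 (autModel22_lt _ (getD_mem_model k)) hc2.symm)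
  -- one orbit representative
  have core : ∀ z : Aut, z none = none → (∀ x, g (z x) = z (g x)) →
      (∀ p, z (some (Sum.inl 0)) = some (Sum.inl p) → p = 0 ∨ p = 3) → z = 1 := by
    intro z h0 hzg hb0
    obtain ⟨σ, hσ, hp, -⟩ := exists_point_perm h0
    have hcomm : ∀ (n : ℕ) a, σ ((s ^ n) a) = (s ^ n) (σ a) := by
      intro n
      induction n with
      | zero => intro a; rfl
      | succ n ih =>
        intro a
        rw [pow_succ', Equiv.Perm.mul_apply, Equiv.Perm.mul_apply, ← ih]
        have h := hzg (some (Sum.inl ((s ^ n) a)))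
        rw [hp, gpt, gpt, hp] at h
        simpa using h.symm
    have htab : ∀ i : Fin 22, (σ i).val = (comTab (σ 0).val (σ 3).val).getD i 0 := by
      intro i
      rw [comTab, List.getD_eq_getElem _ _ (by simp), List.getElem_map, List.getElem_range]
      have h := (hpt i).2.2
      by_cases hb : (posList.getD i.val (0, true)).2 = true
      · rw [if_pos hb] at h ⊢
        have e : (s ^ (posList.getD i.val (0, true)).1) 0 = i := Fin.ext ((hiter _ _).trans h)
        conv_lhs => rw [← e, hcomm, hiter]
      · rw [if_neg hb] at h ⊢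
        have e : (s ^ (posList.getD i.val (0, true)).1) 3 = i := Fin.ext ((hiter _ _).trans h)
        conv_lhs => rw [← e, hcomm, hiter]
    obtain ⟨b, hb⟩ : ∃ b : Fin 2, (σ 0).val = b.val * 3 := by
      rcases hb0 _ (hp 0) with e | e
      · exact ⟨0, by rw [e]; rfl⟩
      · exact ⟨1, by rw [e]; rfl⟩
    rcases com_facts b (σ 3) with ⟨e1, e2⟩ | ⟨k, hbad, hlt⟩
    · refine hext _ _ h0 rfl fun a => ?_
      rw [hp]
      show some (Sum.inl (σ a)) = some (Sum.inl a)
      congr 2
      refine Fin.ext ?_
      rw [htab a, hb, e1, e2, comTab_base, List.getD_eq_getElem _ _ (by simp), List.getElem_range]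
    · exfalso
      rw [← hb] at hbad hlt
      have hmem : (dec 22 (autModel22.getD k.val 0)).image σ ∈ decSet 22 autModel22 :=
        (mem_setSystemAut.1 hσ).le (Set.mem_image_of_mem _ ⟨_, getD_mem_model k, rfl⟩)
      obtain ⟨m, hm, e⟩ := hmem
      rw [← dec_mapMask htab] at e
      rw [Cfsg.Agent.SporStruct.HSGraph.dec_injOn (autModel22_lt _ hm) hlt e, ← List.contains_iff_mem] at hm
      rw [hm] at hbad
      exact Bool.noConfusion hbad
  obtain ⟨τ, -, hp, -⟩ := exists_point_perm hy0
  set n := (posList.getD (τ 0).val (0, true)).1 with hn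
  have hz : (g ^ n)⁻¹ * y = 1 := by
    refine core _ ?_ ?_ ?_
    · rw [RelIso.mul_apply, hy0]
      conv_lhs => rw [← gpow0 n]
      exact RelIso.symm_apply_apply _ _
    · have hc : Commute g ((g ^ n)⁻¹ * y) := ((Commute.self_pow g n).inv_right).mul_right hy
      intro x
      have := congrArg (fun f : Aut => f x) hc.eq
      simpa [RelIso.mul_apply] using this
    · intro p hpz
      have h := (hpt (τ 0)).2.2
      rw [RelIso.mul_apply, hp] at hpz
      have h' : (g ^ n) (some (Sum.inl p)) = some (Sum.inl (τ 0)) := by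
        rw [← hpz]; exact RelIso.apply_symm_apply _ _
      rw [gpow, Option.some.injEq, Sum.inl.injEq] at h'
      by_cases hb : (posList.getD (τ 0).val (0, true)).2 = true
      · left
        rw [if_pos hb] at h
        exact (s ^ n).injective (h'.trans (Fin.ext ((hiter n 0).trans h).symm))
      · right
        rw [if_neg hb] at h
        exact (s ^ n).injective (h'.trans (Fin.ext ((hiter n 3).trans h).symm))
  exact ⟨(n : ℤ), by show g ^ ((n : ℕ) : ℤ) = y; rw [zpow_natCast]; exact inv_mul_eq_one.1 hz⟩

theorem isHS_even : IsHS chi.ker := by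
  classical
  refine ⟨?_, card_even⟩
  obtain ⟨g, hg, hC⟩ := exists_g
  have hmem : g ∈ chi.ker := by
    rw [MonoidHom.mem_ker]
    rcases Int.units_eq_one_or (chi g) with h | h
    · exact h
    exfalso
    have h' : chi g ^ 11 = 1 := by rw [← map_pow, ← hg, pow_orderOf_eq_one, map_one]
    rw [h] at h'
    exact absurd h' (by decide)
  let g' : chi.ker := ⟨g, hmem⟩
  have hg' : orderOf g' = 11 := by rw [← Subgroup.orderOf_coe]; exact hg
  have hC' : ∀ y : chi.ker, g' * y = y * g' → y ∈ Subgroup.zpowers g' := fun y hy => by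
    obtain ⟨j, hj⟩ := Subgroup.mem_zpowers_iff.1 (hC y.1 (congrArg Subtype.val hy))
    exact ⟨j, Subtype.ext ((Subgroup.coe_zpow _ _ _).trans hj)⟩
  have : Finite chi.ker := Nat.finite_of_card_ne_zero (by rw [card_even]; norm_num)
  have : Fact (Nat.Prime 11) := ⟨by norm_num⟩
  have hP : Nat.card (Subgroup.zpowers g') = 11 ^ (Nat.card chi.ker).factorization 11 := by
    rw [Nat.card_zpowers, hg', card_even, show (44352000 : ℕ) = 11 * 4032000 by norm_num,
      Nat.factorization_mul (by norm_num) (by norm_num), Finsupp.add_apply,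
      Nat.Prime.factorization_self (by norm_num), Nat.factorization_eq_zero_of_not_dvd (by norm_num)]
    rfl
  let P : Sylow 11 chi.ker := Sylow.ofCard _ hP
  set N := Subgroup.normalizer (Subgroup.zpowers g' : Set chi.ker) with hN
  have hle := Criterion.card_normalizer_le hg' hC' (N := N) fun y hy =>
    (Subgroup.mem_normalizer_iff.1 hy g').1 (Subgroup.mem_zpowers g')
  obtain ⟨d, hd⟩ : 11 ∣ Nat.card N := hg' ▸
    Subgroup.orderOf_dvd_natCard _ (Subgroup.le_normalizer (Subgroup.mem_zpowers g'))
  have hsyl := card_sylow_modEq_one 11 chi.ker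
  rw [P.card_eq_index_normalizer] at hsyl
  change N.index ≡ 1 [MOD 11] at hsyl
  have hmul := N.card_mul_index
  rw [hd, card_even] at hmul
  have hd5 : d = 5 := by
    have hd10 : d ≤ 10 := by omega
    rw [Nat.ModEq] at hsyl
    interval_cases d <;> omega
  rw [hd5] at hd
  refine Criterion.isSimpleGroup (p := 11) (m := 5) (g := g') (by norm_num) (by norm_num)
    (by rw [card_even]; norm_num) (by rw [card_even]; norm_num) (by rw [card_even]; norm_num) hg' hC' ?_
    (by norm_num) (L := [(2, 9), (3, 2), (5, 3), (7, 1), (11, 1)]) ?_ (q0 := 3) (k0 := 5)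
    (by decide +kernel) (fun h => absurd h (by rw [card_even]; norm_num))
  · intro y hy
    have hyN : y ∈ N := by
      have hle : (Subgroup.zpowers g').map (MulAut.conj y).toMonoidHom ≤ Subgroup.zpowers g' := by
        rw [MonoidHom.map_zpowers, Subgroup.zpowers_le]
        exact hy
      have heq := Subgroup.eq_of_le_of_card_ge hle (le_of_eq
        (Nat.card_congr (Subgroup.equivMapOfInjective _ _ (MulAut.conj y).injective).toEquiv))
      rw [hN, Subgroup.mem_normalizer_iff]
      intro h
      conv_rhs => rw [← heq]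
      exact (Subgroup.mem_map_iff_mem (f := (MulAut.conj y).toMonoidHom) (MulAut.conj y).injective).symm
    rw [← orderOf_dvd_iff_pow_eq_one, ← hd]
    exact Subgroup.orderOf_dvd_natCard _ hyN
  · refine ⟨by rw [card_even]; norm_num, fun x hx => ?_⟩
    rw [card_even]
    fin_cases hx <;> norm_num

theorem isSimpleGroup_congr' {G H : Type*} [Group G] [Group H] (e : G ≃* H) (h : IsSimpleGroup H) :
    IsSimpleGroup G :=
  have : Nontrivial G := e.toEquiv.nontrivial
  have := h
  IsSimpleGroup.isSimpleGroup_of_surjective e.symm.toMonoidHom e.symm.surjective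

theorem exists_HS {α : Type*} [Fintype α] (hα : Fintype.card α = 22) {B : Set (Finset α)}
    (hB : IsSteinerSystem 3 6 B) :
    ∃ H : Subgroup (pointBlockGraph B ≃g pointBlockGraph B), IsHS H := by
  classical
  let a := Fintype.equivFinOfCardEq hα
  obtain ⟨e, he⟩ := normalForm22' _ (steiner_image hB a)
  rw [Set.image_image] at he
  have he' : (fun b => b.image (a.trans e)) '' B = decSet 22 autModel22 := by
    rw [← he]
    refine Set.image_congr fun b _ => ?_
    simp [Finset.image_image, Function.comp_def]
  let i := graphIso _ he'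
  let T : Aut →* (pointBlockGraph B ≃g pointBlockGraph B) :=
    MonoidHom.mk' (fun f => (i.trans f).trans i.symm) fun f f' => RelIso.ext fun x => by simp [RelIso.mul_apply]
  have hT : Function.Injective T := fun f f' h => by
    refine RelIso.ext fun x => ?_
    have := congrArg (fun F : pointBlockGraph B ≃g pointBlockGraph B => i (F (i.symm x))) h
    simpa [T] using this
  refine ⟨chi.ker.map T, ?_⟩
  let E := chi.ker.equivMapOfInjective T hT
  exact ⟨isSimpleGroup_congr' E.symm isHS_even.1, (Nat.card_congr E.symm.toEquiv).trans isHS_even.2⟩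

end Cfsg.Agent.Leech.HSAut
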