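import Cfsg.Prelude.Def_Sporadic_a

/-!
Leech lattice basics that only use the group structure of the code:
membership in the lattice, the bit vector of a set of points.
-/
set_option autoImplicit false

namespace Cfsg.Agent.Leech

open Cfsg
open scoped Pointwise

/-- The code as a family of supports. -/
abbrev code : Set (Finset GolayPt) := supports (golayCode : Set (GolayPt → ZMod 2))

/-- The 0/1 vector of a set of points. -/
def bit (c : Finset GolayPt) (i : GolayPt) : ℤ := if i ∈ c then 1 else 0

theorem zmod2_cases : ∀ a : ZMod 2, a = 0 ∨ a = 1 := by decide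

theorem empty_mem_code : (∅ : Finset GolayPt) ∈ code := by
  refine ⟨0, Submodule.zero_mem _, ?_⟩
  ext p; simp [support₂]

theorem univ_mem_code : (Finset.univ : Finset GolayPt) ∈ code := by
  refine ⟨1, Submodule.subset_span (Set.mem_union_right _ rfl), ?_⟩
  ext p; simp [support₂]

theorem symmDiff_mem_code {c d : Finset GolayPt} (hc : c ∈ code) (hd : d ∈ code) :
    symmDiff c d ∈ code := by
  obtain ⟨u, hu, rfl⟩ := hc
  obtain ⟨v, hv, rfl⟩ := hd
  refine ⟨u + v, Submodule.add_mem _ hu hv, ?_⟩
  ext p
  rcases zmod2_cases (u p) with h | h <;> rcases zmod2_cases (v p) with h' | h' <;>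
    simp [support₂, Finset.mem_symmDiff, h, h'] <;> decide

theorem compl_mem_code {c : Finset GolayPt} (hc : c ∈ code) : cᶜ ∈ code := by
  have h := symmDiff_mem_code hc univ_mem_code
  have e : symmDiff c Finset.univ = cᶜ := by ext p; simp [Finset.mem_symmDiff]
  rwa [e] at h

/-- Membership condition with explicit parameters. -/
def IsLVec (m : ℤ) (c : Finset GolayPt) (x : GolayPt → ℤ) : Prop :=
  (∀ i, (4 : ℤ) ∣ x i - m - 2 * bit c i) ∧ (8 : ℤ) ∣ (∑ i, x i) - 4 * m

theorem mem_leechSet_iff {x : GolayPt → ℤ} :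
    x ∈ leechSet ↔ ∃ m : ℤ, ∃ c ∈ code, IsLVec m c x := by
  constructor
  · rintro ⟨m, h2, hsum, hk⟩
    refine ⟨m, _, hk (m + 2), fun i => ?_, ?_⟩
    · have := h2 i
      simp only [Int.ModEq] at this
      simp only [bit, Finset.mem_filter, Finset.mem_univ, true_and]
      split_ifs with h
      · simp only [Int.ModEq] at h; omega
      · simp only [Int.ModEq] at h; omega
    · simp only [Int.ModEq] at hsum; omega
  · rintro ⟨m, c, hc, h4, h8⟩
    refine ⟨m, fun i => ?_, ?_, fun k => ?_⟩
    · have := h4 i
      simp only [Int.ModEq]; omega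
    · simp only [Int.ModEq]; omega
    · by_cases hk0 : (4 : ℤ) ∣ k - m
      · have e : (Finset.univ.filter fun i => x i ≡ k [ZMOD 4]) = cᶜ := by
          ext i
          have := h4 i
          simp only [bit] at this
          rw [Finset.mem_filter, Finset.mem_compl]
          simp only [Finset.mem_univ, true_and, Int.ModEq]
          split_ifs at this with h <;> simp only [h, not_true_eq_false, not_false_eq_true,
            iff_true, iff_false] <;> omega
        rw [e]; exact compl_mem_code hc
      · by_cases hk2 : (4 : ℤ) ∣ k - m - 2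
        · have e : (Finset.univ.filter fun i => x i ≡ k [ZMOD 4]) = c := by
            ext i
            have := h4 i
            simp only [bit] at this
            rw [Finset.mem_filter]
            simp only [Finset.mem_univ, true_and, Int.ModEq]
            split_ifs at this with h <;> simp only [h, iff_true, iff_false] <;> omega
          rw [e]; exact hc
        · have e : (Finset.univ.filter fun i => x i ≡ k [ZMOD 4]) = ∅ := by
            apply Finset.filter_false_of_mem
            intro i _ h
            have := h4 i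
            simp only [bit] at this
            simp only [Int.ModEq] at h
            split_ifs at this <;> omega
          rw [e]; exact empty_mem_code

theorem bit_add (c d : Finset GolayPt) (i : GolayPt) :
    bit c i + bit d i = bit (symmDiff c d) i + 2 * bit (c ∩ d) i := by
  by_cases hc : i ∈ c <;> by_cases hd : i ∈ d <;> simp [bit, Finset.mem_symmDiff, hc, hd]

theorem IsLVec.add {m n : ℤ} {c d : Finset GolayPt} {x y : GolayPt → ℤ}
    (hx : IsLVec m c x) (hy : IsLVec n d y) : IsLVec (m + n) (symmDiff c d) (x + y) := by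
  refine ⟨fun i => ?_, ?_⟩
  · have h := bit_add c d i
    have h1 := hx.1 i
    have h2 := hy.1 i
    simp only [Pi.add_apply]
    omega
  · have h1 := hx.2
    have h2 := hy.2
    simp only [Pi.add_apply, Finset.sum_add_distrib]
    omega

theorem IsLVec.neg {m : ℤ} {c : Finset GolayPt} {x : GolayPt → ℤ} (hx : IsLVec m c x) :
    IsLVec (-m) c (-x) := by
  refine ⟨fun i => ?_, ?_⟩
  · have h1 := hx.1 i
    simp only [Pi.neg_apply]
    omega
  · have h1 := hx.2
    simp only [Pi.neg_apply, Finset.sum_neg_distrib]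
    omega

theorem isLVec_zero : IsLVec 0 ∅ (0 : GolayPt → ℤ) := by
  refine ⟨fun i => ?_, ?_⟩ <;> simp [bit]

/-- The lattice as an additive subgroup with carrier `leechSet`. -/
def leechGroup : AddSubgroup (GolayPt → ℤ) where
  carrier := leechSet
  zero_mem' := mem_leechSet_iff.2 ⟨0, ∅, empty_mem_code, isLVec_zero⟩
  add_mem' := by
    intro x y hx hy
    obtain ⟨m, c, hc, h1⟩ := mem_leechSet_iff.1 hx
    obtain ⟨n, d, hd, h2⟩ := mem_leechSet_iff.1 hy
    exact mem_leechSet_iff.2 ⟨_, _, symmDiff_mem_code hc hd, h1.add h2⟩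
  neg_mem' := by
    intro x hx
    obtain ⟨m, c, hc, h1⟩ := mem_leechSet_iff.1 hx
    exact mem_leechSet_iff.2 ⟨_, _, hc, h1.neg⟩

theorem leechLattice_eq : leechLattice = leechGroup := AddSubgroup.closure_eq leechGroup

theorem coe_leechLattice : (leechLattice : Set (GolayPt → ℤ)) = leechSet := by
  rw [leechLattice_eq]; rfl

theorem mem_lattice_iff_mem_set {x : GolayPt → ℤ} : x ∈ leechLattice ↔ x ∈ leechSet := by
  rw [leechLattice_eq]; rfl

theorem mem_lattice_iff {x : GolayPt → ℤ} :
    x ∈ leechLattice ↔ ∃ m : ℤ, ∃ c ∈ code, IsLVec m c x :=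
  mem_lattice_iff_mem_set.trans mem_leechSet_iff

/-- The parameters can be normalised to `m = 0` or `m = 1`. -/
theorem exists_normal_form {x : GolayPt → ℤ} (hx : x ∈ leechLattice) :
    ∃ m : ℤ, (m = 0 ∨ m = 1) ∧ ∃ c ∈ code, IsLVec m c x := by
  obtain ⟨m, c, hc, h4, h8⟩ := mem_lattice_iff.1 hx
  refine ⟨m % 2, Int.emod_two_eq_zero_or_one m, ?_⟩
  by_cases h : (4 : ℤ) ∣ m - m % 2
  · refine ⟨c, hc, fun i => ?_, ?_⟩
    · have := h4 i; omega
    · omega
  · refine ⟨cᶜ, compl_mem_code hc, fun i => ?_, ?_⟩
    · have := h4 i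
      have e : bit cᶜ i = 1 - bit c i := by by_cases hi : i ∈ c <;> simp [bit, hi]
      omega
    · omega

/-- Permutations of the code permute the lattice. -/
theorem comp_mem_lattice {σ : Equiv.Perm GolayPt} (hσ : σ ∈ M24) {x : GolayPt → ℤ}
    (hx : x ∈ leechLattice) : (fun i => x (σ i)) ∈ leechLattice := by
  obtain ⟨m, c, hc, h4, h8⟩ := mem_lattice_iff.1 hx
  have hinv : σ⁻¹ • code = code := MulAction.mem_stabilizer_iff.1 (inv_mem hσ)
  refine mem_lattice_iff.2 ⟨m, σ⁻¹ • c, ?_, fun i => ?_, ?_⟩
  · rw [← hinv]; exact Set.smul_mem_smul_set hc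
  · have e : bit (σ⁻¹ • c) i = bit c (σ i) := by
      have hi : i ∈ σ⁻¹ • c ↔ σ i ∈ c := by
        rw [Finset.mem_inv_smul_finset_iff]; rfl
      by_cases h : σ i ∈ c <;> simp [bit, h, hi]
    rw [e]; exact h4 (σ i)
  · rwa [Equiv.sum_comp σ x]

end Cfsg.Agent.Leech
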