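import Cfsg.Agent.Lib.Leech.FrameMap
import Cfsg.Agent.SporStruct.LatticeClasses

/-!
Conway's characterisation of the lattice by the numbers of short vectors.
-/
set_option autoImplicit false

namespace Cfsg.Agent.Leech

open Cfsg
open Matrix

theorem characterisation (hu : CodeUnique) (B : Matrix (Fin 24) (Fin 24) ℤ) (hsymm : B.IsSymm)
    (hpos : ∀ x : Fin 24 → ℤ, x ≠ 0 → 0 < x ⬝ᵥ (B *ᵥ x))
    (heven : ∀ x : Fin 24 → ℤ, (2 : ℤ) ∣ x ⬝ᵥ (B *ᵥ x))
    (h2 : ∀ x : Fin 24 → ℤ, x ⬝ᵥ (B *ᵥ x) ≠ 2)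
    (h4 : {x : Fin 24 → ℤ | x ⬝ᵥ (B *ᵥ x) = 4}.ncard = 196560)
    (h6 : {x : Fin 24 → ℤ | x ⬝ᵥ (B *ᵥ x) = 6}.ncard = 16773120)
    (h8 : {x : Fin 24 → ℤ | x ⬝ᵥ (B *ᵥ x) = 8}.ncard = 398034000) :
    ∃ f : (Fin 24 → ℤ) ≃+ leechLattice,
      ∀ x : Fin 24 → ℤ, sqNorm ((f x : leechLattice) : GolayPt → ℤ) = 8 * (x ⬝ᵥ (B *ᵥ x)) := by
  classical
  have hER : SporStruct.IsEvenRootless B := ⟨hsymm, hpos, heven, h2⟩
  have hclass := (SporStruct.classes_census hER (Fintype.card_fin 24) h4 h6 h8).2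
  let e : Fin 24 ≃ GolayPt := Fintype.equivOfCardEq (by rw [Fintype.card_fin]; decide)
  let B' : Matrix GolayPt GolayPt ℤ := (8 : ℤ) • B.submatrix e.symm e.symm
  have hB' : B'.IsSymm := by
    ext i j
    simp only [B', Matrix.transpose_apply, Matrix.smul_apply, Matrix.submatrix_apply, hsymm.apply]
  have hform : ∀ x y : GolayPt → ℤ, x ⬝ᵥ (B' *ᵥ y) = 8 * ((x ∘ e) ⬝ᵥ (B *ᵥ (y ∘ e))) := by
    intro x y
    simp only [B', Matrix.smul_mulVec, dotProduct_smul, smul_eq_mul, Matrix.submatrix_mulVec_equiv]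
    rw [dotProduct_comp_equiv_symm]
    rfl
  have hne : {x : Fin 24 → ℤ | x ⬝ᵥ (B *ᵥ x) = 8}.Nonempty :=
    Set.nonempty_of_ncard_ne_zero (by rw [h8]; norm_num)
  obtain ⟨x0, hx0 : x0 ⬝ᵥ (B *ᵥ x0) = 8⟩ := hne
  have hS := hclass x0 hx0
  set S : Set (Fin 24 → ℤ) := {y | y ⬝ᵥ (B *ᵥ y) = 8 ∧ ∀ i, (2 : ℤ) ∣ (x0 - y) i} with hSdef
  have hfin : S.Finite := Set.finite_of_ncard_ne_zero (by
    have : S.ncard = 48 := hS
    omega)
  let T : Finset (GolayPt → ℤ) := hfin.toFinset.image fun y => y ∘ e.symm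
  have hT : ∀ y, y ∈ T ↔ y ∘ e ∈ S := by
    intro y
    simp only [T, Finset.mem_image, Set.Finite.mem_toFinset]
    constructor
    · rintro ⟨z, hz, rfl⟩
      simpa [Function.comp_assoc] using hz
    · intro h; exact ⟨_, h, by simp [Function.comp_assoc]⟩
  have hqneg : ∀ z : Fin 24 → ℤ, (-z) ⬝ᵥ (B *ᵥ (-z)) = z ⬝ᵥ (B *ᵥ z) := fun z => by
    rw [Matrix.mulVec_neg, neg_dotProduct_neg]
  obtain ⟨a, -, hmem, hdist⟩ := exists_reps (S := T)
    (fun y hy => by
      rw [hT] at hy ⊢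
      refine ⟨?_, fun i => ?_⟩
      · show (-(y ∘ e)) ⬝ᵥ (B *ᵥ (-(y ∘ e))) = 8
        rw [hqneg]; exact hy.1
      · have := hy.2 i
        simp only [Pi.sub_apply, Function.comp_apply, Pi.neg_apply] at this ⊢
        omega)
    (fun y hy h0 => by
      rw [hT, h0] at hy
      have := hy.1
      simp at this)
    (by
      have h48 : S.ncard = 48 := hS
      rw [Finset.card_image_of_injective _ fun y z h => ?_, ← Set.ncard_eq_toFinset_card _ hfin, h48]
      funext i
      simpa using congrFun h (e i))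
    (x₀ := x0 ∘ e.symm) (by
      rw [hT]
      simp only [Function.comp_assoc, Equiv.symm_comp_self, Function.comp_id]
      exact ⟨hx0, fun i => by simp⟩)
  simp only [hT] at hmem
  have hcong : ∀ i j, ∀ k, (2 : ℤ) ∣ (a i ∘ e - a j ∘ e) k := fun i j k => by
    have h1 := (hmem i).2 k
    have h2 := (hmem j).2 k
    simp only [Pi.sub_apply] at h1 h2 ⊢
    omega
  have hF : IsFrame B' (⊤ : AddSubgroup (GolayPt → ℤ)) a := by
    refine ⟨fun i j => ?_, fun i => trivial, fun i y _ => ?_⟩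
    · rw [hform]
      by_cases hij : i = j
      · subst hij; rw [if_pos rfl, (hmem i).1]; norm_num
      · rw [if_neg hij]
        rcases SporStruct.congr_eight hER (hmem i).1 (hmem j).1 (hcong i j) with h | h | h
        · exact absurd (funext fun k => by simpa using (congrFun h (e.symm k)).symm) (hdist i j hij).1
        · exact absurd (funext fun k => by
            have := congrFun h (e.symm k)
            simp only [Function.comp_apply, Pi.neg_apply, Equiv.apply_symm_apply] at this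
            simp only [Pi.neg_apply]
            omega) (hdist i j hij).2
        · rw [show (a i ∘ e) ⬝ᵥ (B *ᵥ (a j ∘ e)) = 0 from h]; norm_num
    · rw [hform]; exact dvd_mul_right 8 _
  obtain ⟨f, σ, s, hnorm, -⟩ := hF.exists_iso hu hB'
    (fun i j => ⟨fun k => (a i k - a j k) / 2, trivial, funext fun k => by
      have := hcong i j (e.symm k)
      simp only [Pi.sub_apply, Function.comp_apply, Equiv.apply_symm_apply] at this
      simp only [Pi.sub_apply, Pi.smul_apply, nsmul_eq_mul, Nat.cast_ofNat]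
      omega⟩)
    (fun y _ => by
      rw [hform]
      obtain ⟨k, hk⟩ := heven (y ∘ e)
      exact ⟨k, by rw [hk]; ring⟩)
    (fun y _ hy0 => by
      rw [hform]
      have hne : y ∘ e ≠ 0 := fun h => hy0 (funext fun k => by simpa using congrFun h (e.symm k))
      have : (4 : ℤ) ≤ (y ∘ e) ⬝ᵥ (B *ᵥ (y ∘ e)) := hER.four_le hne
      linarith)
    (by
      rw [← h4, ← Set.ncard_image_of_injective {x : Fin 24 → ℤ | x ⬝ᵥ (B *ᵥ x) = 4}
        (f := fun x => x ∘ e.symm) (fun y z h => funext fun i => by simpa using congrFun h (e i))]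
      congr 1
      ext y
      simp only [Set.mem_image, Set.mem_setOf_eq, AddSubgroup.mem_top, true_and, hform]
      constructor
      · intro h; exact ⟨y ∘ e, by linarith, by simp [Function.comp_assoc]⟩
      · rintro ⟨z, hz, rfl⟩
        simp only [Function.comp_assoc, Equiv.symm_comp_self, Function.comp_id, hz]
        norm_num)
  let j : (Fin 24 → ℤ) ≃+ (⊤ : AddSubgroup (GolayPt → ℤ)) :=
    { toFun := fun x => ⟨x ∘ e.symm, trivial⟩
      invFun := fun y => y.1 ∘ e
      left_inv := fun x => by simp [Function.comp_assoc]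
      right_inv := fun y => Subtype.ext (by simp [Function.comp_assoc])
      map_add' := fun x y => rfl }
  refine ⟨j.trans f, fun x => ?_⟩
  rw [AddEquiv.trans_apply, hnorm, hform]
  congr 2 <;> simp [j, Function.comp_assoc]

end Cfsg.Agent.Leech
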