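import Cfsg.Agent.Lib.Leech.FrameMap
import Cfsg.Agent.Lib.Leech.Center

/-!
Transitivity of Co0 on vectors of norm 64 and the order of Co0, from uniqueness of the code.
-/
set_option autoImplicit false

namespace Cfsg.Agent.Leech

open Cfsg
open scoped Pointwise

theorem dotInt_eq_dotProduct (x y : GolayPt → ℤ) :
    dotInt x y = dotProduct x ((1 : Matrix GolayPt GolayPt ℤ).mulVec y) := by
  rw [Matrix.one_mulVec]; rfl

theorem sqNorm_eq_dotProduct (x : GolayPt → ℤ) :
    sqNorm x = dotProduct x ((1 : Matrix GolayPt GolayPt ℤ).mulVec x) := by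
  rw [← dotInt_eq_dotProduct, dotInt_self]

/-- Every vector of norm 64 is carried to the first frame vector. -/
theorem exists_smul_eq_frame (hu : CodeUnique) {x : leechLattice}
    (hx : sqNorm (x : GolayPt → ℤ) = 64) : ∃ g : Co0, g • x = frame none := by
  classical
  have hS := card_class_64 x.2 hx
  set S : Set (GolayPt → ℤ) :=
    {y | y ∈ leechLattice ∧ sqNorm y = 64 ∧ Cong (x : GolayPt → ℤ) y} with hSdef
  have hfin : S.Finite := Set.finite_of_ncard_ne_zero (by rw [hS]; norm_num)
  obtain ⟨a, ha0, hmem, hne⟩ := exists_reps (S := hfin.toFinset)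
    (fun y hy => by
      rw [Set.Finite.mem_toFinset] at hy ⊢
      exact ⟨neg_mem hy.1, (sqNorm_neg y).trans hy.2.1, hy.2.2.trans (cong_neg hy.1)⟩)
    (fun y hy e => by
      rw [Set.Finite.mem_toFinset] at hy
      have := hy.2.1
      rw [sqNorm_eq_zero.2 e] at this
      omega)
    (by rw [← Set.ncard_eq_toFinset_card _ hfin, hS])
    (x₀ := (x : GolayPt → ℤ)) (by rw [Set.Finite.mem_toFinset]; exact ⟨x.2, hx, Cong.refl _⟩)
  simp only [Set.Finite.mem_toFinset] at hmem
  have horth : ∀ i j, dotInt (a i) (a j) = if i = j then 64 else 0 := by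
    intro i j
    by_cases hij : i = j
    · rw [if_pos hij, hij, dotInt_self, (hmem j).2.1]
    · rw [if_neg hij]
      rcases cong_cases noRoots (hmem i).1 (hmem i).2.1.le (hmem j).2.1.le
        ((hmem i).2.2.symm.trans (hmem j).2.2) with e | e | ⟨_, _, e⟩
      · exact absurd e (hne i j hij).1
      · exact absurd e (hne i j hij).2
      · exact e
  have hF : IsFrame 1 leechLattice a :=
    ⟨fun i j => by rw [← dotInt_eq_dotProduct, horth], fun i => (hmem i).1,
      fun i y hy => by rw [← dotInt_eq_dotProduct]; exact eight_dvd_dotInt (hmem i).1 hy⟩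
  obtain ⟨f, σ, s, hnorm, hframe⟩ := hF.exists_iso hu Matrix.isSymm_one
    (fun i j => (hmem i).2.2.symm.trans (hmem j).2.2)
    (fun y hy => by rw [← sqNorm_eq_dotProduct]; exact sixteen_dvd_sqNorm hy)
    (fun y hy h0 => by rw [← sqNorm_eq_dotProduct]; exact noRoots y hy h0)
    (by simp only [← sqNorm_eq_dotProduct]; exact card_shell_32)
  let g₀ : Co0 := ⟨f.toEquiv, f.map_add, fun v => by
    rw [sqNorm_eq_dotProduct (v : GolayPt → ℤ)]; exact hnorm v⟩
  have e0 : ((g₀ • x : leechLattice) : GolayPt → ℤ) =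
      Pi.single (σ none) (if σ none ∈ s then -8 else 8) := by
    have hx' : x = ⟨a none, hF.mem none⟩ := Subtype.ext ha0.symm
    rw [hx']; exact hframe none
  obtain ⟨τ, hτ, hτn⟩ := Golay.exists_map_one (σ none)
  have hm : mono ⟨τ⁻¹, inv_mem hτ⟩ empty_mem_code • (g₀ • x) =
      if σ none ∈ s then -frame none else frame none := by
    apply Subtype.ext
    rw [coe_mono_smul, e0, signedPerm_single]
    have hτi : τ⁻¹ (σ none) = none := by rw [← hτn, Equiv.Perm.inv_def, Equiv.symm_apply_apply]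
    show Pi.single (τ⁻¹ (σ none)) _ = _
    rw [hτi]
    simp only [Finset.notMem_empty, if_false]
    split_ifs <;> simp [frame, Pi.single_neg]
  by_cases hs : σ none ∈ s
  · exact ⟨negOne * (mono ⟨τ⁻¹, inv_mem hτ⟩ empty_mem_code * g₀), by
      rw [mul_smul, mul_smul, hm, if_pos hs, negOne_smul, neg_neg]⟩
  · exact ⟨mono ⟨τ⁻¹, inv_mem hτ⟩ empty_mem_code * g₀, by rw [mul_smul, hm, if_neg hs]⟩

theorem sqNorm_frame (i : GolayPt) : sqNorm (frame i : GolayPt → ℤ) = 64 := by
  simp [frame, sqNorm, Pi.single_apply, ite_pow, -Fintype.sum_option]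

theorem transitive_64 (hu : CodeUnique) {v w : leechLattice}
    (hv : sqNorm (v : GolayPt → ℤ) = 64) (hw : sqNorm (w : GolayPt → ℤ) = 64) :
    ∃ g : Co0, g • v = w := by
  obtain ⟨g, hg⟩ := exists_smul_eq_frame hu hv
  obtain ⟨h, hh⟩ := exists_smul_eq_frame hu hw
  exact ⟨h⁻¹ * g, by rw [mul_smul, hg, ← hh, inv_smul_smul]⟩

theorem orbit_frame_ncard (hu : CodeUnique) :
    (MulAction.orbit Co0 (frame none)).ncard = 398034000 := by
  have e : MulAction.orbit Co0 (frame none) = {v : leechLattice | sqNorm (v : GolayPt → ℤ) = 64} := by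
    ext v
    constructor
    · rintro ⟨g, rfl⟩
      show sqNorm _ = 64
      rw [sqNorm_smul, sqNorm_frame]
    · intro hv
      exact transitive_64 hu (sqNorm_frame none) hv
  rw [e, ← Set.ncard_image_of_injective _
    (Subtype.val_injective : Function.Injective (Subtype.val : leechLattice → _))]
  rw [← card_shell_64]
  congr 1
  ext x
  constructor
  · rintro ⟨y, hy, rfl⟩; exact ⟨y.2, hy⟩
  · rintro ⟨hx, hn⟩; exact ⟨⟨x, hx⟩, hn, rfl⟩

theorem cong_smul (g : Co0) {v w : leechLattice} (h : Cong (v : GolayPt → ℤ) (w : GolayPt → ℤ)) :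
    Cong ((g • v : leechLattice) : GolayPt → ℤ) ((g • w : leechLattice) : GolayPt → ℤ) := by
  obtain ⟨z, hz, e⟩ := h
  refine ⟨((g • (⟨z, hz⟩ : leechLattice) : leechLattice) : GolayPt → ℤ), SetLike.coe_mem _, ?_⟩
  have e' : v - w = 2 • (⟨z, hz⟩ : leechLattice) := Subtype.ext e
  have := congrArg (hom g) e'
  rw [map_sub, map_nsmul] at this
  exact congrArg Subtype.val this

theorem stdCross_subset : ∀ y ∈ stdCross, y ∈ leechLattice ∧ sqNorm y = 64 ∧
    Cong (frame none : GolayPt → ℤ) y := by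
  have h44 : ∀ i s, (s = 8 ∨ s = -8) → Cong (frame none : GolayPt → ℤ) (Pi.single i s) := by
    intro i s hs
    refine ⟨fun k => ((if k = none then 8 else 0) - (if k = i then s else 0)) / 2, ?_, ?_⟩
    · refine mem_lattice_iff.2 ⟨0, ∅, empty_mem_code, fun k => ?_, ?_⟩
      · simp only [bit, Finset.notMem_empty, if_false]
        rcases hs with rfl | rfl <;> split_ifs <;> norm_num
      · have hk : ∀ k, ((if k = none then (8 : ℤ) else 0) - (if k = i then s else 0)) / 2 =
            (if k = none then 4 else 0) - (if k = i then s / 2 else 0) := fun k => by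
          rcases hs with rfl | rfl <;> split_ifs <;> norm_num
        simp only [hk, Finset.sum_sub_distrib, Finset.sum_ite_eq', Finset.mem_univ, if_true]
        rcases hs with rfl | rfl <;> norm_num
    · funext k
      simp only [frame, Pi.sub_apply, Pi.smul_apply, Pi.single_apply, nsmul_eq_mul, Nat.cast_ofNat]
      rcases hs with rfl | rfl <;> split_ifs <;> norm_num
  rintro _ ⟨i, s, hs, rfl⟩
  refine ⟨single_eight_mem i s (by rcases hs with rfl | rfl <;> norm_num), ?_, h44 i s hs⟩
  rcases hs with rfl | rfl <;> simp [sqNorm, Pi.single_apply, ite_pow, -Fintype.sum_option]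

theorem stdCross_ncard : stdCross.ncard = 48 := by
  classical
  have e : stdCross = (((Finset.univ : Finset GolayPt) ×ˢ ({8, -8} : Finset ℤ)).image
      (fun p => (Pi.single p.1 p.2 : GolayPt → ℤ)) : Set (GolayPt → ℤ)) := by
    ext y
    simp only [stdCross, Set.mem_setOf_eq, Finset.coe_image, Set.mem_image, Finset.mem_coe,
      Finset.mem_product, Finset.mem_univ, true_and, Finset.mem_insert, Finset.mem_singleton]
    exact ⟨fun ⟨i, s, hs, h⟩ => ⟨(i, s), hs, h.symm⟩, fun ⟨p, hp, h⟩ => ⟨p.1, p.2, hp, h.symm⟩⟩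
  rw [e, Set.ncard_coe_finset, Finset.card_image_of_injOn, Finset.card_product, Finset.card_univ,
    card_pt]
  · rfl
  · rintro ⟨i, s⟩ hp ⟨j, t⟩ hq h
    simp only [Finset.coe_product, Set.mem_prod, Finset.coe_univ, Set.mem_univ, true_and,
      Finset.mem_coe, Finset.mem_insert, Finset.mem_singleton] at hp hq
    have h1 := congrFun h i
    by_cases hij : i = j
    · subst hij; simp at h1; rw [h1]
    · simp [hij] at h1; omega

theorem stdCross_eq_class : {y | y ∈ leechLattice ∧ sqNorm y = 64 ∧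
    Cong (frame none : GolayPt → ℤ) y} = stdCross := by
  symm
  have hn := card_class_64 (frame none).2 (sqNorm_frame none)
  refine Set.eq_of_subset_of_ncard_le stdCross_subset ?_
    (Set.finite_of_ncard_ne_zero (by rw [hn]; norm_num))
  rw [hn, stdCross_ncard]

theorem stdCross_stable {g : Co0} (hg : g • frame none = frame none) (v : leechLattice)
    (hv : (v : GolayPt → ℤ) ∈ stdCross) : ((g • v : leechLattice) : GolayPt → ℤ) ∈ stdCross := by
  rw [← stdCross_eq_class] at hv ⊢
  refine ⟨SetLike.coe_mem _, (sqNorm_smul g v).trans hv.2.1, ?_⟩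
  have := cong_smul g hv.2.2
  rwa [hg] at this

theorem mono_fix_frame_iff (σ : M24) {c : Finset GolayPt} (hc : c ∈ code) :
    mono σ hc • frame none = frame none ↔ σ.1 none = none ∧ none ∉ c := by
  constructor
  · intro h
    have e := congrArg Subtype.val h
    rw [coe_mono_frame] at e
    by_cases hn : σ.1 none = none
    · refine ⟨hn, fun hc' => ?_⟩
      have := congrFun e none
      simp [frame, hn, hc'] at this
    · have := congrFun e (σ.1 none)
      simp [frame, hn] at this
      split_ifs at this <;> omega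
  · rintro ⟨h1, h2⟩
    apply Subtype.ext
    rw [coe_mono_frame, h1, if_neg h2]
    rfl

theorem card_code_notMem (i : GolayPt) : {c | c ∈ code ∧ i ∉ c}.ncard = 2048 := by
  have h1 : {c | c ∈ code ∧ i ∈ c} = (fun c => cᶜ) '' {c | c ∈ code ∧ i ∉ c} := by
    ext c
    simp only [Set.mem_image, Set.mem_setOf_eq]
    constructor
    · rintro ⟨a, b⟩
      exact ⟨cᶜ, ⟨compl_mem_code a, by simpa using b⟩, compl_compl c⟩
    · rintro ⟨d, ⟨a, b⟩, rfl⟩
      exact ⟨compl_mem_code a, by simpa using b⟩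
  have h2 := Set.ncard_union_eq (s := {c | c ∈ code ∧ i ∈ c}) (t := {c | c ∈ code ∧ i ∉ c})
    (Set.disjoint_left.2 fun c a b => b.2 a.2) (Set.toFinite _) (Set.toFinite _)
  have h3 : {c | c ∈ code ∧ i ∈ c} ∪ {c | c ∈ code ∧ i ∉ c} = code := by
    ext c; simp only [Set.mem_union, Set.mem_setOf_eq]; tauto
  rw [h3, code_ncard, h1, Set.ncard_image_of_injective _ compl_injective] at h2
  omega

theorem card_stabilizer_frame :
    Nat.card (MulAction.stabilizer Co0 (frame none)) = 2048 * 10200960 := by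
  rw [← card_code_notMem none, ← Golay.card_stabilizer none,
    ← Nat.card_coe_set_eq {c | c ∈ code ∧ (none : GolayPt) ∉ c}, ← Nat.card_prod, eq_comm]
  refine Nat.card_congr (Equiv.ofBijective (fun p => ⟨mono p.2.1 p.1.2.1,
    (mono_fix_frame_iff p.2.1 p.1.2.1).2 ⟨Golay.mem_stab_iff.1 p.2.2, p.1.2.2⟩⟩) ⟨?_, ?_⟩)
  · rintro ⟨⟨c, hc⟩, σ⟩ ⟨⟨d, hd⟩, τ⟩ h
    obtain ⟨e1, e2⟩ := mono_injective (congrArg Subtype.val h)
    exact Prod.ext (Subtype.ext e2) (Subtype.ext e1)
  · rintro ⟨g, hg⟩
    obtain ⟨σ, c, hc, rfl⟩ := exists_eq_mono (stdCross_stable hg)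
    obtain ⟨h1, h2⟩ := (mono_fix_frame_iff σ hc).1 hg
    exact ⟨(⟨c, hc, h2⟩, ⟨σ, Golay.mem_stab_iff.2 h1⟩), rfl⟩

theorem card_Co0_of_unique (hu : CodeUnique) : Nat.card Co0 = 8315553613086720000 := by
  rw [← Subgroup.card_mul_index (MulAction.stabilizer Co0 (frame none)),
    MulAction.index_stabilizer, orbit_frame_ncard hu, card_stabilizer_frame]

end Cfsg.Agent.Leech
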