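import Cfsg.Agent.Lib.Leech.Framed
import Cfsg.Agent.Lib.Golay.CodeSteiner

/-!
Uniqueness of the code from uniqueness of the Steiner system S(5,8,24).
-/
set_option autoImplicit false

namespace Cfsg.Agent.Leech

open Cfsg
open scoped Pointwise

theorem codeUnique_of_steiner
    (hS : ∀ B : Set (Finset GolayPt), IsSteinerSystem 5 8 B → SetSystemIso B octads) :
    CodeUnique := by
  intro C h0 _ hsd hw hcard
  let W : Submodule (ZMod 2) (GolayPt → ZMod 2) :=
    { carrier := {w | support₂ w ∈ C}
      zero_mem' := by
        show support₂ 0 ∈ C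
        have : support₂ (0 : GolayPt → ZMod 2) = ∅ := by ext; simp [support₂]
        rw [this]; exact h0
      add_mem' := fun {u v} hu hv => by
        show support₂ (u + v) ∈ C
        have : support₂ (u + v) = symmDiff (support₂ u) (support₂ v) := by
          ext p
          rcases zmod2_cases (u p) with a | a <;> rcases zmod2_cases (v p) with b | b <;>
            simp [support₂, Finset.mem_symmDiff, a, b] <;> decide
        rw [this]; exact hsd _ hu _ hv
      smul_mem' := fun r u hu => by
        show support₂ (r • u) ∈ C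
        rcases zmod2_cases r with rfl | rfl
        · have : support₂ ((0 : ZMod 2) • u) = ∅ := by ext; simp [support₂]
          rw [this]; exact h0
        · rw [one_smul]; exact hu }
  have hW : supports (W : Set (GolayPt → ZMod 2)) = C := by
    ext c
    refine ⟨fun ⟨w, hw', e⟩ => e ▸ hw', fun hc => ⟨Golay.indWord c, ?_, Golay.support₂_indWord c⟩⟩
    show support₂ _ ∈ C
    rwa [Golay.support₂_indWord]
  have hWcard : Nat.card W = 4096 := by
    rw [← hcard, ← hW, supports,
      Set.ncard_image_of_injective _ Golay.support₂_injective]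
    rfl
  have hdim : Module.finrank (ZMod 2) W = 12 := by
    have h := Module.natCard_eq_pow_finrank (K := ZMod 2) (V := W)
    rw [hWcard, Nat.card_zmod] at h
    exact Nat.pow_right_injective (le_refl 2) (h.symm.trans (by norm_num : (4096 : ℕ) = 2 ^ 12))
  have hmin : ∀ w ∈ W, w ≠ 0 → 8 ≤ (support₂ w).card ∧ 4 ∣ (support₂ w).card := by
    intro w hw' hne
    have h := hw _ (show support₂ w ∈ C from hw')
    have hne' : (support₂ w).card ≠ 0 := fun e => hne (by
      rw [← Golay.indWord_support₂ w, Finset.card_eq_zero.1 e]
      funext p; simp [Golay.indWord])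
    simp only [List.mem_cons, List.not_mem_nil, or_false] at h
    omega
  obtain ⟨e, he⟩ := hS _ (Golay.isSteinerSystem_weight_eight hmin card_pt hdim)
  have key := Golay.code_equiv_of_iso hdim e he
  refine ⟨e, Set.ext fun c => ?_⟩
  constructor
  · rintro ⟨d, hd, rfl⟩
    refine ⟨fun i => Golay.indWord d (e.symm i), ?_, ?_⟩
    · refine (key _).2 ?_
      show support₂ _ ∈ C
      simpa only [Equiv.symm_apply_apply, Golay.support₂_indWord] using hd
    · ext i
      have h : i ∈ e • d ↔ e.symm i ∈ d := Finset.mem_smul_finset.trans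
        ⟨fun ⟨b, hb, e'⟩ => by rw [← e']; simpa using hb, fun hi => ⟨_, hi, by simp⟩⟩
      by_cases hi : e.symm i ∈ d <;> simp [support₂, Golay.indWord, h, hi]
  · rintro ⟨w, hw', rfl⟩
    refine ⟨support₂ (fun i => w (e i)), (key w).1 hw', ?_⟩
    ext i
    have h : i ∈ e • support₂ (fun i => w (e i)) ↔ e.symm i ∈ support₂ (fun i => w (e i)) :=
      Finset.mem_smul_finset.trans
        ⟨fun ⟨b, hb, e'⟩ => by rw [← e']; simpa using hb, fun hi => ⟨_, hi, by simp⟩⟩
    rw [show (fun b : Finset GolayPt => e • b) (support₂ fun i => w (e i)) =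
      e • support₂ (fun i => w (e i)) from rfl, h]
    simp [support₂]

end Cfsg.Agent.Leech
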