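import Mathlib

/-!
A simplicity criterion: a prime `p` dividing the order once, with self-centralising Sylow
subgroup, normaliser of order dividing `p * m` (`m` prime), and no room for normal subgroups
of order prime to `p`.
-/
set_option autoImplicit false

namespace Cfsg.Agent.Leech.Criterion

open Subgroup

variable {G : Type*} [Group G] [Finite G]

/-- If `h` of order `p` normalises `Q` and centralises no nontrivial element of it, then
`|Q| ≡ 1 [MOD p]`. -/
theorem card_modEq_one {p : ℕ} [Fact p.Prime] {h : G} (hh : h ^ p = 1) {Q : Subgroup G}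
    (hn : ∀ q, q ∈ Q → h * q * h⁻¹ ∈ Q) (hf : ∀ q, q ∈ Q → h * q = q * h → q = 1) :
    Nat.card Q ≡ 1 [MOD p] := by
  classical
  have : Fintype Q := Fintype.ofFinite Q
  let f : Function.End Q := fun q => ⟨h * q.1 * h⁻¹, hn q.1 q.2⟩
  have hpow : ∀ n : ℕ, ∀ q : Q, ((f ^ n) q).1 = h ^ n * q.1 * (h ^ n)⁻¹ := by
    intro n
    induction n with
    | zero => intro q; simp only [pow_zero, one_mul, inv_one, mul_one]; rfl
    | succ n ih =>
      intro q
      rw [pow_succ' f n]
      show h * ((f ^ n) q).1 * h⁻¹ = _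
      rw [ih, pow_succ' h n, mul_inv_rev]
      simp only [mul_assoc]
  have hf1 : f ^ p ^ 1 = 1 := by
    rw [pow_one]
    funext q
    exact Subtype.ext (by rw [hpow, hh, one_mul, inv_one, mul_one]; rfl)
  have h1 : Fintype.card f.fixedPoints = 1 := by
    rw [Fintype.card_eq_one_iff]
    refine ⟨⟨1, Subtype.ext (by show h * 1 * h⁻¹ = (1 : G); simp)⟩, fun ⟨q, hq⟩ => ?_⟩
    have e : h * q.1 * h⁻¹ = q.1 := congrArg Subtype.val (show f q = q from hq)
    exact Subtype.ext (Subtype.ext (hf q.1 q.2 (mul_inv_eq_iff_eq_mul.1 e)))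
  rw [Nat.card_eq_fintype_card]
  have := Equiv.Perm.card_fixedPoints_modEq hf1
  rwa [h1] at this

/-- Two elements of order `p` generate conjugate subgroups if `p²` does not divide the order. -/
theorem exists_conj_zpowers {p : ℕ} [Fact p.Prime] (hp2 : ¬ p ^ 2 ∣ Nat.card G) {x y : G}
    (hx : orderOf x = p) (hy : orderOf y = p) : ∃ c : G, ∃ k : ℤ, c * y * c⁻¹ = x ^ k := by
  have sylow : ∀ z : G, orderOf z = p → ∃ Q : Sylow p G, (Q : Subgroup G) = zpowers z := by
    intro z hz
    obtain ⟨Q, hQ⟩ := (IsPGroup.of_card (n := 1) (G := zpowers z)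
      (by rw [Nat.card_zpowers, hz, pow_one])).exists_le_sylow
    refine ⟨Q, (Subgroup.eq_of_le_of_card_ge hQ ?_).symm⟩
    obtain ⟨k, hk⟩ := IsPGroup.iff_card.1 Q.isPGroup'
    have hk1 : k ≤ 1 := by
      by_contra h
      exact hp2 ((pow_dvd_pow p (by omega)).trans (hk ▸ card_subgroup_dvd_card _))
    rw [hk, Nat.card_zpowers, hz]
    exact (Nat.pow_le_pow_right (Fact.out : p.Prime).pos hk1).trans (le_of_eq (pow_one p))
  obtain ⟨P, hP⟩ := sylow x hx
  obtain ⟨R, hR⟩ := sylow y hy
  obtain ⟨c, hc⟩ := MulAction.exists_smul_eq G R P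
  refine ⟨c, ?_⟩
  have hmem : c * y * c⁻¹ ∈ (P : Subgroup G) := by
    rw [← hc, Sylow.coe_subgroup_smul, hR]
    exact ⟨y, mem_zpowers y, rfl⟩
  rw [hP] at hmem
  obtain ⟨k, hk⟩ := mem_zpowers_iff.1 hmem
  exact ⟨k, hk.symm⟩

/-- An `r`-group of automorphisms of a group of order `q ^ k` fixing only the identity has order
dividing the product of the `q ^ k - q ^ i`. -/
theorem card_dvd_of_faithful {r q : ℕ} [Fact r.Prime] (hq : q.Prime) {k : ℕ} {K R : Subgroup G}
    (hK : Nat.card K = q ^ k) (hn : ∀ s ∈ R, ∀ x ∈ K, s * x * s⁻¹ ∈ K) (hR : IsPGroup r R) :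
    ∀ n i : ℕ, ∀ L : Subgroup G, L ≤ K → Nat.card L = q ^ i → k - i ≤ n →
      R ⊓ centralizer (K : Set G) = ⊥ →
      Nat.card ↥(R ⊓ centralizer (L : Set G)) ∣ ∏ j ∈ Finset.Ico i k, (q ^ k - q ^ j) := by
  classical
  intro n
  induction n with
  | zero =>
    intro i L hL hLc hki hf
    have : L = K := Subgroup.eq_of_le_of_card_ge hL (by
      rw [hK, hLc]; exact Nat.pow_le_pow_right hq.pos (by omega))
    rw [this, hf, card_bot]
    exact one_dvd _
  | succ n ih =>
    intro i L hL hLc hki hf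
    rcases eq_or_ne L K with e | e
    · rw [e, hf, card_bot]
      exact one_dvd _
    have hik : i < k := by
      by_contra h
      exact e (Subgroup.eq_of_le_of_card_ge hL (by
        rw [hK, hLc]; exact Nat.pow_le_pow_right hq.pos (by omega)))
    set S : Subgroup G := R ⊓ centralizer (L : Set G) with hS
    let X : Set G := {x | x ∈ K ∧ x ∉ L}
    have hXs : ∀ s : S, ∀ x ∈ X, (s : G) * x * (s : G)⁻¹ ∈ X := by
      intro s x hx
      refine ⟨hn _ s.2.1 x hx.1, fun hl => hx.2 ?_⟩
      have hc := mem_centralizer_iff.1 s.2.2 _ hl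
      have : x = (s : G) * x * (s : G)⁻¹ := by
        calc x = (s : G)⁻¹ * (((s : G) * x * (s : G)⁻¹) * (s : G)) := by group
          _ = (s : G)⁻¹ * ((s : G) * ((s : G) * x * (s : G)⁻¹)) := by rw [hc]
          _ = _ := by group
      rw [this]; exact hl
    let act : MulAction S X :=
      { smul := fun s x => ⟨(s : G) * x.1 * (s : G)⁻¹, hXs s x.1 x.2⟩
        one_smul := fun x => Subtype.ext (by show (1 : G) * x.1 * (1 : G)⁻¹ = x.1; simp)
        mul_smul := fun s t x => Subtype.ext (by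
          show ((s : G) * t) * x.1 * ((s : G) * t)⁻¹ = (s : G) * ((t : G) * x.1 * (t : G)⁻¹) * (s : G)⁻¹
          group) }
    have hXc : Nat.card X = q ^ k - q ^ i := by
      have : X = (K : Set G) \ (L : Set G) := rfl
      rw [Nat.card_coe_set_eq, this, Set.ncard_sdiff hL (Set.toFinite _), ← Nat.card_coe_set_eq,
        ← Nat.card_coe_set_eq]
      show Nat.card K - Nat.card L = _
      rw [hK, hLc]
    have hpos : q ^ k - q ^ i ≠ 0 := Nat.sub_ne_zero_of_lt (Nat.pow_lt_pow_right hq.one_lt hik)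
    have hSp : IsPGroup r S := hR.to_le inf_le_left
    obtain ⟨x, hx⟩ : ∃ x : X, Nat.card (MulAction.orbit S x) ∣ q ^ k - q ^ i := by
      set j := (q ^ k - q ^ i).factorization r with hj
      have hnd : ¬ r ^ (j + 1) ∣ q ^ k - q ^ i :=
        Nat.pow_succ_factorization_not_dvd hpos Fact.out
      by_contra hcon
      push Not at hcon
      apply hnd
      rw [← hXc]
      have : Fintype (Quotient (MulAction.orbitRel S X)) := Fintype.ofFinite _
      rw [Nat.card_congr (MulAction.selfEquivSigmaOrbits S X), Nat.card_sigma]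
      refine Finset.dvd_sum fun ω _ => ?_
      have h1 := hcon (Quotient.out ω)
      obtain ⟨a, ha⟩ := hSp.card_orbit (Quotient.out ω)
      rw [ha] at h1 ⊢
      refine pow_dvd_pow r ?_
      by_contra h
      exact h1 ((pow_dvd_pow r (by omega : a ≤ j)).trans (Nat.ordProj_dvd _ _))
    let L' : Subgroup G := L ⊔ zpowers x.1
    have hL' : L' ≤ K := sup_le hL (zpowers_le.2 x.2.1)
    obtain ⟨i', hi', hL'c⟩ := (Nat.dvd_prime_pow hq).1 (hK ▸ card_dvd_of_le hL')
    have hii : i < i' := by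
      have hlt : L < L' := lt_of_le_of_ne le_sup_left fun h => x.2.2 (by
        rw [h]; exact (le_sup_right : zpowers x.1 ≤ L ⊔ zpowers x.1) (mem_zpowers x.1))
      have hc : Nat.card L < Nat.card L' := lt_of_le_of_ne (card_le_of_le hlt.le) fun h =>
        hlt.ne (Subgroup.eq_of_le_of_card_ge hlt.le h.ge)
      rw [hLc, hL'c] at hc
      exact (Nat.pow_lt_pow_iff_right hq.one_lt).1 hc
    have hIH := ih i' L' hL' hL'c (by omega) hf
    have hst : Nat.card (MulAction.stabilizer S x) ∣ Nat.card ↥(R ⊓ centralizer (L' : Set G)) := by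
      let φ : MulAction.stabilizer S x →* G := S.subtype.comp (MulAction.stabilizer S x).subtype
      have hφ : ∀ s, φ s ∈ R ⊓ centralizer (L' : Set G) := by
        intro s
        refine ⟨s.1.2.1, ?_⟩
        have hle : L' ≤ centralizer {(φ s)} := by
          refine sup_le (fun l hl => ?_) (zpowers_le.2 ?_)
          · rw [mem_centralizer_singleton_iff]
            exact mem_centralizer_iff.1 s.1.2.2 l hl
          · rw [mem_centralizer_singleton_iff]
            have he : (φ s) * x.1 * (φ s)⁻¹ = x.1 := congrArg Subtype.val s.2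
            exact (mul_inv_eq_iff_eq_mul.1 he).symm
        refine mem_centralizer_iff.2 fun l hl => ?_
        have := hle hl
        rw [mem_centralizer_singleton_iff] at this
        exact this
      exact card_dvd_of_injective (φ.codRestrict _ hφ) (fun a b h =>
        Subtype.ext (Subtype.ext (congrArg (fun z : ↥(R ⊓ centralizer (L' : Set G)) => (z : G)) h)))
    have hmul : Nat.card S = Nat.card (MulAction.orbit S x) * Nat.card (MulAction.stabilizer S x) := by
      rw [Nat.card_coe_set_eq, ← MulAction.index_stabilizer, mul_comm, card_mul_index]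
    rw [hmul, Finset.prod_eq_prod_Ico_succ_bot hik]
    refine Nat.mul_dvd_mul hx (hst.trans (hIH.trans ?_))
    refine Finset.prod_dvd_prod_of_subset _ _ _ fun j hj => ?_
    rw [Finset.mem_Ico] at hj ⊢
    omega

/-- The normaliser of a self-centralising subgroup of prime order `p` has order at most
`(p - 1) * p`. -/
theorem card_normalizer_le {p : ℕ} [hp : Fact p.Prime] {g : G} (hg : orderOf g = p)
    (hC : ∀ y : G, g * y = y * g → y ∈ zpowers g) {N : Subgroup G}
    (hN : ∀ y ∈ N, y * g * y⁻¹ ∈ zpowers g) : Nat.card N ≤ (p - 1) * p := by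
  classical
  have hX : Nat.card {x : zpowers g // x ≠ 1} = p - 1 := by
    have : Fintype (zpowers g) := Fintype.ofFinite _
    have h := Fintype.card_subtype_compl (α := zpowers g) (fun x => x = 1)
    rw [Fintype.card_subtype_eq, ← Nat.card_eq_fintype_card, ← Nat.card_eq_fintype_card,
      Nat.card_zpowers, hg] at h
    exact h
  let φ : N → {x : zpowers g // x ≠ 1} := fun y => ⟨⟨(y : G) * g * (y : G)⁻¹, hN _ y.2⟩,
    fun e => by
      have e' : (y : G) * g * (y : G)⁻¹ = 1 := congrArg Subtype.val e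
      rw [conj_eq_one_iff] at e'
      rw [e', orderOf_one] at hg
      exact hp.out.one_lt.ne hg⟩
  let rep : {x : zpowers g // x ≠ 1} → N := Function.invFun φ
  let ψ : N → {x : zpowers g // x ≠ 1} × zpowers g := fun y => (φ y, ⟨(rep (φ y) : G)⁻¹ * y, by
    refine hC _ ?_
    have e : φ (rep (φ y)) = φ y := Function.invFun_eq ⟨y, rfl⟩
    have e' : (rep (φ y) : G) * g * (rep (φ y) : G)⁻¹ = (y : G) * g * (y : G)⁻¹ :=
      congrArg (fun x : {x : zpowers g // x ≠ 1} => ((x.1 : zpowers g) : G)) e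
    set a : G := (rep (φ y) : G)
    calc g * (a⁻¹ * y) = a⁻¹ * (a * g * a⁻¹) * y := by group
      _ = _ := by rw [e']; group⟩)
  have hψ : Function.Injective ψ := by
    intro y y' e
    have e1 := congrArg Prod.fst e
    have e2 := congrArg (fun z => ((z.2 : zpowers g) : G)) e
    have e3 : φ y = φ y' := e1
    simp only [ψ, e3, mul_right_inj] at e2
    exact Subtype.ext e2
  have := Nat.card_le_card_of_injective ψ hψ
  rwa [Nat.card_prod, hX, Nat.card_zpowers, hg] at this

/-- The normaliser of a self-centralising subgroup of prime order `p`, all of whose elements are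
killed by `p * m` with `p - 1 < m ^ 2`, has order dividing `p * m`. -/
theorem card_normalizer_dvd {p m : ℕ} [hp : Fact p.Prime] (hm : m.Prime) (hp2 : ¬ p ^ 2 ∣ Nat.card G)
    (hlt : p - 1 < m ^ 2) {g : G} (hg : orderOf g = p) (hC : ∀ y : G, g * y = y * g → y ∈ zpowers g)
    {N : Subgroup G} (hgN : g ∈ N) (hN : ∀ y ∈ N, y * g * y⁻¹ ∈ zpowers g ∧ y ^ (p * m) = 1) :
    Nat.card N ∣ p * m := by
  classical
  have hbound : Nat.card N ≤ (p - 1) * p := card_normalizer_le hg hC fun y hy => (hN y hy).1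
  have hprimes : ∀ q : ℕ, q.Prime → q ∣ Nat.card N → q = p ∨ q = m := by
    intro q hq hqN
    have : Fact q.Prime := ⟨hq⟩
    obtain ⟨x, hx⟩ := exists_prime_orderOf_dvd_card' (G := N) q hqN
    have hdvd : q ∣ p * m := hx ▸ orderOf_dvd_of_pow_eq_one (Subtype.ext (by
      rw [coe_pow, (hN _ x.2).2]; rfl))
    rcases (hq.dvd_mul).1 hdvd with h | h
    · exact Or.inl ((Nat.prime_dvd_prime_iff_eq hq hp.out).1 h)
    · exact Or.inr ((Nat.prime_dvd_prime_iff_eq hq hm).1 h)
  have hm_pow : ∀ n : ℕ, n ∣ Nat.card N → ¬ p ∣ n → ∃ b, n = m ^ b := fun n hn hpn =>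
    ⟨n.primeFactorsList.length, Nat.eq_prime_pow_of_unique_prime_dvd
      (fun h => Nat.card_pos.ne' (Nat.eq_zero_of_zero_dvd (h ▸ hn))) fun {d} hd hdn =>
      (hprimes d hd (hdn.trans hn)).resolve_left fun h => hpn (h ▸ hdn)⟩
  obtain ⟨t, ht⟩ : p ∣ Nat.card N := hg ▸ Subgroup.orderOf_dvd_natCard _ hgN
  have hpt : ¬ p ∣ t := fun h => hp2 (by
    rw [pow_two]; exact (mul_dvd_mul_left p h).trans (ht ▸ card_subgroup_dvd_card N))
  obtain ⟨b, hb⟩ := hm_pow t ⟨p, by rw [ht, mul_comm]⟩ hpt
  have hb1 : b ≤ 1 := by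
    by_contra h
    have h1 : m ^ 2 ≤ t := hb ▸ Nat.pow_le_pow_right hm.pos (by omega)
    rw [ht, mul_comm (p - 1)] at hbound
    have := Nat.le_of_mul_le_mul_left hbound hp.out.pos
    omega
  rw [ht, hb]
  exact mul_dvd_mul_left p ((pow_dvd_pow m hb1).trans (by rw [pow_one]))

/-- Factor data: all primes dividing `n` are listed with an upper bound on the exponent. -/
def factorsOK (n : ℕ) (L : List (ℕ × ℕ)) : Prop :=
  (L.map fun x => x.1 ^ x.2).prod = n ∧ ∀ x ∈ L, x.1.Prime ∧ ¬ x.1 ^ (x.2 + 1) ∣ n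

theorem mem_of_dvd {n : ℕ} {L : List (ℕ × ℕ)} (hL : factorsOK n L) {q k : ℕ} (hq : q.Prime)
    (hk : 0 < k) (hd : q ^ k ∣ n) : ∃ x ∈ L, x.1 = q ∧ k ≤ x.2 := by
  have h1 : q ∣ (L.map fun x => x.1 ^ x.2).prod :=
    hL.1.symm ▸ (dvd_pow_self q hk.ne').trans hd
  obtain ⟨_, ha, hqa⟩ := (Prime.dvd_prod_iff hq.prime).1 h1
  obtain ⟨x, hx, rfl⟩ := List.mem_map.1 ha
  have e : q = x.1 := (Nat.prime_dvd_prime_iff_eq hq (hL.2 x hx).1).1 (hq.dvd_of_dvd_pow hqa)
  refine ⟨x, hx, e.symm, ?_⟩
  by_contra h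
  exact (hL.2 x hx).2 ((pow_dvd_pow x.1 (by omega)).trans (e ▸ hd))

/-- The criterion. -/
theorem isSimpleGroup {p m : ℕ} [hp : Fact p.Prime] (hm : m.Prime) (_hmp : m ≠ p)
    (hpdvd : p ∣ Nat.card G) (hp2 : ¬ p ^ 2 ∣ Nat.card G) (hbig : ¬ Nat.card G ∣ p * m)
    {g : G} (hg : orderOf g = p) (hC : ∀ y : G, g * y = y * g → y ∈ zpowers g)
    (hN : ∀ y : G, y * g * y⁻¹ ∈ zpowers g → y ^ (p * m) = 1) (hm2 : p - 1 < m ^ 2)
    {L : List (ℕ × ℕ)} (hL : factorsOK (Nat.card G) L) {q0 k0 : ℕ}
    (hexp : ∀ x ∈ L, x.1 ≠ p → ∀ k < x.2, x.1 ^ (k + 1) % p = 1 → x.1 = q0 ∧ k + 1 = k0)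
    (hkill : q0 ^ k0 ∣ Nat.card G → ∃ r e, r.Prime ∧ r ≠ q0 ∧ r ^ e ∣ Nat.card G ∧
      ¬ r ^ e ∣ ∏ j ∈ Finset.range k0, (q0 ^ k0 - q0 ^ j)) : IsSimpleGroup G := by
  classical
  have hconj := fun {x : G} (hx : orderOf x = p) => exists_conj_zpowers hp2 hg hx
  have hC' : ∀ x y : G, orderOf x = p → x * y = y * x → y ∈ zpowers x := by
    intro x y hx hxy
    obtain ⟨c, k, hk⟩ := hconj hx
    have hne : c * x * c⁻¹ ≠ 1 := by
      intro h
      rw [show x = c⁻¹ * (c * x * c⁻¹) * c by group, h] at hx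
      simp at hx
      exact hp.out.one_lt.ne hx
    have ho : orderOf (c * x * c⁻¹) = p := orderOf_eq_prime (by
      rw [conj_pow, ← hx, pow_orderOf_eq_one]; group) hne
    have hgz : zpowers (c * x * c⁻¹) = zpowers g := by
      refine Subgroup.eq_of_le_of_card_ge (zpowers_le.2 ⟨k, hk.symm⟩) ?_
      rw [Nat.card_zpowers, Nat.card_zpowers, ho, hg]
    have hgm : g ∈ zpowers (c * x * c⁻¹) := hgz ▸ mem_zpowers g
    obtain ⟨j, hj⟩ := mem_zpowers_iff.1 hgm
    have hcomm : g * (c * y * c⁻¹) = (c * y * c⁻¹) * g := by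
      rw [← hj]
      exact (Commute.conj (show Commute x y from hxy) c).zpow_left j
    have := hC _ hcomm
    rw [← hgz] at this
    obtain ⟨i, hi⟩ := mem_zpowers_iff.1 this
    rw [conj_zpow] at hi
    exact ⟨i, mul_left_cancel (mul_right_cancel hi)⟩
  have noPrime : ∀ K : Subgroup G, K.Normal → ¬ p ∣ Nat.card K →
      K = ⊥ ∨ (q0.Prime ∧ Nat.card K = q0 ^ k0) := by
    intro K hK hpK
    by_cases hbot : K = ⊥
    · exact Or.inl hbot
    right
    have hexp' : ∀ q : ℕ, q.Prime → q ∣ Nat.card K →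
        q = q0 ∧ (Nat.card K).factorization q = k0 := by
      intro q hq hqK
      have : Fact q.Prime := ⟨hq⟩
      obtain ⟨Q⟩ : Nonempty (Sylow q K) := inferInstance
      set Q' : Subgroup G := (Q : Subgroup K).map K.subtype with hQ'
      have hQc : Nat.card Q' = q ^ (Nat.card K).factorization q := by
        rw [hQ', ← Nat.card_congr (equivMapOfInjective _ _ K.subtype_injective).toEquiv]
        exact Q.card_eq_multiplicity
      have hsup := Sylow.normalizer_sup_eq_top Q
      rw [← hQ'] at hsup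
      have hidx : K.index = K.relIndex (normalizer (Q' : Set G)) := by
        rw [← relIndex_sup_right, hsup, relIndex_top_right]
      have hpN : p ∣ Nat.card (normalizer (Q' : Set G)) := by
        have h1 : p ∣ K.index := by
          rcases hp.out.dvd_mul.1 (K.card_mul_index.symm ▸ hpdvd) with h | h
          · exact absurd h hpK
          · exact h
        rw [hidx] at h1
        exact h1.trans (Subgroup.index_dvd_card (K.subgroupOf _))
      obtain ⟨h, hh⟩ := exists_prime_orderOf_dvd_card' (G := normalizer (Q' : Set G)) p hpN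
      have hh' : orderOf (h : G) = p := by rw [Subgroup.orderOf_coe, hh]
      have hmod := card_modEq_one (p := p) (h := (h : G)) (by rw [← hh', pow_orderOf_eq_one])
        (Q := Q') (fun x hx => (mem_normalizer_iff.1 h.2 x).1 hx) (fun x hx e => by
          obtain ⟨j, hj⟩ := mem_zpowers_iff.1 (hC' _ x hh' e)
          by_contra hne
          have hox : orderOf x = p := by
            refine ((Nat.dvd_prime hp.out).1 ?_).resolve_left (fun h1 => hne (orderOf_eq_one_iff.1 h1))
            rw [← hh', ← hj]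
            exact orderOf_dvd_of_mem_zpowers ⟨j, rfl⟩
          apply hpK
          rw [← hox]
          exact Subgroup.orderOf_dvd_natCard _ (map_subtype_le _ hx))
      rw [hQc] at hmod
      have hk : 0 < (Nat.card K).factorization q :=
        hq.factorization_pos_of_dvd Nat.card_pos.ne' hqK
      obtain ⟨x, hx, e, hle⟩ := mem_of_dvd hL hq hk
        ((Nat.ordProj_dvd _ _).trans (card_subgroup_dvd_card K))
      have hqp : q ≠ p := fun e' => hpK (e' ▸ hqK)
      obtain ⟨h1, h2⟩ := hexp x hx (e ▸ hqp) ((Nat.card K).factorization q - 1) (by omega) (by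
        rw [e, Nat.sub_add_cancel hk]
        rw [Nat.ModEq, Nat.mod_eq_of_lt hp.out.one_lt] at hmod
        exact hmod)
      exact ⟨e ▸ h1, by omega⟩
    have hne1 : Nat.card K ≠ 1 := fun h => hbot (Subgroup.card_eq_one.1 h)
    obtain ⟨q, hq, hqK⟩ := Nat.exists_prime_and_dvd hne1
    obtain ⟨e1, e2⟩ := hexp' q hq hqK
    subst e1
    refine ⟨hq, ?_⟩
    have := Nat.eq_prime_pow_of_unique_prime_dvd Nat.card_pos.ne'
      (fun {d} hd hdK => (hexp' d hd hdK).1)
    rw [this, ← e2]
    congr 1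
    rw [← Nat.factorization_pow_self (n := (Nat.card K).primeFactorsList.length) hq, ← this]
  have noPrime' : ∀ K : Subgroup G, K.Normal → ¬ p ∣ Nat.card K → K = ⊥ := by
    intro K hK hpK
    rcases noPrime K hK hpK with h | ⟨hq, h⟩
    · exact h
    by_contra hbot
    obtain ⟨r, e, hr, hrq, hre, hnd⟩ := hkill (h ▸ card_subgroup_dvd_card K)
    have : Fact r.Prime := ⟨hr⟩
    obtain ⟨R, hR⟩ := Sylow.exists_subgroup_card_pow_prime r hre
    have hC0 : R ⊓ centralizer (K : Set G) ≠ ⊥ := by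
      intro hf
      apply hnd
      have hd := card_dvd_of_faithful (r := r) hq h (R := R)
        (fun s _ x hx => hK.conj_mem x hx s) (IsPGroup.of_card hR) k0 0 ⊥ bot_le
        (by rw [card_bot, pow_zero]) (by omega) hf
      rw [coe_bot, show centralizer ({1} : Set G) = ⊤ from ?_, inf_top_eq, hR,
        ← Finset.range_eq_Ico] at hd
      · exact hd
      · ext z; simp [mem_centralizer_iff]
    obtain ⟨⟨x, hx⟩, hx1'⟩ := Subgroup.ne_bot_iff_exists_ne_one.1 hC0
    have hx1 : x ≠ 1 := fun e => hx1' (Subtype.ext e)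
    have hpC : ¬ p ∣ Nat.card (centralizer (K : Set G)) := by
      intro hd
      obtain ⟨y, hy⟩ := exists_prime_orderOf_dvd_card' p hd
      have hy' : orderOf (y : G) = p := by rw [Subgroup.orderOf_coe, hy]
      have hle : K ≤ zpowers (y : G) := fun z hz =>
        hC' _ z hy' (mem_centralizer_iff.1 y.2 z hz).symm
      have := card_dvd_of_le hle
      rw [Nat.card_zpowers, hy', Nat.dvd_prime hp.out] at this
      rcases this with h1 | h1
      · exact hbot (card_eq_one.1 h1)
      · exact hpK (h1 ▸ dvd_rfl)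
    rcases noPrime _ inferInstance hpC with h1 | ⟨-, h1⟩
    · exact hx1 (by simpa [h1] using hx.2)
    · obtain ⟨a, ha⟩ := (Nat.dvd_prime_pow hq).1 (h1 ▸ Subgroup.orderOf_dvd_natCard _ hx.2)
      obtain ⟨b, hb⟩ := (Nat.dvd_prime_pow hr).1 (hR ▸ Subgroup.orderOf_dvd_natCard _ hx.1)
      rcases Nat.eq_zero_or_pos b with h0 | h0
      · rw [h0, pow_zero] at hb; exact hx1 (orderOf_eq_one_iff.1 hb.2)
      · have := hb.2.symm.trans ha.2
        exact hrq ((Nat.prime_dvd_prime_iff_eq hr hq).1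
          (hr.dvd_of_dvd_pow (this ▸ dvd_pow_self r h0.ne')))
  have hnt : Nontrivial G := by
    refine ⟨⟨g, 1, fun h => ?_⟩⟩
    rw [h, orderOf_one] at hg
    exact hp.out.one_lt.ne hg
  refine ⟨fun K hK => ?_⟩
  by_cases hbot : K = ⊥
  · exact Or.inl hbot
  right
  have hpK : p ∣ Nat.card K := by
    by_contra h
    exact hbot (noPrime' K hK h)
  obtain ⟨x, hx⟩ := exists_prime_orderOf_dvd_card' (G := K) p hpK
  have hgK : g ∈ K := by
    obtain ⟨c, k, hk⟩ := exists_conj_zpowers hp2 (x := (x : G)) (y := g)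
      (by rw [Subgroup.orderOf_coe, hx]) hg
    have h1 : c * g * c⁻¹ ∈ K := hk ▸ K.zpow_mem x.2 k
    have h2 := hK.conj_mem _ h1 c⁻¹
    simpa [mul_assoc] using h2
  let g' : K := ⟨g, hgK⟩
  have hg' : orderOf g' = p := by rw [← Subgroup.orderOf_coe]; exact hg
  have hPc : Nat.card (zpowers g') = p ^ (Nat.card K).factorization p := by
    have h1 : (Nat.card K).factorization p = 1 := by
      refine le_antisymm ?_ (hp.out.factorization_pos_of_dvd Nat.card_pos.ne' hpK)
      by_contra h
      exact hp2 ((pow_dvd_pow p (by omega : 2 ≤ (Nat.card K).factorization p)).trans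
        ((Nat.ordProj_dvd _ _).trans (card_subgroup_dvd_card K)))
    rw [Nat.card_zpowers, hg', h1, pow_one]
  let P : Sylow p K := Sylow.ofCard (zpowers g') hPc
  have hPm : (P : Subgroup K).map K.subtype = zpowers g := by
    rw [show (P : Subgroup K) = zpowers g' from rfl, MonoidHom.map_zpowers]; rfl
  have hsup := Sylow.normalizer_sup_eq_top P
  rw [hPm] at hsup
  set N : Subgroup G := normalizer (zpowers g : Set G) with hNdef
  have hidx : K.index = K.relIndex N := by
    rw [← relIndex_sup_right, hsup, relIndex_top_right]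
  have hNmem : ∀ y ∈ N, y * g * y⁻¹ ∈ zpowers g := fun y hy =>
    (mem_normalizer_iff.1 hy g).1 (mem_zpowers g)
  have hNc : Nat.card N ∣ p * m :=
    card_normalizer_dvd hm hp2 hm2 hg hC (le_normalizer (mem_zpowers g)) fun y hy => ⟨hNmem y hy, hN y (hNmem y hy)⟩
  have hgN : g ∈ N := le_normalizer (mem_zpowers g)
  have hmul : Nat.card ↥(K ⊓ N) * K.relIndex N = Nat.card N := by
    rw [← inf_relIndex_right, relIndex,
      ← Nat.card_congr (subgroupOfEquivOfLe (inf_le_right : K ⊓ N ≤ N)).toEquiv, card_mul_index]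
  have hpI : p ∣ Nat.card ↥(K ⊓ N) := hg ▸ Subgroup.orderOf_dvd_natCard _ ⟨hgK, hgN⟩
  have hidm : K.index ∣ m := by
    rw [hidx]
    obtain ⟨t, ht⟩ := hpI
    have h := hmul ▸ hNc
    rw [ht, mul_assoc] at h
    exact (Dvd.intro_left t rfl).trans (Nat.dvd_of_mul_dvd_mul_left hp.out.pos h)
  rcases (Nat.dvd_prime hm).1 hidm with h | h
  · exact index_eq_one.1 h
  exfalso
  have hIc : Nat.card ↥(K ⊓ N) ∣ p := by
    rw [← hmul, ← hidx, h] at hNc
    exact Nat.dvd_of_mul_dvd_mul_right hm.pos hNc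
  have hP : normalizer ((P : Subgroup K) : Set K) ≤ centralizer ((P : Subgroup K) : Set K) := by
    intro y hy
    have hy' : (y : G) ∈ N := by
      rw [hNdef, mem_normalizer_iff]
      intro z
      constructor
      · intro hz
        rw [← hPm] at hz ⊢
        obtain ⟨w, hw, rfl⟩ := hz
        exact ⟨y * w * y⁻¹, (mem_normalizer_iff.1 hy w).1 hw, rfl⟩
      · intro hz
        rw [← hPm] at hz ⊢
        obtain ⟨w, hw, e⟩ := hz
        refine ⟨y⁻¹ * w * y, (mem_normalizer_iff.1 hy _).2 (by group; exact hw), ?_⟩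
        simp only [map_mul, map_inv, Subgroup.coe_subtype] at e ⊢
        rw [e]; group
    have hle : zpowers g ≤ K ⊓ N := zpowers_le.2 ⟨hgK, hgN⟩
    have heq : zpowers g = K ⊓ N := Subgroup.eq_of_le_of_card_ge hle (by
      rw [Nat.card_zpowers, hg]; exact Nat.le_of_dvd hp.out.pos hIc)
    have hyz : (y : G) ∈ zpowers g := heq ▸ ⟨y.2, hy'⟩
    obtain ⟨j, hj⟩ := mem_zpowers_iff.1 hyz
    have hyg : y = g' ^ j := Subtype.ext (by rw [coe_zpow]; exact hj.symm)
    rw [mem_centralizer_iff]
    intro w hw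
    obtain ⟨i, rfl⟩ := mem_zpowers_iff.1 (show w ∈ zpowers g' from hw)
    rw [hyg, ← zpow_add, ← zpow_add, add_comm]
  set M := (MonoidHom.transferSylow P hP).ker with hM
  have hcompl := MonoidHom.ker_transferSylow_isComplement' P hP
  have hMc : Nat.card M * p = Nat.card K := by
    rw [← hg', ← Nat.card_zpowers]
    exact hcompl.card_mul_card
  have hMiff : ∀ z : K, z ∈ M ↔ ¬ p ∣ orderOf (z : G) := by
    intro z
    rw [Subgroup.orderOf_coe]
    constructor
    · intro hz hd
      exact MonoidHom.not_dvd_card_ker_transferSylow P hP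
        (hd.trans (Subgroup.orderOf_dvd_natCard _ hz))
    · intro hz
      rw [hM, MonoidHom.mem_ker, ← orderOf_eq_one_iff]
      have h1 : orderOf (MonoidHom.transferSylow P hP z) ∣ p := by
        refine (_root_.orderOf_dvd_natCard _).trans (dvd_of_eq ?_)
        show Nat.card (zpowers g') = p
        rw [Nat.card_zpowers, hg']
      refine ((Nat.dvd_prime hp.out).1 h1).resolve_right fun h2 => hz ?_
      exact h2 ▸ orderOf_map_dvd _ z
  have hMn : (M.map K.subtype).Normal := by
    refine ⟨?_⟩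
    rintro _ ⟨z, hz, rfl⟩ c
    refine ⟨⟨c * (z : G) * c⁻¹, hK.conj_mem _ z.2 c⟩, (hMiff _).2 ?_, rfl⟩
    have e : orderOf (c * (z : G) * c⁻¹) = orderOf (z : G) :=
      orderOf_injective (MulAut.conj c).toMonoidHom (MulAut.conj c).injective _
    show ¬ p ∣ orderOf (c * (z : G) * c⁻¹)
    rw [e]
    exact (hMiff z).1 hz
  have hMc' : Nat.card (M.map K.subtype) = Nat.card M :=
    (Nat.card_congr (equivMapOfInjective _ _ K.subtype_injective).toEquiv).symm
  have hMbot := noPrime' _ hMn (by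
    rw [hMc']; exact MonoidHom.not_dvd_card_ker_transferSylow P hP)
  rw [hMbot, card_bot] at hMc'
  apply hbig
  rw [← K.card_mul_index, h, ← hMc, ← hMc', one_mul]

end Cfsg.Agent.Leech.Criterion
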