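import Cfsg.Agent.Lib.Leech.Norms

/-!
Counting vectors with prescribed coordinate values by a generating function evaluated at a big
base: `tbl` is computed by the kernel.
-/
set_option autoImplicit false

namespace Cfsg.Agent.Leech

open Cfsg

/-- The base: exceeds every count that occurs. -/
def base : ℕ := 2 ^ 64

/-- One step of the table computation. -/
def stepTbl (l : List ℤ) (old : List ℕ) : List ℕ :=
  (List.range 8).map fun (s : ℕ) => (l.map fun v => old.getD (((s : ℤ) - v) % 8).toNat 0 *
    base ^ (v * v).natAbs).sum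

/-- The table for a list of value lists. -/
def tbl : List (List ℤ) → List ℕ
  | [] => [1, 0, 0, 0, 0, 0, 0, 0]
  | l :: ls => stepTbl l (tbl ls)

/-- The `k`-th digit of the `s`-th entry. -/
def tblCount (ls : List (List ℤ)) (s k : ℕ) : ℕ := (tbl ls).getD s 0 / base ^ k % base

theorem base_pos : 0 < base := by decide

theorem digit_eq {α : Type*} (T : Finset α) (f : α → ℕ) (k : ℕ) (hT : T.card < base) :
    (∑ x ∈ T, base ^ f x) / base ^ k % base = (T.filter fun x => f x = k).card := by
  have hlow : ∑ x ∈ T.filter (fun x => f x < k), base ^ f x < base ^ k := by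
    rcases (T.filter fun x => f x < k).eq_empty_or_nonempty with h | h
    · rw [h]; simpa using pow_pos base_pos k
    · obtain ⟨x₀, hx₀⟩ := h
      have hk : 0 < k := by have := (Finset.mem_filter.1 hx₀).2; omega
      calc ∑ x ∈ T.filter (fun x => f x < k), base ^ f x
          ≤ (T.filter fun x => f x < k).card • base ^ (k - 1) := by
            refine Finset.sum_le_card_nsmul _ _ _ fun x hx => Nat.pow_le_pow_right base_pos ?_
            have := (Finset.mem_filter.1 hx).2; omega
        _ < base * base ^ (k - 1) := by
            rw [smul_eq_mul]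
            refine Nat.mul_lt_mul_of_pos_right ?_ (pow_pos base_pos _)
            exact lt_of_le_of_lt (Finset.card_filter_le _ _) hT
        _ = base ^ k := by rw [← pow_succ', Nat.sub_add_cancel hk]
  obtain ⟨q, hq⟩ : base ^ (k + 1) ∣ ∑ x ∈ T.filter (fun x => k < f x), base ^ f x :=
    Finset.dvd_sum fun x hx => pow_dvd_pow _ (Finset.mem_filter.1 hx).2
  have hsplit : ∑ x ∈ T, base ^ f x = ∑ x ∈ T.filter (fun x => f x < k), base ^ f x +
      base ^ k * ((T.filter fun x => f x = k).card + base * q) := by
    rw [mul_add, ← mul_assoc, ← pow_succ, ← hq]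
    rw [← Finset.sum_filter_add_sum_filter_not T (fun x => f x < k)]
    congr 1
    rw [← Finset.sum_filter_add_sum_filter_not (T.filter fun x => ¬ f x < k) (fun x => f x = k),
      Finset.filter_filter, Finset.filter_filter]
    congr 1
    · rw [Finset.sum_congr rfl (g := fun _ => base ^ k) (fun x hx => by
        rw [(Finset.mem_filter.1 hx).2.2]), Finset.sum_const, smul_eq_mul, mul_comm]
      congr 2
      exact Finset.filter_congr fun x _ => ⟨fun h => h.2, fun h => ⟨by omega, h⟩⟩
    · congr 1
      exact Finset.filter_congr fun x _ => by omega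
  rw [hsplit, Nat.add_mul_div_left _ _ (pow_pos base_pos k), Nat.div_eq_of_lt hlow, zero_add,
    Nat.add_mul_mod_self_left, Nat.mod_eq_of_lt]
  exact lt_of_le_of_lt (Finset.card_filter_le _ _) hT

/-- Vectors with value lists `V` on `S`, zero elsewhere. -/
def vecs (V : GolayPt → List ℤ) (S : Finset GolayPt) : Finset (GolayPt → ℤ) :=
  Fintype.piFinset fun i => if i ∈ S then (V i).toFinset else {0}

/-- Generating sum. -/
def gen (V : GolayPt → List ℤ) (S : Finset GolayPt) (s : ℕ) : ℕ :=
  ∑ x ∈ (vecs V S).filter (fun x => ((∑ i, x i) % 8).toNat = s), base ^ (sqNorm x).natAbs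

theorem mem_vecs {V : GolayPt → List ℤ} {S : Finset GolayPt} {x : GolayPt → ℤ} :
    x ∈ vecs V S ↔ ∀ i, if i ∈ S then x i ∈ V i else x i = 0 := by
  simp only [vecs, Fintype.mem_piFinset]
  refine forall_congr' fun i => ?_
  split_ifs <;> simp

theorem mem_vecs_univ {V : GolayPt → List ℤ} {x : GolayPt → ℤ} :
    x ∈ vecs V Finset.univ ↔ ∀ i, x i ∈ V i := by
  simp [mem_vecs]

theorem vecs_empty (V : GolayPt → List ℤ) : vecs V ∅ = {0} := by
  ext x
  simp [mem_vecs, funext_iff]

theorem sum_update (x : GolayPt → ℤ) (a : GolayPt) (v : ℤ) (hx : x a = 0) :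
    ∑ i, Function.update x a v i = ∑ i, x i + v := by
  rw [Finset.sum_update_of_mem (Finset.mem_univ a),
    Finset.sum_eq_add_sum_sdiff_singleton_of_mem (Finset.mem_univ a) x, hx]
  ring

theorem sqNorm_update (x : GolayPt → ℤ) (a : GolayPt) (v : ℤ) (hx : x a = 0) :
    sqNorm (Function.update x a v) = sqNorm x + v * v := by
  have e : (fun i => Function.update x a v i ^ 2) = Function.update (fun i => x i ^ 2) a (v ^ 2) :=
    funext fun i => Function.apply_update (fun _ z => z ^ 2) x a v i
  simp only [sqNorm]
  rw [e, Finset.sum_update_of_mem (Finset.mem_univ a),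
    Finset.sum_eq_add_sum_sdiff_singleton_of_mem (Finset.mem_univ a) (fun i => x i ^ 2), hx]
  ring

theorem gen_insert (V : GolayPt → List ℤ) {S : Finset GolayPt} {a : GolayPt} (ha : a ∉ S)
    (hnd : (V a).Nodup) (s : ℕ) (hs : s < 8) :
    gen V (insert a S) s =
      ((V a).map fun v => gen V S (((s : ℤ) - v) % 8).toNat * base ^ (v * v).natAbs).sum := by
  rw [← List.sum_toFinset _ hnd]
  simp only [gen, Finset.sum_mul, ← pow_add]
  rw [Finset.sum_sigma']
  refine Finset.sum_nbij' (fun x => ⟨x a, Function.update x a 0⟩)
    (fun p => Function.update p.2 a p.1) ?_ ?_ ?_ ?_ ?_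
  · intro x hx
    simp only [Finset.mem_filter] at hx
    obtain ⟨hx, hsum⟩ := hx
    have hxa : x a ∈ V a := by simpa using mem_vecs.1 hx a
    have hz : Function.update x a 0 a = 0 := Function.update_self _ _ _
    have hback : Function.update (Function.update x a 0) a (x a) = x := by simp
    have h1 := sum_update (Function.update x a 0) a (x a) hz
    rw [hback] at h1
    simp only [Finset.mem_sigma, List.mem_toFinset, Finset.mem_filter]
    refine ⟨hxa, mem_vecs.2 fun i => ?_, ?_⟩
    · rcases eq_or_ne i a with rfl | hi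
      · simp [ha]
      · simpa [hi] using mem_vecs.1 hx i
    · omega
  · rintro ⟨v, x⟩ hp
    simp only [Finset.mem_sigma, List.mem_toFinset, Finset.mem_filter] at hp
    obtain ⟨hv, hx, hsum⟩ := hp
    have hxa : x a = 0 := by simpa [ha] using mem_vecs.1 hx a
    simp only [Finset.mem_filter]
    refine ⟨mem_vecs.2 fun i => ?_, ?_⟩
    · rcases eq_or_ne i a with rfl | hi
      · simp [hv]
      · simpa [hi] using mem_vecs.1 hx i
    · rw [sum_update x a v hxa]
      omega
  · intro x _; simp
  · rintro ⟨v, x⟩ hp
    simp only [Finset.mem_sigma, List.mem_toFinset, Finset.mem_filter] at hp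
    have hxa : x a = 0 := by simpa [ha] using mem_vecs.1 hp.2.1 a
    have : Function.update x a 0 = x := by rw [← hxa, Function.update_eq_self]
    simp [this]
  · intro x _
    congr 1
    have h := sqNorm_update (Function.update x a 0) a (x a) (Function.update_self _ _ _)
    rw [Function.update_idem, Function.update_eq_self] at h
    rw [h, Int.natAbs_add_of_nonneg (sqNorm_nonneg _) (mul_self_nonneg _)]

theorem gen_eq_tbl (V : GolayPt → List ℤ) (hV : ∀ i, (V i).Nodup) :
    ∀ (l : List GolayPt), l.Nodup → ∀ s < 8, gen V l.toFinset s = (tbl (l.map V)).getD s 0 := by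
  intro l
  induction l with
  | nil =>
    intro _ s hs
    interval_cases s <;> simp [gen, vecs_empty, tbl, sqNorm, Finset.filter_singleton]
  | cons a l ih =>
    intro hl s hs
    rw [List.nodup_cons] at hl
    rw [List.toFinset_cons, gen_insert V (by simpa using hl.1) (hV a) s hs]
    simp only [List.map_cons, tbl, stepTbl]
    rw [List.getD_eq_getElem _ _ (by simpa using hs), List.getElem_map, List.getElem_range]
    congr 1
    refine List.map_congr_left fun v _ => ?_
    rw [ih hl.2 _ (by omega)]

/-- Counting theorem: `ls` is any list obtained from `V` along an enumeration of the points. -/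
theorem card_vecs_eq_tblCount (V : GolayPt → List ℤ) (hV : ∀ i, (V i).Nodup)
    (hlen : ∀ i, (V i).length ≤ 5) {l : List GolayPt} (hl : l.Nodup)
    (hu : l.toFinset = Finset.univ) (s k : ℕ) (hs : s < 8) :
    ((vecs V Finset.univ).filter fun x =>
      ((∑ i, x i) % 8).toNat = s ∧ (sqNorm x).natAbs = k).card = tblCount (l.map V) s k := by
  have hcard : ((vecs V Finset.univ).filter fun x => ((∑ i, x i) % 8).toNat = s).card < base := by
    refine lt_of_le_of_lt (Finset.card_filter_le _ _) (lt_of_le_of_lt (?_ : _ ≤ 5 ^ 24) (by decide))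
    rw [vecs, Fintype.card_piFinset, ← card_pt, ← Finset.card_univ]
    refine Finset.prod_le_pow_card _ _ _ fun i _ => ?_
    simp only [Finset.mem_univ, if_true]
    exact le_trans (List.toFinset_card_le _) (hlen i)
  rw [tblCount, ← gen_eq_tbl V hV l hl s hs, hu, gen, digit_eq _ _ k hcard, Finset.filter_filter]

end Cfsg.Agent.Leech
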