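import Cfsg.Agent.Lib.Leech.Digits

/-!
Counting vectors with prescribed coordinate values and a prescribed value modulo `M` of a linear
form, by a generating function evaluated at a big base.
-/
set_option autoImplicit false

namespace Cfsg.Agent.Leech

open Cfsg

/-- One step: `p` is the coefficient and value list of a coordinate. -/
def stepTblW (M : ℕ) (p : ℤ × List ℤ) (old : List ℕ) : List ℕ :=
  (List.range M).map fun (s : ℕ) => (p.2.map fun v =>
    old.getD (((s : ℤ) - p.1 * v) % (M : ℤ)).toNat 0 * base ^ (v * v).natAbs).sum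

/-- The table for a list of coefficient, value list pairs. -/
def tblW (M : ℕ) : List (ℤ × List ℤ) → List ℕ
  | [] => (List.range M).map fun s => if s = 0 then 1 else 0
  | p :: ps => stepTblW M p (tblW M ps)

/-- The `k`-th digit of the `s`-th entry. -/
def tblCountW (M : ℕ) (ps : List (ℤ × List ℤ)) (s k : ℕ) : ℕ :=
  (tblW M ps).getD s 0 / base ^ k % base

theorem sum_mul_update (w x : GolayPt → ℤ) (a : GolayPt) (v : ℤ) (hx : x a = 0) :
    ∑ i, w i * Function.update x a v i = ∑ i, w i * x i + w a * v := by
  have e : (fun i => w i * Function.update x a v i) =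
      Function.update (fun i => w i * x i) a (w a * v) :=
    funext fun i => Function.apply_update (fun i z => w i * z) x a v i
  rw [e, Finset.sum_update_of_mem (Finset.mem_univ a),
    Finset.sum_eq_add_sum_sdiff_singleton_of_mem (Finset.mem_univ a) (fun i => w i * x i), hx]
  ring

/-- Generating sum. -/
def genW (M : ℕ) (w : GolayPt → ℤ) (V : GolayPt → List ℤ) (S : Finset GolayPt) (s : ℕ) : ℕ :=
  ∑ x ∈ (vecs V S).filter (fun x => ((∑ i, w i * x i) % (M : ℤ)).toNat = s),
    base ^ (sqNorm x).natAbs

theorem mod_toNat_lt {M : ℕ} (hM : 0 < M) (z : ℤ) : (z % (M : ℤ)).toNat < M := by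
  have h1 := Int.emod_nonneg z (show (M : ℤ) ≠ 0 by omega)
  have h2 := Int.emod_lt_of_pos z (show (0 : ℤ) < M by omega)
  omega

theorem mod_shift_iff {M : ℕ} (hM : 0 < M) {s : ℕ} (hs : s < M) (A B : ℤ) :
    (A % (M : ℤ)).toNat = (((s : ℤ) - B) % (M : ℤ)).toNat ↔ ((A + B) % (M : ℤ)).toNat = s := by
  have h1 := Int.emod_nonneg A (show (M : ℤ) ≠ 0 by omega)
  have h2 := Int.emod_nonneg ((s : ℤ) - B) (show (M : ℤ) ≠ 0 by omega)
  have h3 := Int.emod_nonneg (A + B) (show (M : ℤ) ≠ 0 by omega)
  have hsM : (s : ℤ) % (M : ℤ) = s := Int.emod_eq_of_lt (by omega) (by omega)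
  constructor
  · intro h
    have e : A % (M : ℤ) = ((s : ℤ) - B) % (M : ℤ) := by omega
    have := Int.ModEq.add_right B (show A ≡ (s : ℤ) - B [ZMOD (M : ℤ)] from e)
    rw [sub_add_cancel, Int.ModEq, hsM] at this
    omega
  · intro h
    have e : (A + B) % (M : ℤ) = (s : ℤ) % (M : ℤ) := by omega
    have := Int.ModEq.sub_right B (show A + B ≡ (s : ℤ) [ZMOD (M : ℤ)] from e)
    rw [add_sub_cancel_right, Int.ModEq] at this
    omega

theorem genW_insert {M : ℕ} (hM : 0 < M) (w : GolayPt → ℤ) (V : GolayPt → List ℤ) {S : Finset GolayPt} {a : GolayPt} (ha : a ∉ S)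
    (hnd : (V a).Nodup) (s : ℕ) (hs : s < M) :
    genW M w V (insert a S) s =
      ((V a).map fun v => genW M w V S (((s : ℤ) - w a * v) % (M : ℤ)).toNat * base ^ (v * v).natAbs).sum := by
  rw [← List.sum_toFinset _ hnd]
  simp only [genW, Finset.sum_mul, ← pow_add]
  rw [Finset.sum_sigma']
  refine Finset.sum_nbij' (fun x => ⟨x a, Function.update x a 0⟩)
    (fun p => Function.update p.2 a p.1) ?_ ?_ ?_ ?_ ?_
  · intro x hx
    simp only [Finset.mem_filter] at hx
    obtain ⟨hx, hsum⟩ := hx
    have hxa : x a ∈ V a := by simpa using mem_vecs.1 hx a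
    have hz : Function.update x a 0 a = 0 := Function.update_self _ _ _
    have hback : Function.update (Function.update x a 0) a (x a) = x := by simp
    have h1 := sum_mul_update w (Function.update x a 0) a (x a) hz
    rw [hback] at h1
    simp only [Finset.mem_sigma, List.mem_toFinset, Finset.mem_filter]
    refine ⟨hxa, mem_vecs.2 fun i => ?_, ?_⟩
    · rcases eq_or_ne i a with rfl | hi
      · simp [ha]
      · simpa [hi] using mem_vecs.1 hx i
    · rw [mod_shift_iff hM hs, ← h1]
      exact hsum
  · rintro ⟨v, x⟩ hp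
    simp only [Finset.mem_sigma, List.mem_toFinset, Finset.mem_filter] at hp
    obtain ⟨hv, hx, hsum⟩ := hp
    have hxa : x a = 0 := by simpa [ha] using mem_vecs.1 hx a
    simp only [Finset.mem_filter]
    refine ⟨mem_vecs.2 fun i => ?_, ?_⟩
    · rcases eq_or_ne i a with rfl | hi
      · simp [hv]
      · simpa [hi] using mem_vecs.1 hx i
    · rw [sum_mul_update w x a v hxa]
      exact (mod_shift_iff hM hs _ _).1 hsum
  · intro x _; simp
  · rintro ⟨v, x⟩ hp
    simp only [Finset.mem_sigma, List.mem_toFinset, Finset.mem_filter] at hp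
    have hxa : x a = 0 := by simpa [ha] using mem_vecs.1 hp.2.1 a
    have : Function.update x a 0 = x := by rw [← hxa, Function.update_eq_self]
    simp [this]
  · intro x _
    congr 1
    have h := sqNorm_update (Function.update x a 0) a (x a) (Function.update_self _ _ _)
    rw [Function.update_idem, Function.update_eq_self] at h
    rw [h, Int.natAbs_add_of_nonneg (sqNorm_nonneg _) (mul_self_nonneg _)]

theorem genW_eq_tblW {M : ℕ} (hM : 0 < M) (w : GolayPt → ℤ) (V : GolayPt → List ℤ) (hV : ∀ i, (V i).Nodup) :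
    ∀ (l : List GolayPt), l.Nodup → ∀ s < M, genW M w V l.toFinset s = (tblW M (l.map fun i => (w i, V i))).getD s 0 := by
  intro l
  induction l with
  | nil =>
    intro _ s hs
    have h0 : ((∑ i, w i * (0 : GolayPt → ℤ) i) % (M : ℤ)).toNat = 0 := by simp
    rw [List.map_nil, tblW, List.getD_eq_getElem _ _ (by simpa using hs), List.getElem_map,
      List.getElem_range]
    simp only [genW, List.toFinset_nil, vecs_empty, Finset.filter_singleton, h0]
    rcases eq_or_ne s 0 with rfl | h
    · simp [sqNorm]
    · simp [h, h.symm]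
  | cons a l ih =>
    intro hl s hs
    rw [List.nodup_cons] at hl
    rw [List.toFinset_cons, genW_insert hM w V (by simpa using hl.1) (hV a) s hs]
    simp only [List.map_cons, tblW, stepTblW]
    rw [List.getD_eq_getElem _ _ (by simpa using hs), List.getElem_map, List.getElem_range]
    congr 1
    refine List.map_congr_left fun v _ => ?_
    rw [ih hl.2 _ (mod_toNat_lt hM _)]

/-- Counting theorem: `ls` is any list obtained from `V` along an enumeration of the points. -/
theorem card_vecs_eq_tblCountW {M : ℕ} (hM : 0 < M) (w : GolayPt → ℤ) (V : GolayPt → List ℤ) (hV : ∀ i, (V i).Nodup)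
    (hlen : ∀ i, (V i).length ≤ 5) {l : List GolayPt} (hl : l.Nodup)
    (hu : l.toFinset = Finset.univ) (s k : ℕ) (hs : s < M) :
    ((vecs V Finset.univ).filter fun x =>
      ((∑ i, w i * x i) % (M : ℤ)).toNat = s ∧ (sqNorm x).natAbs = k).card = tblCountW M (l.map fun i => (w i, V i)) s k := by
  have hcard : ((vecs V Finset.univ).filter fun x => ((∑ i, w i * x i) % (M : ℤ)).toNat = s).card < base := by
    refine lt_of_le_of_lt (Finset.card_filter_le _ _) (lt_of_le_of_lt (?_ : _ ≤ 5 ^ 24) (by decide))
    rw [vecs, Fintype.card_piFinset, ← card_pt, ← Finset.card_univ]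
    refine Finset.prod_le_pow_card _ _ _ fun i _ => ?_
    simp only [Finset.mem_univ, if_true]
    exact le_trans (List.toFinset_card_le _) (hlen i)
  rw [tblCountW, ← genW_eq_tblW hM w V hV l hl s hs, hu, genW, digit_eq _ _ k hcard, Finset.filter_filter]

end Cfsg.Agent.Leech
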