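import Cfsg.Agent.Lib.Leech.Framed

/-!
An orthogonal frame in a positive lattice gives an isometric embedding in the integer vectors
with the standard frame.
-/
set_option autoImplicit false

namespace Cfsg.Agent.Leech

open Cfsg
open Matrix
open scoped Pointwise

/-- Coordinates of a vector in a frame. -/
def frameCoord (B : Matrix GolayPt GolayPt ℤ) (a : GolayPt → GolayPt → ℤ) (x : GolayPt → ℤ) :
    GolayPt → ℤ := fun j => (a j ⬝ᵥ (B *ᵥ x)) / 8

/-- The hypotheses on a frame. -/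
structure IsFrame (B : Matrix GolayPt GolayPt ℤ) (L : AddSubgroup (GolayPt → ℤ))
    (a : GolayPt → GolayPt → ℤ) : Prop where
  orth : ∀ i j, a i ⬝ᵥ (B *ᵥ a j) = if i = j then 64 else 0
  mem : ∀ i, a i ∈ L
  dvd : ∀ i, ∀ x ∈ L, (8 : ℤ) ∣ a i ⬝ᵥ (B *ᵥ x)

theorem parseval {B : Matrix GolayPt GolayPt ℤ} (hB : B.IsSymm) {a : GolayPt → GolayPt → ℤ}
    (orth : ∀ i j, a i ⬝ᵥ (B *ᵥ a j) = if i = j then 64 else 0) (x : GolayPt → ℤ) :
    ∑ j, (a j ⬝ᵥ (B *ᵥ x)) ^ 2 = 64 * (x ⬝ᵥ (B *ᵥ x)) := by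
  let BQ : Matrix GolayPt GolayPt ℚ := B.map (Int.castRingHom ℚ)
  let A : Matrix GolayPt GolayPt ℚ := Matrix.of fun j i => (a j i : ℚ)
  have h1 : A * BQ * Aᵀ = (64 : ℚ) • (1 : Matrix GolayPt GolayPt ℚ) := by
    ext i j
    have h := congrArg (Int.cast : ℤ → ℚ) (orth i j)
    simp only [dotProduct, mulVec, Int.cast_sum, Int.cast_mul, Finset.mul_sum] at h
    rw [Matrix.mul_assoc]
    simp only [Matrix.mul_apply, A, BQ, Matrix.of_apply, Matrix.map_apply, Matrix.transpose_apply,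
      Finset.mul_sum, Matrix.smul_apply, Matrix.one_apply, smul_eq_mul, eq_intCast]
    rw [h]
    split_ifs <;> simp
  have h2 : ((1 / 64 : ℚ) • A) * (BQ * Aᵀ) = 1 := by
    rw [Matrix.smul_mul, ← Matrix.mul_assoc, h1, smul_smul]; norm_num
  have h3 : BQ * Aᵀ * A = (64 : ℚ) • (1 : Matrix GolayPt GolayPt ℚ) := by
    have h := mul_eq_one_comm.1 h2
    rw [Matrix.mul_smul] at h
    have := congrArg ((64 : ℚ) • ·) h
    simp only [smul_smul] at this
    norm_num at this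
    exact this
  let xq : GolayPt → ℚ := fun i => (x i : ℚ)
  have hsym : BQᵀ = BQ := by
    ext i j; simp [BQ, Matrix.transpose_apply, hB.apply]
  have e2 : ((x ⬝ᵥ (B *ᵥ x) : ℤ) : ℚ) = xq ⬝ᵥ (BQ *ᵥ xq) := by
    simp [dotProduct, mulVec, xq, BQ, -Fintype.sum_option]
  have e1 : ((∑ j, (a j ⬝ᵥ (B *ᵥ x)) ^ 2 : ℤ) : ℚ) = (A *ᵥ (BQ *ᵥ xq)) ⬝ᵥ (A *ᵥ (BQ *ᵥ xq)) := by
    simp [dotProduct, mulVec, xq, BQ, A, pow_two, -Fintype.sum_option]
  have e3 : (A *ᵥ (BQ *ᵥ xq)) ⬝ᵥ (A *ᵥ (BQ *ᵥ xq)) = 64 * (xq ⬝ᵥ (BQ *ᵥ xq)) := by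
    have k : BQ * Aᵀ * A * BQ = (64 : ℚ) • BQ := by
      rw [h3, Matrix.smul_mul, Matrix.one_mul]
    calc (A *ᵥ (BQ *ᵥ xq)) ⬝ᵥ (A *ᵥ (BQ *ᵥ xq))
        = ((A * BQ) *ᵥ xq) ⬝ᵥ ((A * BQ) *ᵥ xq) := by rw [Matrix.mulVec_mulVec]
      _ = xq ⬝ᵥ (((A * BQ)ᵀ * (A * BQ)) *ᵥ xq) := by
          rw [← Matrix.mulVec_mulVec xq (A * BQ)ᵀ (A * BQ), Matrix.dotProduct_mulVec xq,
            Matrix.vecMul_transpose]
      _ = 64 * (xq ⬝ᵥ (BQ *ᵥ xq)) := by
          rw [Matrix.transpose_mul, hsym, ← Matrix.mul_assoc, k, Matrix.smul_mulVec,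
            dotProduct_smul, smul_eq_mul]
  rw [← e1, ← e2] at e3
  exact_mod_cast e3

theorem IsFrame.coord_spec {B : Matrix GolayPt GolayPt ℤ} {L : AddSubgroup (GolayPt → ℤ)}
    {a : GolayPt → GolayPt → ℤ} (h : IsFrame B L a) {x : GolayPt → ℤ} (hx : x ∈ L) (j : GolayPt) :
    8 * frameCoord B a x j = a j ⬝ᵥ (B *ᵥ x) := Int.mul_ediv_cancel' (h.dvd j x hx)

/-- The coordinate map. -/
def IsFrame.coordHom {B : Matrix GolayPt GolayPt ℤ} {L : AddSubgroup (GolayPt → ℤ)}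
    {a : GolayPt → GolayPt → ℤ} (h : IsFrame B L a) : L →+ (GolayPt → ℤ) :=
  AddMonoidHom.mk' (fun x => frameCoord B a x.1) fun x y => by
    funext j
    have h1 := h.coord_spec (add_mem x.2 y.2) j
    have h2 := h.coord_spec x.2 j
    have h3 := h.coord_spec y.2 j
    simp only [Matrix.mulVec_add, dotProduct_add] at h1
    simp only [AddSubgroup.coe_add, Pi.add_apply]
    omega

theorem IsFrame.sqNorm_coord {B : Matrix GolayPt GolayPt ℤ} (hB : B.IsSymm)
    {L : AddSubgroup (GolayPt → ℤ)} {a : GolayPt → GolayPt → ℤ} (h : IsFrame B L a) (x : L) :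
    sqNorm (h.coordHom x) = x.1 ⬝ᵥ (B *ᵥ x.1) := by
  have e := parseval hB h.orth x.1
  simp only [← h.coord_spec x.2, mul_pow, ← Finset.mul_sum] at e
  show sqNorm (frameCoord B a x.1) = _
  unfold sqNorm
  linarith

theorem IsFrame.coord_frame {B : Matrix GolayPt GolayPt ℤ} {L : AddSubgroup (GolayPt → ℤ)}
    {a : GolayPt → GolayPt → ℤ} (h : IsFrame B L a) (i : GolayPt) :
    h.coordHom ⟨a i, h.mem i⟩ = Pi.single i 8 := by
  funext j
  show frameCoord B a (a i) j = _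
  simp only [frameCoord, h.orth, Pi.single_apply]
  split_ifs <;> simp_all

theorem IsFrame.framed {B : Matrix GolayPt GolayPt ℤ} (hB : B.IsSymm)
    {L : AddSubgroup (GolayPt → ℤ)} {a : GolayPt → GolayPt → ℤ} (h : IsFrame B L a)
    (hcong : ∀ i j, ∃ z ∈ L, a i - a j = 2 • z)
    (h16 : ∀ x ∈ L, (16 : ℤ) ∣ x ⬝ᵥ (B *ᵥ x))
    (hmin : ∀ x ∈ L, x ≠ 0 → 32 ≤ x ⬝ᵥ (B *ᵥ x))
    (hcount : {x | x ∈ L ∧ x ⬝ᵥ (B *ᵥ x) = 32}.ncard = 196560) :
    Framed h.coordHom.range ∧ Function.Injective h.coordHom := by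
  have hinj : Function.Injective h.coordHom := by
    intro x y e
    by_contra hne
    have h1 := hmin (x - y).1 (x - y).2 (fun e' => hne (sub_eq_zero.1 (Subtype.ext e')))
    rw [← h.sqNorm_coord hB, map_sub, e, sub_self] at h1
    simp [sqNorm, -Fintype.sum_option] at h1
  refine ⟨⟨?_, ?_, ?_, ?_⟩, hinj⟩
  · rintro _ ⟨x, rfl⟩
    rw [h.sqNorm_coord hB]; exact h16 _ x.2
  · rintro _ ⟨x, rfl⟩ hne
    rw [h.sqNorm_coord hB]
    exact hmin _ x.2 fun e => hne (by rw [show x = 0 from Subtype.ext e, map_zero])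
  · intro i j hij u v hu hv
    have key : ∀ i j, ∃ z : L, ∀ k, h.coordHom z k =
        (Pi.single i 4 : GolayPt → ℤ) k - (Pi.single j 4 : GolayPt → ℤ) k := by
      intro i j
      obtain ⟨z, hz, e⟩ := hcong i j
      refine ⟨⟨z, hz⟩, fun k => ?_⟩
      have e2 : (⟨a i, h.mem i⟩ : L) - ⟨a j, h.mem j⟩ = 2 • ⟨z, hz⟩ := Subtype.ext e
      have e3 := congrFun (congrArg h.coordHom e2) k
      rw [map_sub, map_nsmul, h.coord_frame, h.coord_frame] at e3
      simp only [Pi.sub_apply, Pi.smul_apply, Pi.single_apply, nsmul_eq_mul, Nat.cast_ofNat] at e3 ⊢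
      split_ifs at e3 ⊢ <;> omega
    obtain ⟨z, hz⟩ := key i j
    have hz' : h.coordHom z = Pi.single i 4 - Pi.single j 4 := funext hz
    have hi := h.coord_frame i
    have hj := h.coord_frame j
    rcases hu with rfl | rfl <;> rcases hv with rfl | rfl
    · refine ⟨z + ⟨a j, h.mem j⟩, ?_⟩
      rw [map_add, hz', hj]
      funext k; simp [Pi.single_apply]; split_ifs <;> norm_num
    · exact ⟨z, by rw [hz', Pi.single_neg, ← sub_eq_add_neg]⟩
    · exact ⟨-z, by rw [map_neg, hz', Pi.single_neg, neg_sub, sub_eq_neg_add]⟩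
    · refine ⟨z - ⟨a i, h.mem i⟩, ?_⟩
      rw [map_sub, hz', hi]
      funext k; simp [Pi.single_apply]; split_ifs <;> norm_num
  · rw [← hcount]
    have e : {y | y ∈ h.coordHom.range ∧ sqNorm y = 32} =
        h.coordHom '' {x | x.1 ⬝ᵥ (B *ᵥ x.1) = 32} := by
      ext y
      constructor
      · rintro ⟨⟨x, rfl⟩, hn⟩
        exact ⟨x, (h.sqNorm_coord hB x).symm.trans hn, rfl⟩
      · rintro ⟨x, hx, rfl⟩
        exact ⟨⟨x, rfl⟩, (h.sqNorm_coord hB x).trans hx⟩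
    rw [e, Set.ncard_image_of_injective _ hinj,
      ← Set.ncard_image_of_injective _ (Subtype.val_injective : Function.Injective (Subtype.val : L → _))]
    congr 1
    ext x
    constructor
    · rintro ⟨y, hy, rfl⟩; exact ⟨y.2, hy⟩
    · rintro ⟨hx, hn⟩; exact ⟨⟨x, hx⟩, hn, rfl⟩

/-- A frame gives an isometry onto the Leech lattice. -/
theorem IsFrame.exists_iso (hu : CodeUnique) {B : Matrix GolayPt GolayPt ℤ} (hB : B.IsSymm)
    {L : AddSubgroup (GolayPt → ℤ)} {a : GolayPt → GolayPt → ℤ} (h : IsFrame B L a)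
    (hcong : ∀ i j, ∃ z ∈ L, a i - a j = 2 • z)
    (h16 : ∀ x ∈ L, (16 : ℤ) ∣ x ⬝ᵥ (B *ᵥ x))
    (hmin : ∀ x ∈ L, x ≠ 0 → 32 ≤ x ⬝ᵥ (B *ᵥ x))
    (hcount : {x | x ∈ L ∧ x ⬝ᵥ (B *ᵥ x) = 32}.ncard = 196560) :
    ∃ (f : L ≃+ leechLattice) (σ : Equiv.Perm GolayPt) (s : Finset GolayPt),
      (∀ x : L, sqNorm (f x : GolayPt → ℤ) = x.1 ⬝ᵥ (B *ᵥ x.1)) ∧
      ∀ i, (f ⟨a i, h.mem i⟩ : GolayPt → ℤ) = Pi.single (σ i) (if σ i ∈ s then -8 else 8) := by
  obtain ⟨hF, hinj⟩ := h.framed hB hcong h16 hmin hcount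
  obtain ⟨σ, s, hσ⟩ := hF.exists_monomial hu
  let g : L →+ leechLattice :=
    AddMonoidHom.mk' (fun x => ⟨signedPerm σ s (h.coordHom x), (hσ _).1 ⟨x, rfl⟩⟩) fun x y => by
      apply Subtype.ext
      simp only [map_add, signedPerm_add, AddSubgroup.coe_add]
  have gb : Function.Bijective g := by
    refine ⟨fun x y e => hinj (signedPerm_injective σ s (congrArg Subtype.val e)), fun v => ?_⟩
    have key : signedPerm σ s (signedPerm σ⁻¹ (σ⁻¹ • s) v.1) = v.1 := by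
      rw [signedPerm_comp, smul_inv_smul, symmDiff_self, mul_inv_cancel]
      exact signedPerm_one_empty _
    obtain ⟨x, hx⟩ := (hσ (signedPerm σ⁻¹ (σ⁻¹ • s) v.1)).2 (by rw [key]; exact v.2)
    exact ⟨x, Subtype.ext (by show signedPerm σ s (h.coordHom x) = _; rw [hx, key])⟩
  refine ⟨AddEquiv.ofBijective g gb, σ, s, fun x => ?_, fun i => ?_⟩
  · exact (sqNorm_signedPerm _ _ _).trans (h.sqNorm_coord hB x)
  · show signedPerm σ s (h.coordHom ⟨a i, h.mem i⟩) = _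
    rw [h.coord_frame, signedPerm_single]

/-- Representatives of the pairs `±x` of a set of 48 vectors. -/
theorem exists_reps {S : Finset (GolayPt → ℤ)} (hneg : ∀ x ∈ S, -x ∈ S) (h0 : ∀ x ∈ S, x ≠ 0)
    (hcard : S.card = 48) {x₀ : GolayPt → ℤ} (hx₀ : x₀ ∈ S) :
    ∃ a : GolayPt → GolayPt → ℤ, a none = x₀ ∧ (∀ i, a i ∈ S) ∧
      ∀ i j, i ≠ j → a i ≠ a j ∧ a i ≠ - a j := by
  classical
  let p : (GolayPt → ℤ) → Finset (GolayPt → ℤ) := fun x => {x, -x}
  have hp : ∀ x ∈ S, ∀ y, p y = p x ↔ y = x ∨ y = -x := fun x hx y => by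
    constructor
    · intro e
      have : y ∈ p x := by rw [← e]; simp [p]
      simpa [p] using this
    · rintro (rfl | rfl) <;> simp [p, Finset.pair_comm]
  have hfib : ∀ b ∈ S.image p, (S.filter fun x => p x = b).card = 2 := by
    intro b hb
    obtain ⟨x, hx, rfl⟩ := Finset.mem_image.1 hb
    have e : (S.filter fun y => p y = p x) = {x, -x} := by
      ext y
      simp only [Finset.mem_filter, hp x hx, Finset.mem_insert, Finset.mem_singleton]
      exact ⟨fun h => h.2, fun h => ⟨h.elim (fun e => e ▸ hx) (fun e => e ▸ hneg x hx), h⟩⟩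
    rw [e, Finset.card_pair]
    intro e'
    refine h0 x hx (funext fun i => ?_)
    have := congrFun e' i
    simp only [Pi.neg_apply] at this
    simp only [Pi.zero_apply]
    omega
  have h24 : (S.image p).card = Fintype.card GolayPt := by
    have := Finset.card_eq_sum_card_image p S
    rw [Finset.sum_congr rfl hfib, Finset.sum_const, smul_eq_mul, hcard] at this
    rw [card_pt]; omega
  let e : {b // b ∈ S.image p} ≃ GolayPt := Fintype.equivOfCardEq (by simp [h24])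
  let i₀ := e ⟨p x₀, Finset.mem_image_of_mem _ hx₀⟩
  let e' : GolayPt ≃ {b // b ∈ S.image p} := (Equiv.swap none i₀).trans e.symm
  have hex : ∀ i, ∃ x ∈ S, p x = (e' i).1 := fun i => Finset.mem_image.1 (e' i).2
  choose r hr hrp using hex
  have he0 : (e' none).1 = p x₀ := by simp [e', i₀]
  refine ⟨Function.update r none x₀, Function.update_self _ _ _, fun i => ?_, fun i j hij => ?_⟩
  · rcases eq_or_ne i none with rfl | hi
    · simpa using hx₀
    · simpa [hi] using hr i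
  · have hval : ∀ k, p (Function.update r none x₀ k) = (e' k).1 := fun k => by
      rcases eq_or_ne k none with rfl | hk
      · simp [he0]
      · simp [hk, hrp k]
    have hne : p (Function.update r none x₀ i) ≠ p (Function.update r none x₀ j) := by
      rw [hval, hval]; exact fun e2 => hij (e'.injective (Subtype.ext e2))
    exact ⟨fun e2 => hne (by rw [e2]), fun e2 => hne (by rw [e2]; simp [p, Finset.pair_comm])⟩

end Cfsg.Agent.Leech
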