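import Cfsg.Agent.Lib.Leech.Norms
import Cfsg.Agent.Lib.Golay.Generators
import Cfsg.Prelude.Def_SporadicCombinatorics

/-!
Monomial automorphisms of the lattice, the stabiliser of the standard cross, the centre of Co0.
-/
set_option autoImplicit false

namespace Cfsg.Agent.Leech

open Cfsg
open scoped Pointwise

theorem signedPerm_add (σ : Equiv.Perm GolayPt) (c : Finset GolayPt) (x y : GolayPt → ℤ) :
    signedPerm σ c (x + y) = signedPerm σ c x + signedPerm σ c y := by
  funext i
  simp only [signedPerm, Pi.add_apply]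
  split_ifs <;> ring

theorem signedPerm_zsmul (σ : Equiv.Perm GolayPt) (c : Finset GolayPt) (k : ℤ) (x : GolayPt → ℤ) :
    signedPerm σ c (k • x) = k • signedPerm σ c x := by
  funext i
  simp only [signedPerm, Pi.smul_apply, smul_eq_mul]
  split_ifs <;> ring

theorem dotInt_signedPerm (σ : Equiv.Perm GolayPt) (c : Finset GolayPt) (x y : GolayPt → ℤ) :
    dotInt (signedPerm σ c x) (signedPerm σ c y) = dotInt x y := by
  have e : ∀ i, signedPerm σ c x i * signedPerm σ c y i = x (σ.symm i) * y (σ.symm i) := fun i => by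
    simp only [signedPerm]; split_ifs <;> ring
  simp only [dotInt, e]
  exact Equiv.sum_comp σ.symm fun i => x i * y i

theorem sqNorm_signedPerm (σ : Equiv.Perm GolayPt) (c : Finset GolayPt) (x : GolayPt → ℤ) :
    sqNorm (signedPerm σ c x) = sqNorm x := by
  rw [← dotInt_self, ← dotInt_self, dotInt_signedPerm]

theorem signedPerm_comp (σ τ : Equiv.Perm GolayPt) (c d : Finset GolayPt) (x : GolayPt → ℤ) :
    signedPerm σ c (signedPerm τ d x) = signedPerm (σ * τ) (symmDiff c (σ • d)) x := by
  funext i
  have h : i ∈ σ • d ↔ σ.symm i ∈ d := Finset.mem_smul_finset.trans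
    ⟨fun ⟨b, hb, e⟩ => by rw [← e]; simpa using hb, fun hi => ⟨_, hi, by simp⟩⟩
  have e : (σ * τ).symm i = τ.symm (σ.symm i) := rfl
  simp only [signedPerm, Finset.mem_symmDiff, h, e]
  by_cases h1 : i ∈ c <;> by_cases h2 : σ.symm i ∈ d <;> simp [h1, h2]

theorem signedPerm_one_empty (x : GolayPt → ℤ) : signedPerm 1 ∅ x = x := by
  funext i; simp [signedPerm]; rfl

theorem signedPerm_injective (σ : Equiv.Perm GolayPt) (c : Finset GolayPt) :
    Function.Injective (signedPerm σ c) := by
  intro x y h
  funext j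
  have := congrFun h (σ j)
  simp only [signedPerm, Equiv.symm_apply_apply] at this
  split_ifs at this <;> omega

theorem signedPerm_mem_lattice {σ : Equiv.Perm GolayPt} (hσ : σ ∈ M24) {c : Finset GolayPt}
    (hc : c ∈ code) {x : GolayPt → ℤ} (hx : x ∈ leechLattice) :
    signedPerm σ c x ∈ leechLattice :=
  flip_mem_lattice hc (comp_mem_lattice (inv_mem hσ) hx)

theorem signedPerm_single (σ : Equiv.Perm GolayPt) (c : Finset GolayPt) (j : GolayPt) (k : ℤ) :
    signedPerm σ c (Pi.single j k) = Pi.single (σ j) (if σ j ∈ c then -k else k) := by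
  funext i
  by_cases h : i = σ j
  · subst h; simp [signedPerm]
  · have h' : σ.symm i ≠ j := fun e => h (by rw [← e]; simp)
    simp [signedPerm, h, h']

/-- Eight times a unit vector, with a sign. -/
theorem single_eight_mem (i : GolayPt) (s : ℤ) (hs : (8 : ℤ) ∣ s) :
    (Pi.single i s : GolayPt → ℤ) ∈ leechLattice := by
  refine mem_lattice_iff.2 ⟨0, ∅, empty_mem_code, fun j => ?_, ?_⟩
  · by_cases h : j = i
    · subst h; simp [bit]; omega
    · simp [bit, h]
  · simpa [Finset.sum_pi_single'] using hs

/-- Eight times a unit vector as a lattice element. -/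
def frame (i : GolayPt) : leechLattice := ⟨Pi.single i 8, single_eight_mem i 8 (by norm_num)⟩

theorem eight_zsmul_eq (v : leechLattice) :
    (8 : ℤ) • v = ∑ i, (v : GolayPt → ℤ) i • frame i := by
  apply Subtype.ext
  rw [AddSubgroup.coe_zsmul, AddSubgroup.val_finsetSum]
  funext j
  simp only [AddSubgroup.coe_zsmul, frame, Finset.sum_apply, Pi.smul_apply, smul_eq_mul,
    Pi.single_apply, mul_ite, mul_zero]
  rw [Finset.sum_ite_eq, if_pos (Finset.mem_univ j)]
  ring

/-- A Co0 element as an additive map. -/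
def hom (g : Co0) : leechLattice →+ leechLattice :=
  AddMonoidHom.mk' (fun v => g • v) g.2.1

@[simp] theorem hom_apply (g : Co0) (v : leechLattice) : hom g v = g • v := rfl

theorem smul_add' (g : Co0) (v w : leechLattice) : g • (v + w) = g • v + g • w := g.2.1 v w

theorem smul_neg' (g : Co0) (v : leechLattice) : g • (-v) = -(g • v) := map_neg (hom g) v

theorem smul_sub' (g : Co0) (v w : leechLattice) : g • (v - w) = g • v - g • w := map_sub (hom g) v w

theorem sqNorm_smul (g : Co0) (v : leechLattice) :
    sqNorm ((g • v : leechLattice) : GolayPt → ℤ) = sqNorm (v : GolayPt → ℤ) := g.2.2 v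

theorem dotInt_smul (g : Co0) (v w : leechLattice) :
    dotInt ((g • v : leechLattice) : GolayPt → ℤ) ((g • w : leechLattice) : GolayPt → ℤ) =
      dotInt (v : GolayPt → ℤ) (w : GolayPt → ℤ) := by
  have h := sqNorm_smul g (v + w)
  rw [smul_add'] at h
  simp only [AddSubgroup.coe_add, sqNorm_add, sqNorm_smul] at h
  linarith

theorem coe_smul_eight (g : Co0) (v : leechLattice) :
    (8 : ℤ) • ((g • v : leechLattice) : GolayPt → ℤ) =
      ∑ i, (v : GolayPt → ℤ) i • ((g • frame i : leechLattice) : GolayPt → ℤ) := by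
  have h := congrArg (hom g) (eight_zsmul_eq v)
  simp only [map_sum, map_zsmul, hom_apply] at h
  have h' := congrArg (fun u : leechLattice => (u : GolayPt → ℤ)) h
  simpa [AddSubgroup.val_finsetSum] using h'

/-- An automorphism is determined by the images of the frame. -/
theorem ext_frame {g h : Co0} (he : ∀ i, g • frame i = h • frame i) : g = h := by
  apply Subtype.ext
  apply Equiv.ext
  intro v
  apply Subtype.ext
  have h1 := coe_smul_eight g v
  simp only [he, ← coe_smul_eight h v] at h1
  exact smul_right_injective _ (by norm_num) h1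

/-- The lattice permutation of a monomial map. -/
noncomputable def monoPerm (σ : M24) {c : Finset GolayPt} (hc : c ∈ code) :
    Equiv.Perm leechLattice :=
  Equiv.ofBijective (fun v => ⟨signedPerm σ.1 c v, signedPerm_mem_lattice σ.2 hc v.2⟩) (by
    have hinv : σ.1⁻¹ • c ∈ code := by
      have : σ.1⁻¹ • code = code := MulAction.mem_stabilizer_iff.1 (inv_mem σ.2)
      rw [← this]; exact Set.smul_mem_smul_set hc
    refine ⟨fun v w h => Subtype.ext (signedPerm_injective _ _ (congrArg Subtype.val h)), fun v => ?_⟩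
    refine ⟨⟨signedPerm σ.1⁻¹ (σ.1⁻¹ • c) v, signedPerm_mem_lattice (inv_mem σ.2) hinv v.2⟩,
      Subtype.ext ?_⟩
    simp only [signedPerm_comp, smul_inv_smul, symmDiff_self, mul_inv_cancel]
    exact signedPerm_one_empty _)

/-- A monomial automorphism. -/
noncomputable def mono (σ : M24) {c : Finset GolayPt} (hc : c ∈ code) : Co0 :=
  ⟨monoPerm σ hc, fun v w => Subtype.ext (signedPerm_add _ _ _ _), fun v => sqNorm_signedPerm _ _ _⟩

@[simp] theorem coe_mono_smul (σ : M24) {c : Finset GolayPt} (hc : c ∈ code) (v : leechLattice) :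
    ((mono σ hc • v : leechLattice) : GolayPt → ℤ) = signedPerm σ.1 c v := rfl

theorem coe_mono_frame (σ : M24) {c : Finset GolayPt} (hc : c ∈ code) (i : GolayPt) :
    ((mono σ hc • frame i : leechLattice) : GolayPt → ℤ) =
      Pi.single (σ.1 i) (if σ.1 i ∈ c then -8 else 8) := by
  rw [coe_mono_smul]; exact signedPerm_single _ _ _ _

theorem mono_injective {σ τ : M24} {c d : Finset GolayPt} {hc : c ∈ code} {hd : d ∈ code}
    (h : mono σ hc = mono τ hd) : σ = τ ∧ c = d := by
  have key : ∀ i, σ.1 i = τ.1 i ∧ (σ.1 i ∈ c ↔ τ.1 i ∈ d) := by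
    intro i
    have e : ((mono σ hc • frame i : leechLattice) : GolayPt → ℤ) =
        ((mono τ hd • frame i : leechLattice) : GolayPt → ℤ) := by rw [h]
    rw [coe_mono_frame, coe_mono_frame] at e
    have e1 := congrFun e (σ.1 i)
    by_cases hij : σ.1 i = τ.1 i
    · refine ⟨hij, ?_⟩
      rw [hij] at e1 ⊢
      by_cases a : τ.1 i ∈ c <;> by_cases b : τ.1 i ∈ d <;> simp [a, b] at e1 ⊢
    · rw [Pi.single_eq_same, Pi.single_eq_of_ne hij] at e1
      split_ifs at e1
      all_goals norm_num at e1
  refine ⟨Subtype.ext (Equiv.ext fun i => (key i).1), Finset.ext fun j => ?_⟩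
  have := key (σ.1.symm j)
  simp only [Equiv.apply_symm_apply] at this
  rw [← this.1] at this
  exact this.2

/-- If a signed permutation maps the lattice into itself it is one of the monomial maps. -/
theorem signedPerm_mem_iff {σ : Equiv.Perm GolayPt} {c : Finset GolayPt}
    (h : ∀ x ∈ leechLattice, signedPerm σ c x ∈ leechLattice) : σ ∈ M24 ∧ c ∈ code := by
  let x : GolayPt → ℤ := fun i => if i = none then -3 else 1
  have hx : x ∈ leechLattice := mem_lattice_iff.2 ⟨1, ∅, empty_mem_code, fun i => by
    simp only [x, bit, Finset.notMem_empty, if_false]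
    split_ifs <;> norm_num, by decide⟩
  have hc : c ∈ code := by
    obtain ⟨m, hm, d, hd, h4, _⟩ := exists_normal_form (h x hx)
    have hval : ∀ i, (4 : ℤ) ∣ signedPerm σ c x i - (if i ∈ c then -1 else 1) := fun i => by
      simp only [signedPerm, x]
      split_ifs <;> norm_num
    have hm1 : m = 1 := by
      have h1 := h4 none
      have h2 := hval none
      simp only [bit] at h1
      split_ifs at h1 h2 <;> omega
    subst hm1
    have e : c = d := Finset.ext fun i => by
      have h1 := h4 i
      have h2 := hval i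
      simp only [bit] at h1
      by_cases a : i ∈ c <;> by_cases b : i ∈ d <;> simp [a, b] at h1 h2 ⊢ <;> omega
    rw [e]; exact hd
  refine ⟨?_, hc⟩
  have hp : ∀ y ∈ leechLattice, signedPerm σ ∅ y ∈ leechLattice := by
    intro y hy
    have h' := flip_mem_lattice hc (h y hy)
    have e : (fun i => if i ∈ c then -signedPerm σ c y i else signedPerm σ c y i) =
        signedPerm σ ∅ y := by
      funext i
      simp only [signedPerm, Finset.notMem_empty, if_false]
      split_ifs <;> simp
    rwa [e] at h'
  have hmaps : σ • code ⊆ code := by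
    rintro _ ⟨d, hd, rfl⟩
    have hy : (fun i => 2 * bit d i) ∈ leechLattice := mem_lattice_iff.2
      ⟨0, d, hd, fun i => by simp, by
        have := four_dvd_card hd
        rw [← Finset.mul_sum, sum_bit]
        omega⟩
    obtain ⟨m, hm, e, he, h4, _⟩ := exists_normal_form (hp _ hy)
    have hm0 : m = 0 := by
      have h1 := h4 none
      simp only [signedPerm, bit, Finset.notMem_empty, if_false] at h1
      split_ifs at h1 <;> omega
    subst hm0
    have : σ • d = e := Finset.ext fun i => by
      have h1 := h4 i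
      have hmem : i ∈ σ • d ↔ σ.symm i ∈ d := Finset.mem_smul_finset.trans
        ⟨fun ⟨b, hb, e'⟩ => by rw [← e']; simpa using hb, fun hi => ⟨_, hi, by simp⟩⟩
      simp only [signedPerm, bit, Finset.notMem_empty, if_false] at h1
      rw [hmem]
      by_cases a : σ.symm i ∈ d <;> by_cases b : i ∈ e <;> simp [a, b] at h1 ⊢
    simp only [this]; exact he
  rw [M24, setSystemAut, MulAction.mem_stabilizer_iff]
  exact Set.eq_of_subset_of_ncard_le hmaps (by
    rw [← Set.image_smul, Set.ncard_image_of_injective _ (MulAction.injective σ)]) (Set.toFinite _)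

theorem mem_stdCross_frame (i : GolayPt) : (frame i : GolayPt → ℤ) ∈ stdCross :=
  ⟨i, 8, Or.inl rfl, rfl⟩

/-- An element stabilising the standard cross is monomial. -/
theorem exists_eq_mono {g : Co0} (hg : ∀ v : leechLattice, (v : GolayPt → ℤ) ∈ stdCross →
      ((g • v : leechLattice) : GolayPt → ℤ) ∈ stdCross) :
    ∃ (σ : M24) (c : Finset GolayPt) (hc : c ∈ code), g = mono σ hc := by
  classical
  have h0 : ∀ i, ∃ (j : GolayPt) (s : ℤ), (s = 8 ∨ s = -8) ∧
      ((g • frame i : leechLattice) : GolayPt → ℤ) = Pi.single j s :=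
    fun i => hg _ (mem_stdCross_frame i)
  choose π s hs hπ using h0
  have hinj : Function.Injective π := by
    intro i j hij
    by_contra hne
    have h := dotInt_smul g (frame i) (frame j)
    rw [hπ i, hπ j, hij] at h
    simp [dotInt, frame, Pi.single_apply, hne] at h
    rcases hs i with a | a <;> rcases hs j with b | b <;> simp [a, b, Ne.symm hne] at h
  let σ : Equiv.Perm GolayPt := Equiv.ofBijective π (Finite.injective_iff_bijective.1 hinj)
  let c : Finset GolayPt := Finset.univ.filter fun j => s (σ.symm j) = -8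
  have hfr : ∀ i, ((g • frame i : leechLattice) : GolayPt → ℤ) =
      signedPerm σ c (frame i : GolayPt → ℤ) := by
    intro i
    rw [hπ i]
    simp only [frame, signedPerm_single]
    have e : σ.symm (σ i) = i := Equiv.symm_apply_apply _ _
    simp only [c, Finset.mem_filter, Finset.mem_univ, true_and, e]
    show (Pi.single (π i) (s i) : GolayPt → ℤ) = Pi.single (π i) _
    rcases hs i with a | a <;> simp [a]
  have hall : ∀ v : leechLattice,
      ((g • v : leechLattice) : GolayPt → ℤ) = signedPerm σ c (v : GolayPt → ℤ) := by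
    intro v
    refine smul_right_injective (GolayPt → ℤ) (r := (8 : ℤ)) (by norm_num) ?_
    simp only [coe_smul_eight g v, hfr, ← signedPerm_zsmul]
    let f : (GolayPt → ℤ) →+ (GolayPt → ℤ) :=
      AddMonoidHom.mk' (signedPerm σ c) (signedPerm_add σ c)
    show ∑ i, f _ = f _
    rw [← map_sum]
    congr 1
    have := congrArg (fun u : leechLattice => (u : GolayPt → ℤ)) (eight_zsmul_eq v)
    simpa [AddSubgroup.val_finsetSum] using this.symm
  obtain ⟨h1, h2⟩ := signedPerm_mem_iff (σ := σ) (c := c) fun x hx => by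
    rw [← hall ⟨x, hx⟩]; exact (g • (⟨x, hx⟩ : leechLattice)).2
  refine ⟨⟨σ, h1⟩, c, h2, ext_frame fun i => Subtype.ext ?_⟩
  rw [hall]; rfl

theorem mono_stdCross (σ : M24) {c : Finset GolayPt} (hc : c ∈ code) (v : leechLattice)
    (hv : (v : GolayPt → ℤ) ∈ stdCross) :
    ((mono σ hc • v : leechLattice) : GolayPt → ℤ) ∈ stdCross := by
  obtain ⟨i, s, hs, e⟩ := hv
  rw [coe_mono_smul, e, signedPerm_single]
  refine ⟨_, _, ?_, rfl⟩
  rcases hs with a | a <;> subst a <;> split_ifs <;> simp

/-- The stabiliser of the standard cross has `|C|·|M24|` elements. -/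
theorem card_stdCross_stab :
    Nat.card {g : Co0 // ∀ v : leechLattice, (v : GolayPt → ℤ) ∈ stdCross →
      ((g • v : leechLattice) : GolayPt → ℤ) ∈ stdCross} = code.ncard * Nat.card M24 := by
  rw [← Nat.card_coe_set_eq code, ← Nat.card_prod, eq_comm]
  refine Nat.card_congr (Equiv.ofBijective (fun p => ⟨mono p.2 p.1.2, mono_stdCross p.2 p.1.2⟩) ⟨?_, ?_⟩)
  · rintro ⟨⟨c, hc⟩, σ⟩ ⟨⟨d, hd⟩, τ⟩ h
    obtain ⟨e1, e2⟩ := mono_injective (congrArg Subtype.val h)
    exact Prod.ext (Subtype.ext e2) e1
  · rintro ⟨g, hg⟩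
    obtain ⟨σ, c, hc, e⟩ := exists_eq_mono hg
    exact ⟨(⟨c, hc⟩, σ), Subtype.ext e.symm⟩

end Cfsg.Agent.Leech
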