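import Cfsg.Agent.Lib.Leech.Counts
import Cfsg.Agent.Lib.Leech.Monomial

/-!
A lattice with the orthogonal frame `8 eᵢ`, no roots and 196560 minimal vectors is a monomial
image of the Leech lattice (given uniqueness of the code).
-/
set_option autoImplicit false

namespace Cfsg.Agent.Leech

open Cfsg
open scoped Pointwise

/-- Uniqueness of the code, in the form used here. -/
def CodeUnique : Prop :=
  ∀ C : Set (Finset GolayPt), (∅ : Finset GolayPt) ∈ C → Finset.univ ∈ C →
    (∀ c ∈ C, ∀ d ∈ C, symmDiff c d ∈ C) → (∀ c ∈ C, c.card ∈ [0, 8, 12, 16, 24]) →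
    C.ncard = 4096 → ∃ σ : Equiv.Perm GolayPt, σ • C = code

/-- The axioms of a lattice with the standard frame. -/
structure Framed (M : AddSubgroup (GolayPt → ℤ)) : Prop where
  even16 : ∀ x ∈ M, (16 : ℤ) ∣ sqNorm x
  noRoots : ∀ x ∈ M, x ≠ 0 → 32 ≤ sqNorm x
  pairs : ∀ i j : GolayPt, i ≠ j → ∀ a b : ℤ, (a = 4 ∨ a = -4) → (b = 4 ∨ b = -4) →
    Pi.single i a + Pi.single j b ∈ M
  count : {x | x ∈ M ∧ sqNorm x = 32}.ncard = 196560

/-- The code pattern of a vector. -/
def pattern (x : GolayPt → ℤ) : Finset GolayPt := Finset.univ.filter fun i => x i % 4 = 2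

theorem mem_pattern {x : GolayPt → ℤ} {i : GolayPt} : i ∈ pattern x ↔ x i % 4 = 2 := by
  simp [pattern]

theorem Framed.eight_dvd {M : AddSubgroup (GolayPt → ℤ)} (h : Framed M) {x y : GolayPt → ℤ}
    (hx : x ∈ M) (hy : y ∈ M) : (8 : ℤ) ∣ dotInt x y := by
  have h1 := h.even16 x hx
  have h2 := h.even16 y hy
  have h3 := h.even16 _ (add_mem hx hy)
  rw [sqNorm_add] at h3
  omega

theorem Framed.single_eight {M : AddSubgroup (GolayPt → ℤ)} (h : Framed M) (i : GolayPt) :
    (Pi.single i 8 : GolayPt → ℤ) ∈ M := by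
  obtain ⟨j, hj⟩ : ∃ j : GolayPt, i ≠ j := by
    obtain ⟨j, hj⟩ := exists_ne i
    exact ⟨j, hj.symm⟩
  have := add_mem (h.pairs i j hj 4 4 (Or.inl rfl) (Or.inl rfl))
    (h.pairs i j hj 4 (-4) (Or.inl rfl) (Or.inr rfl))
  convert this using 1
  funext k
  simp [Pi.single_apply]
  split_ifs <;> norm_num

theorem Framed.four_mul_mem {M : AddSubgroup (GolayPt → ℤ)} (h : Framed M) {z : GolayPt → ℤ}
    (hz : (2 : ℤ) ∣ ∑ i, z i) : (fun i => 4 * z i) ∈ M := by
  obtain ⟨k, hk⟩ := hz
  have e : (fun i => 4 * z i) = ∑ i, z i • (Pi.single i 4 - Pi.single none 4 : GolayPt → ℤ)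
      + k • Pi.single none 8 := by
    funext j
    simp only [Pi.add_apply, Finset.sum_apply, Pi.smul_apply, Pi.sub_apply, smul_eq_mul,
      Pi.single_apply, mul_sub, Finset.sum_sub_distrib, mul_ite, mul_zero, Finset.sum_ite_eq,
      Finset.mem_univ, if_true]
    by_cases hj : j = none
    · simp only [hj, if_true, ← Finset.sum_mul]
      linarith
    · simp [hj]; ring
  rw [e]
  refine add_mem (sum_mem fun i _ => zsmul_mem ?_ _) (zsmul_mem (h.single_eight none) _)
  rcases eq_or_ne i none with rfl | hi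
  · simp
  · have := h.pairs i none hi 4 (-4) (Or.inl rfl) (Or.inr rfl)
    rwa [Pi.single_neg, ← sub_eq_add_neg] at this

theorem Framed.single_four_notMem {M : AddSubgroup (GolayPt → ℤ)} (h : Framed M) (i : GolayPt) :
    (Pi.single i 4 : GolayPt → ℤ) ∉ M := fun hm => by
  have := h.noRoots _ hm (by simp)
  simp [sqNorm, Pi.single_apply, ite_pow, -Fintype.sum_option] at this

theorem Framed.four_mul_iff {M : AddSubgroup (GolayPt → ℤ)} (h : Framed M) {z : GolayPt → ℤ} :
    (fun i => 4 * z i) ∈ M ↔ (2 : ℤ) ∣ ∑ i, z i := by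
  refine ⟨fun hm => ?_, h.four_mul_mem⟩
  by_contra hodd
  let z' : GolayPt → ℤ := fun i => z i - (if i = none then 1 else 0)
  have h' : (fun i => 4 * z' i) ∈ M := h.four_mul_mem (by
    simp [z', Finset.sum_sub_distrib, -Fintype.sum_option]; omega)
  refine h.single_four_notMem none ?_
  convert sub_mem hm h' using 1
  funext i
  simp only [z', Pi.sub_apply, Pi.single_apply]
  split_ifs <;> ring

theorem Framed.parity {M : AddSubgroup (GolayPt → ℤ)} (h : Framed M) {x : GolayPt → ℤ}
    (hx : x ∈ M) (i : GolayPt) : (2 : ℤ) ∣ x i - x none := by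
  rcases eq_or_ne i none with rfl | hi
  · simp
  have h1 := h.eight_dvd hx (h.pairs i none hi 4 (-4) (Or.inl rfl) (Or.inr rfl))
  simp only [dotInt, Pi.add_apply, Pi.single_apply, mul_add, Finset.sum_add_distrib, mul_ite,
    mul_zero, Finset.sum_ite_eq', Finset.mem_univ, if_true] at h1
  omega

/-- The code attached to a framed lattice. -/
def codeOf (M : AddSubgroup (GolayPt → ℤ)) : Set (Finset GolayPt) :=
  {c | ∃ x ∈ M, (∀ i, (2 : ℤ) ∣ x i) ∧ pattern x = c}

theorem codeOf_empty (M : AddSubgroup (GolayPt → ℤ)) : (∅ : Finset GolayPt) ∈ codeOf M :=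
  ⟨0, zero_mem _, by simp, by ext i; simp [mem_pattern]⟩

theorem codeOf_symmDiff {M : AddSubgroup (GolayPt → ℤ)} {c d : Finset GolayPt} (hc : c ∈ codeOf M)
    (hd : d ∈ codeOf M) : symmDiff c d ∈ codeOf M := by
  obtain ⟨x, hx, ex, rfl⟩ := hc
  obtain ⟨y, hy, ey, rfl⟩ := hd
  refine ⟨x + y, add_mem hx hy, fun i => dvd_add (ex i) (ey i), ?_⟩
  ext i
  have := ex i
  have := ey i
  simp only [Finset.mem_symmDiff, mem_pattern, Pi.add_apply]
  omega

theorem Framed.codeOf_card {M : AddSubgroup (GolayPt → ℤ)} (h : Framed M) {c : Finset GolayPt}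
    (hc : c ∈ codeOf M) : 4 ∣ c.card ∧ (c ≠ ∅ → 8 ≤ c.card) := by
  obtain ⟨x, hx, ex, rfl⟩ := hc
  rcases (pattern x).eq_empty_or_nonempty with he | ⟨a, ha⟩
  · simp [he]
  let y : GolayPt → ℤ := fun i => 2 * bit (pattern x) i
  have hy : ∀ i, x i - y i = 4 * ((x i - y i) / 4) := fun i => by
    have := ex i
    simp only [y, bit, mem_pattern]
    split_ifs <;> omega
  obtain ⟨w, hw, hwn⟩ : ∃ w ∈ M, sqNorm w = 4 * (pattern x).card := by
    by_cases hp : (2 : ℤ) ∣ ∑ i, (x i - y i) / 4
    · refine ⟨y, ?_, ?_⟩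
      · convert sub_mem hx (h.four_mul_mem hp) using 1
        funext i
        simp only [Pi.sub_apply, ← hy i]
        ring
      · have e : ∀ i, y i ^ 2 = 4 * bit (pattern x) i := fun i => by
          simp only [y]; linear_combination 4 * bit_sq (pattern x) i
        simp only [sqNorm, e, ← Finset.mul_sum, sum_bit]
    · let w : GolayPt → ℤ := fun i => y i - (if i = a then 4 else 0)
      refine ⟨w, ?_, ?_⟩
      · have h' := h.four_mul_mem (z := fun i => (x i - y i) / 4 + (if i = a then 1 else 0)) (by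
          simp [Finset.sum_add_distrib, -Fintype.sum_option]; omega)
        convert sub_mem hx h' using 1
        funext i
        have := hy i
        simp only [w, Pi.sub_apply]
        split_ifs <;> omega
      · have e : ∀ i, w i ^ 2 = 4 * bit (pattern x) i := fun i => by
          simp only [w, y]
          by_cases hia : i = a
          · subst hia; simp [bit, ha]
          · simp [hia]; linear_combination 4 * bit_sq (pattern x) i
        simp only [sqNorm, e, ← Finset.mul_sum, sum_bit]
  have h16 := h.even16 w hw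
  have h32 := h.noRoots w hw (fun e => by
    rw [e] at hwn
    simp [sqNorm, -Fintype.sum_option] at hwn
    exact absurd hwn (Finset.nonempty_iff_ne_empty.1 ⟨a, ha⟩))
  rw [hwn] at h16 h32
  exact ⟨by omega, fun _ => by omega⟩

theorem Framed.octad_count {M : AddSubgroup (GolayPt → ℤ)} (h : Framed M)
    (O : Finset (Finset GolayPt)) (hO : ∀ o ∈ O, o ∈ codeOf M ∧ o.card = 8) : O.card ≤ 759 := by
  classical
  have hdis : (O : Set (Finset GolayPt)).PairwiseDisjoint (fun o => o.powersetCard 5) := by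
    intro o ho p hp hne
    refine Finset.disjoint_left.2 fun t ht ht' => ?_
    rw [Finset.mem_powersetCard] at ht ht'
    have hsub : t ⊆ o ∩ p := Finset.subset_inter ht.1 ht'.1
    have h5 := Finset.card_le_card hsub
    have hne' : symmDiff o p ≠ ∅ := fun e => hne (symmDiff_eq_bot.1 e)
    have h8 := (h.codeOf_card (codeOf_symmDiff (hO o ho).1 (hO p hp).1)).2 hne'
    have hc := card_symmDiff o p
    have := (hO o ho).2
    have := (hO p hp).2
    omega
  have h1 : (O.biUnion fun o => o.powersetCard 5).card = 56 * O.card := by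
    rw [Finset.card_biUnion hdis, Finset.sum_congr rfl (g := fun _ => 56) (fun o ho => by
      rw [Finset.card_powersetCard, (hO o ho).2]; rfl), Finset.sum_const, smul_eq_mul, mul_comm]
  have h2 : (O.biUnion fun o => o.powersetCard 5).card ≤ 42504 := by
    refine le_trans (Finset.card_le_card (t := (Finset.univ : Finset GolayPt).powersetCard 5) ?_) ?_
    · intro t ht
      obtain ⟨o, _, ht⟩ := Finset.mem_biUnion.1 ht
      exact Finset.mem_powersetCard.2 ⟨Finset.subset_univ _, (Finset.mem_powersetCard.1 ht).2⟩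
    · rw [Finset.card_powersetCard, Finset.card_univ, card_pt]; decide +kernel
  omega

theorem Framed.exists_odd {M : AddSubgroup (GolayPt → ℤ)} (h : Framed M) :
    ∃ x ∈ M, ¬ (2 : ℤ) ∣ x none := by
  classical
  by_contra hall
  push Not at hall
  have hev : ∀ x ∈ M, ∀ i, (2 : ℤ) ∣ x i := fun x hx i => by
    have := hall x hx
    have := h.parity hx i
    omega
  let O : Finset (Finset GolayPt) :=
    Finset.univ.filter fun c => c ∈ codeOf M ∧ c.card = 8
  let B : Finset GolayPt → Finset (GolayPt → ℤ) := fun c =>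
    Fintype.piFinset fun i => if i ∈ c then {2, -2} else {0}
  have hB : ∀ c ∈ O, (B c).card = 256 := fun c hc => by
    have e : c.card = 8 := (Finset.mem_filter.1 hc).2.2
    simp [B, Fintype.card_piFinset, apply_ite Finset.card, Finset.prod_ite_mem, e,
      -Fintype.prod_option]
  have hsub : {x | x ∈ M ∧ sqNorm x = 32} ⊆
      ((cosetVecs 0 ∅ 32 ∪ O.biUnion B : Finset _) : Set (GolayPt → ℤ)) := by
    rintro x ⟨hx, hn⟩
    rw [Finset.coe_union]
    rcases eq_or_ne (pattern x) ∅ with he | he
    · left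
      rw [Finset.mem_coe, mem_cosetVecs (Or.inl rfl) (by norm_num)]
      have h4 : ∀ i, x i = 4 * (x i / 4) := fun i => by
        have := hev x hx i
        have := Finset.eq_empty_iff_forall_notMem.1 he i
        rw [mem_pattern] at this
        omega
      refine ⟨⟨fun i => by have := h4 i; simp [bit]; omega, ?_⟩, hn⟩
      have hz := (h.four_mul_iff (z := fun i => x i / 4)).1 (by
        convert hx using 1; exact funext fun i => (h4 i).symm)
      rw [Finset.sum_congr rfl (fun i _ => h4 i), ← Finset.mul_sum]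
      omega
    · right
      have hcard := (h.codeOf_card ⟨x, hx, hev x hx, rfl⟩).2 he
      have hge : ∀ i, 0 ≤ x i ^ 2 - 4 * bit (pattern x) i := fun i => by
        by_cases hi : i ∈ pattern x
        · have := mem_pattern.1 hi
          simp [bit, hi]
          have : x i ≤ -2 ∨ 2 ≤ x i := by omega
          rcases this with t | t <;> nlinarith
        · simp [bit, hi]; positivity
      have hsum : ∑ i, (x i ^ 2 - 4 * bit (pattern x) i) = (32 : ℤ) - 4 * ((pattern x).card : ℤ) := by
        rw [Finset.sum_sub_distrib, ← Finset.mul_sum, sum_bit, ← hn, sqNorm]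
      have h0 : ∑ i, (x i ^ 2 - 4 * bit (pattern x) i) = 0 := by
        have := Finset.sum_nonneg (s := Finset.univ) fun i _ => hge i
        omega
      have he8 : (pattern x).card = 8 := by omega
      rw [Finset.mem_coe, Finset.mem_biUnion]
      refine ⟨pattern x, by simp [O, he8]; exact ⟨x, hx, hev x hx, rfl⟩, ?_⟩
      simp only [B, Fintype.mem_piFinset]
      intro i
      have := (Finset.sum_eq_zero_iff_of_nonneg fun i _ => hge i).1 h0 i (Finset.mem_univ i)
      by_cases hi : i ∈ pattern x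
      · simp [bit, hi] at this ⊢
        have : (x i - 2) * (x i + 2) = 0 := by linarith
        rcases mul_eq_zero.1 this with t | t <;> omega
      · simp [bit, hi] at this ⊢
        exact this
  have h1 := Set.ncard_le_ncard hsub (Finset.finite_toSet _)
  rw [h.count, Set.ncard_coe_finset] at h1
  have h2 := Finset.card_union_le (cosetVecs 0 ∅ 32) (O.biUnion B)
  rw [card_cosetVecs, Finset.card_empty] at h2
  have h3 : cosetCount 0 32 0 = 1104 := by decide +kernel
  have h4 : (O.biUnion B).card ≤ O.card * 256 :=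
    Finset.card_biUnion_le_card_mul _ _ _ fun c hc => (hB c hc).le
  have h5 := h.octad_count O fun o ho => (Finset.mem_filter.1 ho).2
  omega

theorem card_dvd_of_closed {C : Set (Finset GolayPt)} (h0 : (∅ : Finset GolayPt) ∈ C)
    (hsd : ∀ c ∈ C, ∀ d ∈ C, symmDiff c d ∈ C) : C.ncard ∣ 2 ^ 24 := by
  let W : AddSubgroup (GolayPt → ZMod 2) :=
    { carrier := {w | support₂ w ∈ C}
      zero_mem' := by
        show support₂ 0 ∈ C
        have : support₂ (0 : GolayPt → ZMod 2) = ∅ := by ext; simp [support₂]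
        rw [this]; exact h0
      add_mem' := fun {u v} hu hv => by
        show support₂ (u + v) ∈ C
        have : support₂ (u + v) = symmDiff (support₂ u) (support₂ v) := by
          ext p
          rcases zmod2_cases (u p) with a | a <;> rcases zmod2_cases (v p) with b | b <;>
            simp [support₂, Finset.mem_symmDiff, a, b] <;> decide
        rw [this]; exact hsd _ hu _ hv
      neg_mem' := fun {u} hu => by
        show support₂ (-u) ∈ C
        have : -u = u := funext fun p => by
          rcases zmod2_cases (u p) with a | a <;> simp [a]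
        rw [this]; exact hu }
  have hsurj : ∀ c : Finset GolayPt, support₂ (fun p => if p ∈ c then (1 : ZMod 2) else 0) = c :=
    fun c => by ext p; by_cases hp : p ∈ c <;> simp [support₂, hp]
  have e : Nat.card W = C.ncard := by
    rw [← Nat.card_coe_set_eq]
    refine Nat.card_congr (Equiv.ofBijective (fun w => ⟨support₂ w.1, w.2⟩) ⟨?_, ?_⟩)
    · intro u v huv
      have h := congrArg Subtype.val huv
      refine Subtype.ext (funext fun p => ?_)
      have hp : u.1 p ≠ 0 ↔ v.1 p ≠ 0 := by simpa [support₂] using Finset.ext_iff.1 h p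
      rcases zmod2_cases (u.1 p) with a | a <;> rcases zmod2_cases (v.1 p) with b | b <;>
        simp_all
    · rintro ⟨c, hc⟩
      exact ⟨⟨fun p => if p ∈ c then (1 : ZMod 2) else 0, show support₂ _ ∈ C from (hsurj c).symm ▸ hc⟩,
        Subtype.ext (hsurj c)⟩
  have := AddSubgroup.card_addSubgroup_dvd_card W
  rw [e, Nat.card_fun, Nat.card_zmod, Nat.card_eq_fintype_card, card_pt] at this
  exact this

theorem bit_smul (σ : Equiv.Perm GolayPt) (c : Finset GolayPt) (i : GolayPt) :
    bit (σ • c) i = bit c (σ.symm i) := by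
  have h : i ∈ σ • c ↔ σ.symm i ∈ c := Finset.mem_smul_finset.trans
    ⟨fun ⟨b, hb, e⟩ => by rw [← e]; simpa using hb, fun hi => ⟨_, hi, by simp⟩⟩
  by_cases hi : σ.symm i ∈ c <;> simp [bit, h, hi]

theorem isLVec_perm (σ : Equiv.Perm GolayPt) {m : ℤ} {c : Finset GolayPt} {x : GolayPt → ℤ} :
    IsLVec m (σ • c) (signedPerm σ ∅ x) ↔ IsLVec m c x := by
  have e : ∀ i, signedPerm σ ∅ x i = x (σ.symm i) := fun i => by simp [signedPerm]
  simp only [IsLVec, e, bit_smul, Equiv.sum_comp σ.symm x]
  refine and_congr_left fun _ => ⟨fun h i => ?_, fun h i => h _⟩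
  simpa using h (σ i)

/-- The main theorem. -/
theorem Framed.exists_monomial {M : AddSubgroup (GolayPt → ℤ)} (h : Framed M) (hu : CodeUnique) :
    ∃ (σ : Equiv.Perm GolayPt) (s : Finset GolayPt),
      ∀ x, x ∈ M ↔ signedPerm σ s x ∈ leechLattice := by
  classical
  obtain ⟨x0, hx0, hodd0⟩ := h.exists_odd
  let s0 : Finset GolayPt := Finset.univ.filter fun i => x0 i % 4 = 3
  let f : (GolayPt → ℤ) →+ (GolayPt → ℤ) :=
    AddMonoidHom.mk' (signedPerm 1 s0) (signedPerm_add 1 s0)
  have hf : ∀ x i, f x i = if i ∈ s0 then -x i else x i := fun x i => rfl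
  have hff : ∀ x, f (f x) = x := fun x => by
    funext i; simp only [hf]; split_ifs <;> simp
  let N := M.comap f
  have hN : Framed N := by
    refine ⟨fun x hx => ?_, fun x hx hne => ?_, fun i j hij a b ha hb => ?_, ?_⟩
    · have := h.even16 _ hx
      rwa [show sqNorm (f x) = sqNorm x from sqNorm_signedPerm _ _ _] at this
    · have := h.noRoots _ hx fun e => hne (by rw [← hff x, e, map_zero])
      rwa [show sqNorm (f x) = sqNorm x from sqNorm_signedPerm _ _ _] at this
    · show f (Pi.single i a + Pi.single j b) ∈ M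
      rw [map_add]
      show signedPerm 1 s0 (Pi.single i a) + signedPerm 1 s0 (Pi.single j b) ∈ M
      rw [signedPerm_single, signedPerm_single]
      refine h.pairs i j hij _ _ ?_ ?_
      · split_ifs <;> omega
      · split_ifs <;> omega
    · rw [← h.count]
      have e : {x | x ∈ N ∧ sqNorm x = 32} = f '' {x | x ∈ M ∧ sqNorm x = 32} := by
        ext x
        constructor
        · rintro ⟨h1, h2⟩
          exact ⟨f x, ⟨h1, (sqNorm_signedPerm _ _ _).trans h2⟩, hff x⟩
        · rintro ⟨y, ⟨h1, h2⟩, rfl⟩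
          exact ⟨show f (f y) ∈ M by rwa [hff], (sqNorm_signedPerm _ _ _).trans h2⟩
      rw [e]
      exact Set.ncard_image_of_injective _ (signedPerm_injective _ _)
  obtain ⟨y0, hy0, hy01⟩ : ∃ y ∈ N, ∀ i, (4 : ℤ) ∣ y i - 1 := by
    refine ⟨f x0, show f (f x0) ∈ M by rwa [hff], fun i => ?_⟩
    have := h.parity hx0 i
    simp only [hf, s0, Finset.mem_filter, Finset.mem_univ, true_and]
    split_ifs <;> omega
  choose z hz using hy01
  have hzodd : ¬ (2 : ℤ) ∣ ∑ i, z i := by
    have h16 := hN.even16 y0 hy0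
    have e : ∀ i, y0 i ^ 2 = 1 + 8 * z i + 16 * z i ^ 2 := fun i => by
      have := hz i; rw [show y0 i = 1 + 4 * z i by linarith]; ring
    simp only [sqNorm, e, Finset.sum_add_distrib, ← Finset.mul_sum, Finset.sum_const,
      Finset.card_univ, card_pt] at h16
    simp [-Fintype.sum_option] at h16
    omega
  have hy0sum : ∑ i, y0 i = 24 + 4 * ∑ i, z i := by
    rw [Finset.sum_congr rfl fun i _ => show y0 i = 1 + 4 * z i by have := hz i; linarith,
      Finset.sum_add_distrib, ← Finset.mul_sum]
    simp [card_pt, -Fintype.sum_option]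
  have hy0vec : ∀ m : ℤ, IsLVec m ∅ (m • y0) := fun m => by
    refine ⟨fun i => ⟨m * z i, ?_⟩, ?_⟩
    · have := hz i
      simp [bit]; linear_combination m * this
    · simp only [Pi.smul_apply, smul_eq_mul, ← Finset.mul_sum, hy0sum]
      have : m * (24 + 4 * ∑ i, z i) - 4 * m = 4 * (m * (5 + ∑ i, z i)) := by ring
      rw [this]
      have : (2 : ℤ) ∣ m * (5 + ∑ i, z i) := Dvd.dvd.mul_left (by omega) m
      omega
  have heven : ∀ x ∈ N, (∀ i, (2 : ℤ) ∣ x i) → IsLVec 0 (pattern x) x := by
    intro x hx ex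
    refine ⟨fun i => ?_, ?_⟩
    · have := ex i
      simp only [bit, mem_pattern]
      split_ifs <;> omega
    · have hd := hN.eight_dvd hx hy0
      have e : dotInt x y0 = ∑ i, x i + 4 * ∑ i, x i * z i := by
        rw [dotInt, Finset.mul_sum, ← Finset.sum_add_distrib]
        refine Finset.sum_congr rfl fun i _ => ?_
        rw [show y0 i = 1 + 4 * z i by have := hz i; linarith]; ring
      have h2 : (2 : ℤ) ∣ ∑ i, x i * z i :=
        Finset.dvd_sum fun i _ => dvd_mul_of_dvd_left (ex i) _
      omega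
  set C := codeOf N with hCdef
  have hempty : (∅ : Finset GolayPt) ∈ C := codeOf_empty N
  have huniv : Finset.univ ∈ C := by
    refine ⟨y0 + y0, add_mem hy0 hy0, fun i => ?_, ?_⟩
    · simp only [Pi.add_apply]; omega
    · ext i
      have := hz i
      simp [mem_pattern]; omega
  have hsd : ∀ c ∈ C, ∀ d ∈ C, symmDiff c d ∈ C := fun c hc d hd => codeOf_symmDiff hc hd
  have hcompl : ∀ c ∈ C, cᶜ ∈ C := fun c hc => by
    have := hsd c hc _ huniv
    have e : symmDiff c Finset.univ = cᶜ := by ext p; simp [Finset.mem_symmDiff]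
    rwa [e] at this
  have hw : ∀ c ∈ C, c.card ∈ [0, 8, 12, 16, 24] := by
    intro c hc
    have h1 := hN.codeOf_card hc
    have h2 := hN.codeOf_card (hcompl c hc)
    have h3 : c.card ≤ 24 := card_pt ▸ Finset.card_le_univ c
    have h4 : cᶜ.card = 24 - c.card := by rw [Finset.card_compl, card_pt]
    have h5 : c ≠ ∅ ↔ c.card ≠ 0 := by simp
    have h6 : cᶜ ≠ ∅ ↔ cᶜ.card ≠ 0 := by simp
    rw [h5] at h1
    rw [h6, h4] at h2
    simp only [List.mem_cons, List.not_mem_nil, or_false]
    omega
  have hmem : ∀ x, x ∈ N ↔ ∃ m : ℤ, ∃ c ∈ C, IsLVec m c x := by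
    intro x
    constructor
    · intro hx
      by_cases he : (2 : ℤ) ∣ x none
      · have ex : ∀ i, (2 : ℤ) ∣ x i := fun i => by have := hN.parity hx i; omega
        exact ⟨0, _, ⟨x, hx, ex, rfl⟩, heven x hx ex⟩
      · have hsub : x - y0 ∈ N := sub_mem hx hy0
        have ex : ∀ i, (2 : ℤ) ∣ (x - y0) i := fun i => by
          have := hN.parity hx i
          have := hz i
          simp only [Pi.sub_apply]; omega
        have := (heven _ hsub ex).add (hy0vec 1)
        rw [one_smul, sub_add_cancel] at this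
        exact ⟨_, _, hsd _ ⟨_, hsub, ex, rfl⟩ _ hempty, this⟩
    · rintro ⟨m, c, hc, hv⟩
      obtain ⟨y, hy, ey, rfl⟩ := hc
      have hd := hv.add ((heven y hy ey).add (hy0vec m)).neg
      set w := x + -(y + m • y0) with hw'
      have e1 : symmDiff (pattern y) (symmDiff (pattern y) ∅) = ∅ := by
        ext i; simp [Finset.mem_symmDiff]
      rw [e1, show m + -(0 + m) = (0 : ℤ) by ring] at hd
      have h4 : ∀ i, w i = 4 * (w i / 4) := fun i => by
        have := hd.1 i; simp [bit] at this; omega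
      have : w ∈ N := by
        rw [show w = fun i => 4 * (w i / 4) from funext h4]
        refine hN.four_mul_mem ?_
        have := hd.2
        rw [Finset.sum_congr rfl (fun i _ => h4 i), ← Finset.mul_sum] at this
        omega
      have := add_mem this (add_mem hy (zsmul_mem hy0 m))
      rwa [hw', neg_add_cancel_right] at this
  have hnorm : ∀ x ∈ N, ∃ m : ℤ, (m = 0 ∨ m = 1) ∧ ∃ c ∈ C, IsLVec m c x := by
    intro x hx
    obtain ⟨m, c, hc, h4, h8⟩ := (hmem x).1 hx
    refine ⟨m % 2, Int.emod_two_eq_zero_or_one m, ?_⟩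
    by_cases hm : (4 : ℤ) ∣ m - m % 2
    · refine ⟨c, hc, fun i => ?_, ?_⟩
      · have := h4 i; omega
      · omega
    · refine ⟨cᶜ, hcompl c hc, fun i => ?_, ?_⟩
      · have := h4 i
        have e : bit cᶜ i = 1 - bit c i := by by_cases hi : i ∈ c <;> simp [bit, hi]
        omega
      · omega
  let CF : Finset (Finset GolayPt) := Finset.univ.filter fun c => c ∈ C
  have hCF : ∀ c, c ∈ CF ↔ c ∈ C := fun c => by simp [CF]
  have hshell : {x | x ∈ N ∧ sqNorm x = 32} =
      (((({0, 1} : Finset ℤ) ×ˢ CF).biUnion fun p => cosetVecs p.1 p.2 32 : Finset _) : Set _) := by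
    ext x
    simp only [Set.mem_setOf_eq, Finset.mem_coe, Finset.mem_biUnion, Finset.mem_product,
      Finset.mem_insert, Finset.mem_singleton]
    constructor
    · rintro ⟨hx, hn⟩
      obtain ⟨m, hm, c, hc, hv⟩ := hnorm x hx
      exact ⟨(m, c), ⟨hm, (hCF c).2 hc⟩, (mem_cosetVecs hm (by norm_num)).2 ⟨hv, hn⟩⟩
    · rintro ⟨p, ⟨hp, hpC⟩, hx⟩
      obtain ⟨hv, hn⟩ := (mem_cosetVecs hp (by norm_num)).1 hx
      exact ⟨(hmem x).2 ⟨_, _, (hCF _).1 hpC, hv⟩, hn⟩
  have hdisj : ((({0, 1} : Finset ℤ) ×ˢ CF : Finset _) : Set (ℤ × Finset GolayPt)).PairwiseDisjoint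
      (fun p => cosetVecs p.1 p.2 32) := by
    intro p hp q hq hne
    simp only [Finset.mem_coe, Finset.mem_product, Finset.mem_insert, Finset.mem_singleton]
      at hp hq
    refine Finset.disjoint_left.2 fun x hx1 hx2 => hne ?_
    have := isLVec_unique hp.1 hq.1 ((mem_cosetVecs hp.1 (by norm_num)).1 hx1).1
      ((mem_cosetVecs hq.1 (by norm_num)).1 hx2).1
    exact Prod.ext this.1 this.2
  have hf32 : ∀ k ∈ [0, 8, 12, 16, 24], cosetCount 0 32 k + cosetCount 1 32 k =
      24 + (if k = 8 then 128 else 0) + (if k = 0 then 1104 else 0) := by decide +kernel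
  have hcount := hN.count
  rw [hshell, Set.ncard_coe_finset, Finset.card_biUnion hdisj, Finset.sum_product] at hcount
  simp only [card_cosetVecs, Finset.sum_insert (by decide : (0 : ℤ) ∉ ({1} : Finset ℤ)),
    Finset.sum_singleton, ← Finset.sum_add_distrib] at hcount
  rw [Finset.sum_congr rfl (fun c hc => hf32 _ (hw c ((hCF c).1 hc)))] at hcount
  simp only [Finset.sum_add_distrib, Finset.sum_ite, Finset.sum_const, Finset.sum_const_zero,
    add_zero, smul_eq_mul] at hcount
  have h0card : (CF.filter fun c => c.card = 0).card = 1 := by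
    rw [Finset.card_eq_one]
    refine ⟨∅, ?_⟩
    ext c
    simp only [Finset.mem_filter, hCF, Finset.card_eq_zero, Finset.mem_singleton]
    exact ⟨fun hh => hh.2, fun hh => ⟨hh ▸ hempty, hh⟩⟩
  have h8card := hN.octad_count (CF.filter fun c => c.card = 8) fun o ho => by
    rw [Finset.mem_filter, hCF] at ho; exact ho
  rw [h0card] at hcount
  have hn : C.ncard = CF.card := by
    rw [← Set.ncard_coe_finset]; congr 1; ext c; simp [hCF]
  have hdvd := card_dvd_of_closed hempty hsd
  obtain ⟨k, hk24, hk⟩ := (Nat.dvd_prime_pow Nat.prime_two).1 hdvd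
  have h4096 : C.ncard = 4096 := by
    have hk12 : k = 12 := by
      have h1 : 2 ^ 12 ≤ 2 ^ k := by omega
      have h2 : 2 ^ k < 2 ^ 13 := by omega
      have := (Nat.pow_le_pow_iff_right (le_refl 2)).1 h1
      have := (Nat.pow_lt_pow_iff_right (le_refl 2)).1 h2
      omega
    rw [hk, hk12]; rfl
  obtain ⟨σ, hσ⟩ := hu C hempty huniv hsd hw h4096
  refine ⟨σ, σ • s0, fun x => ?_⟩
  have e : signedPerm σ (σ • s0) x = signedPerm σ ∅ (f x) := by
    show signedPerm σ (σ • s0) x = signedPerm σ ∅ (signedPerm 1 s0 x)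
    rw [signedPerm_comp, mul_one]
    congr 1
    ext i; simp [Finset.mem_symmDiff]
  rw [e]
  have e2 : x ∈ M ↔ f x ∈ N := by show x ∈ M ↔ f (f x) ∈ M; rw [hff]
  rw [e2, hmem]
  constructor
  · rintro ⟨m, c, hc, hv⟩
    exact mem_lattice_iff.2 ⟨m, σ • c, hσ ▸ Set.smul_mem_smul_set hc, (isLVec_perm σ).2 hv⟩
  · intro hx
    obtain ⟨m, d, hd, hv⟩ := mem_lattice_iff.1 hx
    rw [← hσ] at hd
    obtain ⟨c, hc, rfl⟩ := hd
    exact ⟨m, c, hc, (isLVec_perm σ).1 hv⟩

end Cfsg.Agent.Leech
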