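import Cfsg.Agent.Lib.Leech.Facts
import Cfsg.Agent.Lib.Golay.Transitive

/-!
The lattice is generated by its minimal vectors.
-/
set_option autoImplicit false

namespace Cfsg.Agent.Leech

open Cfsg

theorem golayCode_le_of_octads {W : Submodule (ZMod 2) (GolayPt → ZMod 2)}
    (h : ∀ w : GolayPt → ZMod 2, support₂ w ∈ octads → w ∈ W) : golayCode ≤ W := by
  rw [Golay.golayCode_eq]
  rintro _ ⟨m, -, rfl⟩
  refine Golay.toWord_combAux_mem _ _ _ fun b hb => ?_
  rw [Golay.octBasis_facts.1, List.mem_map] at hb
  obtain ⟨k, -, rfl⟩ := hb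
  refine Golay.toWord_combAux_mem _ _ _ fun o ho => h _ ?_
  have ho' := List.all_eq_true.1 Golay.octBasis_facts.2 o ho
  simp only [Bool.and_eq_true, beq_iff_eq] at ho'
  exact Golay.octad_mem_iff.2 ⟨o, ho'.1, ho'.2, (Golay.support₂_toWord o).symm⟩

theorem closure_min_eq :
    AddSubgroup.closure {x : GolayPt → ℤ | x ∈ leechLattice ∧ sqNorm x = 32} = leechLattice := by
  classical
  set G := AddSubgroup.closure {x : GolayPt → ℤ | x ∈ leechLattice ∧ sqNorm x = 32} with hG
  have hle : G ≤ leechLattice := (AddSubgroup.closure_le _).2 fun x hx => hx.1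
  have hmin : ∀ {x : GolayPt → ℤ}, x ∈ leechLattice → sqNorm x = 32 → x ∈ G :=
    fun h1 h2 => AddSubgroup.subset_closure ⟨h1, h2⟩
  refine le_antisymm hle ?_
  have hpair : ∀ i j : GolayPt, i ≠ j → ∀ a : ℤ, (a = 4 ∨ a = -4) →
      (Pi.single i 4 + Pi.single j a : GolayPt → ℤ) ∈ G := by
    intro i j hij a ha
    refine hmin (mem_lattice_iff.2 ⟨0, ∅, empty_mem_code, fun k => ?_, ?_⟩) ?_
    · simp only [bit, Pi.add_apply, Pi.single_apply, Finset.notMem_empty, if_false]
      rcases ha with rfl | rfl <;> split_ifs <;> norm_num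
    · simp only [Pi.add_apply, Finset.sum_add_distrib, Finset.sum_pi_single', Finset.mem_univ,
        if_true]
      rcases ha with rfl | rfl <;> norm_num
    · have e : ∀ k, (Pi.single i (4 : ℤ) + Pi.single j a : GolayPt → ℤ) k ^ 2 =
          (if k = i then 16 else 0) + (if k = j then 16 else 0) := fun k => by
        simp only [Pi.add_apply, Pi.single_apply]
        rcases ha with rfl | rfl <;> split_ifs <;> simp_all
      simp only [sqNorm, e, Finset.sum_add_distrib, Finset.sum_ite_eq', Finset.mem_univ, if_true]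
      norm_num
  have h8 : (Pi.single none 8 : GolayPt → ℤ) ∈ G := by
    obtain ⟨j, hj⟩ := exists_ne (none : GolayPt)
    have := add_mem (hpair none j hj.symm 4 (Or.inl rfl)) (hpair none j hj.symm (-4) (Or.inr rfl))
    convert this using 1
    funext k
    simp [Pi.single_apply]
    split_ifs <;> norm_num
  have h4 : ∀ x : GolayPt → ℤ, IsLVec 0 ∅ x → x ∈ G := by
    intro x hx
    obtain ⟨y, hy, hp⟩ := hx.param empty_mem_code
    obtain ⟨k, hk⟩ := hp
    have e : x = ∑ i, y i • (Pi.single i 4 - Pi.single none 4 : GolayPt → ℤ) + k • Pi.single none 8 := by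
      funext j
      have h := hy j
      simp only [bit, Finset.notMem_empty, if_false] at h
      simp only [Pi.add_apply, Finset.sum_apply, Pi.smul_apply, Pi.sub_apply, smul_eq_mul,
        Pi.single_apply, mul_sub, Finset.sum_sub_distrib, mul_ite, mul_zero, Finset.sum_ite_eq,
        Finset.mem_univ, if_true]
      by_cases hj : j = none
      · simp only [hj, if_true, ← Finset.sum_mul] at h ⊢
        linarith
      · simp [hj]; linarith
    rw [e]
    refine add_mem (sum_mem fun i _ => zsmul_mem ?_ _) (zsmul_mem h8 _)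
    rcases eq_or_ne i none with rfl | hi
    · simp
    · have := hpair i none hi (-4) (Or.inr rfl)
      rwa [Pi.single_neg, ← sub_eq_add_neg] at this
  let H : Set (Finset GolayPt) := {c | c ∈ code ∧ ∃ g ∈ G, IsLVec 0 c g}
  let W : Submodule (ZMod 2) (GolayPt → ZMod 2) :=
    { carrier := {w | support₂ w ∈ H}
      zero_mem' := by
        show support₂ 0 ∈ H
        have : support₂ (0 : GolayPt → ZMod 2) = ∅ := by ext; simp [support₂]
        rw [this]; exact ⟨empty_mem_code, 0, zero_mem _, isLVec_zero⟩
      add_mem' := fun {u v} hu hv => by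
        show support₂ (u + v) ∈ H
        have : support₂ (u + v) = symmDiff (support₂ u) (support₂ v) := by
          ext p
          rcases zmod2_cases (u p) with a | a <;> rcases zmod2_cases (v p) with b | b <;>
            simp [support₂, Finset.mem_symmDiff, a, b] <;> decide
        rw [this]
        obtain ⟨hc, g, hg, h⟩ := hu
        obtain ⟨hd, g', hg', h'⟩ := hv
        exact ⟨symmDiff_mem_code hc hd, g + g', add_mem hg hg', by simpa using h.add h'⟩
      smul_mem' := fun r u hu => by
        show support₂ (r • u) ∈ H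
        rcases zmod2_cases r with rfl | rfl
        · have : support₂ ((0 : ZMod 2) • u) = ∅ := by ext; simp [support₂]
          rw [this]; exact ⟨empty_mem_code, 0, zero_mem _, isLVec_zero⟩
        · rw [one_smul]; exact hu }
  have hW : golayCode ≤ W := golayCode_le_of_octads fun w hw => by
    refine ⟨hw.1, fun i => 2 * bit (support₂ w) i, hmin ?_ ?_, fun i => by simp, ?_⟩
    · refine mem_lattice_iff.2 ⟨0, _, hw.1, fun i => by simp, ?_⟩
      simp only [← Finset.mul_sum, sum_bit, hw.2]
      norm_num
    · have e : ∀ i, (2 * bit (support₂ w) i) ^ 2 = 4 * bit (support₂ w) i := fun i => by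
        linear_combination 4 * bit_sq (support₂ w) i
      simp only [sqNorm, e, ← Finset.mul_sum, sum_bit, hw.2]
      norm_num
    · simp only [← Finset.mul_sum, sum_bit, hw.2]
      norm_num
  let x0 : GolayPt → ℤ := fun i => if i = none then -3 else 1
  have hx0 : IsLVec 1 ∅ x0 := ⟨fun i => by simp only [x0, bit]; split_ifs <;> simp_all, by decide⟩
  have hx0G : x0 ∈ G := hmin (mem_lattice_iff.2 ⟨1, ∅, empty_mem_code, hx0⟩) (by decide)
  intro x hx
  obtain ⟨m, hm, c, hc, hv⟩ := exists_normal_form hx
  obtain ⟨w, hw, rfl⟩ := hc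
  obtain ⟨-, g, hg, hgv⟩ := hW hw
  have key : ∀ z, IsLVec 0 (support₂ w) z → z ∈ G := by
    intro z hz
    have h := hz.add hgv.neg
    rw [symmDiff_self, neg_zero, add_zero] at h
    have := add_mem (h4 _ h) hg
    rwa [neg_add_cancel_right] at this
  rcases hm with rfl | rfl
  · exact key x hv
  · have h := hv.add hx0.neg
    have e : symmDiff (support₂ w) ∅ = support₂ w := by ext i; simp [Finset.mem_symmDiff]
    rw [e, add_neg_cancel] at h
    have := add_mem (key _ h) hx0G
    rwa [neg_add_cancel_right] at this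

end Cfsg.Agent.Leech
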