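import Cfsg.Agent.Lib.Golay.Transitive

/-!
Intersections of octads with a dodecad.
-/
set_option autoImplicit false

namespace Cfsg.Agent.Leech

open Cfsg Cfsg.Agent.Golay
open scoped Pointwise

theorem ncard_octads_meeting (d c : ℕ) (k : ℕ)
    (h : (((List.range 4096).map comb).filter fun n => popc n == 8 && popc (n &&& d) == k).length = c) :
    {o : Finset GolayPt | o ∈ octads ∧ (o ∩ toSet d).card = k}.ncard = c := by
  set L := ((List.range 4096).map comb).filter fun n => popc n == 8 && popc (n &&& d) == k with hL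
  have hlt : ∀ n ∈ L, n < 2 ^ 24 := by
    intro n hn
    obtain ⟨m, hm, rfl⟩ := List.mem_map.1 (List.mem_filter.1 hn).1
    exact comb_lt (List.mem_range.1 hm)
  have hnd : L.Nodup := by
    refine (List.Nodup.map_on ?_ List.nodup_range).filter _
    intro a ha b hb hab
    rw [← comb_mod (List.mem_range.1 ha), hab, comb_mod (List.mem_range.1 hb)]
  have e : {o : Finset GolayPt | o ∈ octads ∧ (o ∩ toSet d).card = k} =
      (L.toFinset.image toSet : Finset (Finset GolayPt)) := by
    ext s
    simp only [Set.mem_setOf_eq, octad_mem_iff, Finset.coe_image, Set.mem_image, Finset.mem_coe,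
      List.mem_toFinset]
    constructor
    · rintro ⟨⟨n, hn, hk, rfl⟩, hd⟩
      rw [toSet_inter, card_toSet] at hd
      refine ⟨n, List.mem_filter.2 ⟨List.mem_map.2 ⟨n % 4096, ?_, beq_iff_eq.1 hn⟩, ?_⟩, rfl⟩
      · exact List.mem_range.2 (Nat.mod_lt _ (by norm_num))
      · simp [hk, hd]
    · rintro ⟨n, hn, rfl⟩
      obtain ⟨hn1, hn2⟩ := List.mem_filter.1 hn
      obtain ⟨m, hm, rfl⟩ := List.mem_map.1 hn1
      simp only [Bool.and_eq_true, beq_iff_eq] at hn2
      exact ⟨⟨_, inCode_comb (List.mem_range.1 hm), hn2.1, rfl⟩, by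
        rw [toSet_inter, card_toSet, hn2.2]⟩
  rw [e, Set.ncard_coe_finset, Finset.card_image_of_injOn, List.toFinset_card_of_nodup hnd, h]
  intro a ha b hb hab
  exact toSet_injOn (hlt a (by simpa using ha)) (hlt b (by simpa using hb)) hab

set_option maxRecDepth 40000 in
theorem count_base :
    (((List.range 4096).map comb).filter fun n => popc n == 8 && popc (n &&& dodecad0) == 6).length = 132 ∧
    (((List.range 4096).map comb).filter fun n => popc n == 8 && popc (n &&& dodecad0) == 2).length = 132 ∧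
    (((List.range 4096).map comb).filter fun n => popc n == 8 && popc (n &&& dodecad0) == 4).length = 495 := by
  decide +kernel

theorem octads_meeting_dodecad {d : Finset GolayPt} (hd : d ∈ dodecads) :
    {o : Finset GolayPt | o ∈ octads ∧ (o ∩ d).card = 6}.ncard = 132 ∧
    {o : Finset GolayPt | o ∈ octads ∧ (o ∩ d).card = 2}.ncard = 132 ∧
    {o : Finset GolayPt | o ∈ octads ∧ (o ∩ d).card = 4}.ncard = 495 := by
  obtain ⟨g, hg, rfl⟩ := dodecad_orbit hd
  have key : ∀ k, {o : Finset GolayPt | o ∈ octads ∧ (o ∩ g • toSet dodecad0).card = k}.ncard =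
      {o : Finset GolayPt | o ∈ octads ∧ (o ∩ toSet dodecad0).card = k}.ncard := by
    intro k
    rw [← Set.ncard_image_of_injective {o : Finset GolayPt | o ∈ octads ∧ (o ∩ toSet dodecad0).card = k}
      (MulAction.injective g)]
    congr 1
    ext o
    simp only [Set.mem_image, Set.mem_setOf_eq]
    constructor
    · rintro ⟨ho, hk⟩
      refine ⟨g⁻¹ • o, ⟨smul_mem_octads (inv_mem hg) ho, ?_⟩, smul_inv_smul g o⟩
      rw [← smul_inv_smul g o, ← Finset.smul_finset_inter, Finset.card_smul_finset] at hk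
      exact hk
    · rintro ⟨p, ⟨hp, hk⟩, rfl⟩
      exact ⟨smul_mem_octads hg hp, by rw [← Finset.smul_finset_inter, Finset.card_smul_finset, hk]⟩
  rw [key, key, key]
  exact ⟨ncard_octads_meeting _ _ _ count_base.1, ncard_octads_meeting _ _ _ count_base.2.1,
    ncard_octads_meeting _ _ _ count_base.2.2⟩

theorem hexad_steiner {d : Finset GolayPt} (hd : d ∈ dodecads) :
    IsSteinerSystem 5 6 {h : Finset {p : GolayPt // p ∈ d} |
      ∃ o ∈ octads, (o ∩ d).card = 6 ∧ h = Finset.subtype (fun p => p ∈ d) o} := by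
  classical
  have hcard : ∀ o : Finset GolayPt, (Finset.subtype (fun p => p ∈ d) o).card = (o ∩ d).card := by
    intro o
    rw [Finset.card_subtype]
    congr 1
  refine ⟨?_, fun s hs => ?_⟩
  · rintro _ ⟨o, -, hk, rfl⟩
    rw [hcard, hk]
  · set s' := s.map (Function.Embedding.subtype _) with hs'
    have h5 : s'.card = 5 := by rw [hs', Finset.card_map, hs]
    obtain ⟨o, ho, hso⟩ := exists_octad h5
    have hsd : s' ⊆ d := fun p hp => by
      obtain ⟨q, -, rfl⟩ := Finset.mem_map.1 hp
      exact q.2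
    have h6 : (o ∩ d).card = 6 := by
      obtain ⟨⟨v, hv, hvo⟩, hvc⟩ := id ho
      obtain ⟨⟨w, hw, hwd⟩, hwc⟩ := id hd
      have hge : 5 ≤ (o ∩ d).card := h5 ▸ Finset.card_le_card (Finset.subset_inter hso hsd)
      have hle : (o ∩ d).card ≤ 8 := hvc ▸ Finset.card_le_card Finset.inter_subset_left
      have he := golayCode_inter_even hv hw
      rw [hvo, hwd] at he
      have hsum := support₂_add v w
      have hwt := golayCode_weights _ (golayCode.add_mem hv hw)
      rw [hammingNorm_eq] at hwt
      rw [hvo, hwd, hvc, hwc] at hsum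
      omega
    refine ⟨Finset.subtype (fun p => p ∈ d) o, ⟨⟨o, ho, h6, rfl⟩, fun q hq => ?_⟩, ?_⟩
    · exact Finset.mem_subtype.2 (hso (Finset.mem_map_of_mem _ hq))
    · rintro h ⟨⟨o', ho', -, rfl⟩, hsub⟩
      have : o' = o := octad_unique ho' ho h5.ge (fun p hp => by
        obtain ⟨q, hq, rfl⟩ := Finset.mem_map.1 hp
        exact Finset.mem_subtype.1 (hsub hq)) hso
      rw [this]

end Cfsg.Agent.Leech
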