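import Cfsg.Agent.Lib.Leech.Center
import Cfsg.Agent.Lib.Leech.Orbits
import Cfsg.Agent.Lib.Leech.CodeUnique
import Cfsg.Agent.Lib.Leech.Transitive

/-!
The lattice modulo twice itself: the invariant quadratic form, a maximal singular subspace;
the negation is not split.
-/
set_option autoImplicit false

namespace Cfsg.Agent.Leech

open Cfsg
open scoped Pointwise

theorem four_mem (i j : GolayPt) (h : i ≠ j) (a b : ℤ) (ha : a = 4 ∨ a = -4) (hb : b = 4 ∨ b = -4) :
    four i j a b ∈ leechLattice := (four_spec h ha hb).1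

theorem quad_unique (Q : leechLattice → ZMod 2) (hcoset : ∀ v w : leechLattice, Q (v + (w + w)) = Q v)
    (hquad : ∀ u v w : leechLattice,
      Q (u + v + w) + Q u + Q v + Q w = Q (u + v) + Q (u + w) + Q (v + w))
    (hinv : ∀ (g : Co0) (v : leechLattice), Q (g • v) = Q v) (hne : ∃ v, Q v ≠ 0)
    (v : leechLattice) : Q v = ((sqNorm (v : GolayPt → ℤ) / 16 : ℤ) : ZMod 2) := by
  have two : ∀ a b : ZMod 2, a + b = 0 → a = b := by decide
  have h0 : Q 0 = 0 := by
    have h := hquad 0 0 0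
    simp only [add_zero] at h
    have : ∀ a : ZMod 2, a + a + a + a = a + a + a → a = 0 := by decide
    exact this _ h
  have hneg : ∀ x : leechLattice, Q (-x) = Q x := fun x => by
    have := hcoset (-x) x
    rw [← this]; congr 1; abel
  let a := Q std32
  let b := Q std48
  let c := Q (frame none)
  have h32 : ∀ x : leechLattice, sqNorm (x : GolayPt → ℤ) = 32 → Q x = a := fun x hx => by
    obtain ⟨g, hg⟩ := transitive_32 codeUnique sqNorm_std32 hx
    rw [← hg, hinv]
  have h48 : ∀ x : leechLattice, sqNorm (x : GolayPt → ℤ) = 48 → Q x = b := fun x hx => by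
    obtain ⟨g, hg⟩ := transitive_48 codeUnique sqNorm_std48 hx
    rw [← hg, hinv]
  have h64 : ∀ x : leechLattice, sqNorm (x : GolayPt → ℤ) = 64 → Q x = c := fun x hx => by
    obtain ⟨g, hg⟩ := transitive_64 codeUnique (sqNorm_frame none) hx
    rw [← hg, hinv]
  let p : GolayPt := none
  let A : leechLattice := std48 - frame none
  let v1 : leechLattice := ⟨four none (some 0) 4 4, four_mem _ _ (by simp) _ _ (Or.inl rfl) (Or.inl rfl)⟩
  let v2 : leechLattice := ⟨four none (some 1) (-4) 4, four_mem _ _ (by simp) _ _ (Or.inr rfl) (Or.inl rfl)⟩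
  let u : leechLattice := ⟨four (some 0) (some 2) 4 4, four_mem _ _ (by decide) _ _ (Or.inl rfl) (Or.inl rfl)⟩
  have n1 : sqNorm (four none (some (0 : ZMod 23)) 4 4) = 32 ∧ sqNorm (four none (some (1 : ZMod 23)) (-4) 4) = 32 ∧
      sqNorm (four none (some (0 : ZMod 23)) 4 4 + four none (some 1) (-4) 4) = 32 := by
    unfold four; refine ⟨?_, ?_, ?_⟩ <;> decide +kernel
  have nA : let fA : GolayPt → ℤ := fun i => if i = none then -3 else 1
      sqNorm fA = 32 ∧ sqNorm (fA + four none (some (0 : ZMod 23)) 4 4) = 48 ∧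
      sqNorm (fA - four none (some (1 : ZMod 23)) (-4) 4) = 32 ∧
      sqNorm (fA - (four none (some (0 : ZMod 23)) 4 4 + four none (some 1) (-4) 4)) = 48 := by
    unfold four; refine ⟨?_, ?_, ?_, ?_⟩ <;> decide +kernel
  have nu : sqNorm (four (some (0 : ZMod 23)) (some 2) 4 4) = 32 ∧
      sqNorm (four (some (0 : ZMod 23)) (some 2) 4 4 - four none (some (0 : ZMod 23)) 4 4) = 32 ∧
      sqNorm (four (some (0 : ZMod 23)) (some 2) 4 4 + four none (some (1 : ZMod 23)) (-4) 4) = 64 ∧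
      sqNorm (four (some (0 : ZMod 23)) (some 2) 4 4 -
        (four none (some (0 : ZMod 23)) 4 4 + four none (some 1) (-4) 4)) = 32 := by
    unfold four; refine ⟨?_, ?_, ?_, ?_⟩ <;> decide +kernel
  have hA : (A : GolayPt → ℤ) = fun i => if i = none then -3 else 1 := by
    funext i
    show (std48 : GolayPt → ℤ) i - (frame none : GolayPt → ℤ) i = _
    rw [coe_std48]
    rcases eq_or_ne i none with h | h
    · subst h; simp [frame]
    · simp [frame, h]
  have hminus : ∀ x y : leechLattice, Q (x + y) = Q (x - y) := fun x y => by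
    rw [show x + y = x - y + (y + y) by abel, hcoset]
  have rel : ∀ x : leechLattice, Q (x + v1 + v2) + Q x + Q v1 + Q v2 =
      Q (x + v1) + Q (x + v2) + Q (v1 + v2) := fun x => hquad x v1 v2
  have e12 : Q (v1 + v2) = a := h32 _ (by simpa using n1.2.2)
  have hab : a = 0 := by
    have h := rel A
    rw [h32 v1 n1.1, h32 v2 n1.2.1, e12, h32 A (by rw [hA]; exact nA.1), add_assoc A v1 v2,
      hminus A (v1 + v2), hminus A v2, h48 (A - (v1 + v2)) (by simp only [AddSubgroup.coe_sub, AddSubgroup.coe_add, hA]; exact nA.2.2.2),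
      h48 (A + v1) (by simp only [AddSubgroup.coe_add, hA]; exact nA.2.1),
      h32 (A - v2) (by simp only [AddSubgroup.coe_sub, hA]; exact nA.2.2.1)] at h
    have : ∀ a b : ZMod 2, b + a + a + a = b + a + a → a = 0 := by decide
    exact this _ _ h
  have hc : c = 0 := by
    have h := rel u
    rw [h32 v1 n1.1, h32 v2 n1.2.1, e12, h32 u nu.1, add_assoc u v1 v2, hminus u (v1 + v2),
      hminus u v1, h32 (u - (v1 + v2)) nu.2.2.2, h32 (u - v1) nu.2.1, h64 (u + v2) nu.2.2.1, hab] at h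
    simp at h
    exact h.symm
  have hall : ∀ x : leechLattice, ∃ y : leechLattice, Q x = Q y ∧
      (∃ z : leechLattice, (x : GolayPt → ℤ) = (y : GolayPt → ℤ) + 2 • (z : GolayPt → ℤ)) ∧
      (sqNorm (y : GolayPt → ℤ) = 0 ∨ sqNorm (y : GolayPt → ℤ) = 32 ∨ sqNorm (y : GolayPt → ℤ) = 48 ∨
        sqNorm (y : GolayPt → ℤ) = 64) := fun x => by
    obtain ⟨y, hy, hyn, z, hz, e⟩ := exists_short_rep x.2
    have e' : (x : GolayPt → ℤ) = y + 2 • z := by rw [← e]; abel
    refine ⟨⟨y, hy⟩, ?_, ⟨⟨z, hz⟩, e'⟩, ?_⟩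
    · rw [show x = ⟨y, hy⟩ + (⟨z, hz⟩ + ⟨z, hz⟩) from Subtype.ext (by
        rw [e', two_nsmul]; rfl), hcoset]
    · show sqNorm y = 0 ∨ _
      obtain ⟨t, ht⟩ := sixteen_dvd_sqNorm hy
      have h1 := sqNorm_nonneg y
      rcases eq_or_ne y 0 with rfl | hne'
      · left; simp [sqNorm]
      · have h2 := noRoots y hy hne'
        right
        have : t = 2 ∨ t = 3 ∨ t = 4 := by omega
        show sqNorm y = 32 ∨ sqNorm y = 48 ∨ sqNorm y = 64
        omega
  have hval : ∀ y : leechLattice, (sqNorm (y : GolayPt → ℤ) = 0 ∨ sqNorm (y : GolayPt → ℤ) = 32 ∨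
      sqNorm (y : GolayPt → ℤ) = 48 ∨ sqNorm (y : GolayPt → ℤ) = 64) →
      Q y = if sqNorm (y : GolayPt → ℤ) = 48 then b else 0 := fun y hy => by
    rcases hy with h | h | h | h
    · rw [show y = 0 from Subtype.ext (sqNorm_eq_zero.1 h), h0]; simp [sqNorm]
    · rw [h32 y h, hab, h]; simp
    · rw [h48 y h, h]; simp
    · rw [h64 y h, hc, h]; simp
  have hb : b = 1 := by
    obtain ⟨w, hw⟩ := hne
    obtain ⟨y, hy, -, hn⟩ := hall w
    have : ∀ t : ZMod 2, t ≠ 0 → t = 1 := by decide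
    refine this b fun hb => hw ?_
    rw [hy, hval y hn, hb]; simp
  obtain ⟨y, hy, ⟨z, e⟩, hn⟩ := hall v
  rw [hy, hval y hn, hb]
  have e2 : sqNorm (v : GolayPt → ℤ) = sqNorm (y : GolayPt → ℤ) + 4 * dotInt (y : GolayPt → ℤ) z +
      4 * sqNorm (z : GolayPt → ℤ) := by
    rw [e, sqNorm_add, sqNorm_two_nsmul]
    congr 1
    congr 1
    simp only [dotInt, Finset.mul_sum, Pi.smul_apply, nsmul_eq_mul, Nat.cast_ofNat]
    exact Finset.sum_congr rfl fun i _ => by ring
  obtain ⟨d, hd⟩ := eight_dvd_dotInt y.2 z.2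
  obtain ⟨f, hf⟩ := sixteen_dvd_sqNorm z.2
  rw [e2, hd, hf]
  have e3 : ∀ n : ℤ, ((16 * n + 4 * (8 * d) + 4 * (16 * f)) / 16 : ℤ) = n + 2 * d + 4 * f := fun n => by omega
  have two0 : ((2 : ℤ) : ZMod 2) = 0 := rfl
  have four0 : ((4 : ℤ) : ZMod 2) = 0 := rfl
  rcases hn with h | h | h | h <;> rw [h]
  · rw [show (0 : ℤ) = 16 * 0 by rfl, e3, Int.cast_add, Int.cast_add, Int.cast_mul, Int.cast_mul, two0, four0]; simp
  · rw [show (32 : ℤ) = 16 * 2 by rfl, e3, Int.cast_add, Int.cast_add, Int.cast_mul, Int.cast_mul, two0, four0]; simp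
  · rw [show (48 : ℤ) = 16 * 3 by rfl, e3, Int.cast_add, Int.cast_add, Int.cast_mul, Int.cast_mul, two0, four0]; simp; decide
  · rw [show (64 : ℤ) = 16 * 4 by rfl, e3, Int.cast_add, Int.cast_add, Int.cast_mul, Int.cast_mul, two0, four0]; simp

/-- Parity of the extra coordinate and differences modulo 4. -/
def evenMap : leechLattice →+ ZMod 2 × (GolayPt → ZMod 4) where
  toFun x := (((x : GolayPt → ℤ) none : ZMod 2),
    fun i => (((x : GolayPt → ℤ) i - (x : GolayPt → ℤ) none : ℤ) : ZMod 4))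
  map_zero' := by ext <;> simp
  map_add' x y := by ext <;> simp <;> ring

theorem ker_evenMap {x : leechLattice} : x ∈ evenMap.ker ↔
    (2 : ℤ) ∣ (x : GolayPt → ℤ) none ∧ ∀ i, (4 : ℤ) ∣ (x : GolayPt → ℤ) i - (x : GolayPt → ℤ) none := by
  show evenMap x = 0 ↔ _
  constructor
  · intro h
    exact ⟨(ZMod.intCast_zmod_eq_zero_iff_dvd _ 2).1 (congrArg Prod.fst h),
      fun i => (ZMod.intCast_zmod_eq_zero_iff_dvd _ 4).1 (congrFun (congrArg Prod.snd h) i)⟩
  · rintro ⟨h1, h2⟩
    exact Prod.ext ((ZMod.intCast_zmod_eq_zero_iff_dvd _ 2).2 h1)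
      (funext fun i => (ZMod.intCast_zmod_eq_zero_iff_dvd _ 4).2 (h2 i))

theorem range_evenMap : Nat.card evenMap.range = 4096 := by
  classical
  let val : ℤ × Finset GolayPt → ZMod 2 × (GolayPt → ZMod 4) := fun p =>
    ((p.1 : ZMod 2), fun i => ((2 * bit p.2 i : ℤ) : ZMod 4))
  have hS : (evenMap.range : Set (ZMod 2 × (GolayPt → ZMod 4))) =
      val '' (({0, 1} : Set ℤ) ×ˢ {c | c ∈ code ∧ none ∉ c}) := by
    ext y
    constructor
    · rintro ⟨x, rfl⟩
      obtain ⟨m, hm, c, hc, h4, -⟩ := exists_normal_form x.2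
      refine ⟨(m, if none ∈ c then cᶜ else c), ⟨by simpa using hm, ?_⟩, ?_⟩
      · split_ifs with h
        · exact ⟨compl_mem_code hc, by simp [h]⟩
        · exact ⟨hc, h⟩
      · refine Prod.ext ?_ (funext fun i => ?_)
        · refine (ZMod.intCast_eq_intCast_iff_dvd_sub _ _ 2).2 ?_
          have h := h4 none
          simp only [bit] at h ⊢
          show (2 : ℤ) ∣ (x : GolayPt → ℤ) none - m
          split_ifs at h <;> omega
        · refine (ZMod.intCast_eq_intCast_iff_dvd_sub _ _ 4).2 ?_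
          have h := h4 i
          have h' := h4 none
          by_cases hn : none ∈ c <;> by_cases hi : i ∈ c <;> simp [bit, hn, hi] at h h' ⊢ <;> omega
    · rintro ⟨⟨m, c⟩, ⟨hm, hc, hn⟩, rfl⟩
      have hm' : m = 0 ∨ m = 1 := by simpa using hm
      refine ⟨⟨fun i => m + 2 * bit c i + 4 * (if i = none then
        (if (8 : ℤ) ∣ 20 * m + 2 * (c.card : ℤ) then 0 else 1) else 0),
        mem_lattice_iff.2 ⟨m, c, hc, fun i => by dsimp only; split_ifs <;> omega, ?_⟩⟩, ?_⟩
      · dsimp only at hc hn ⊢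
        simp only [Finset.sum_add_distrib, ← Finset.mul_sum, sum_bit, Finset.sum_const,
          Finset.card_univ, card_pt, Finset.sum_ite_eq', Finset.mem_univ, if_true, nsmul_eq_mul]
        have := four_dvd_card hc
        push_cast
        rcases hm' with rfl | rfl <;> split_ifs <;> omega
      · refine Prod.ext ?_ (funext fun i => ?_)
        · refine ((ZMod.intCast_eq_intCast_iff_dvd_sub _ _ 2).2 ?_).symm
          simp only [bit, hn, if_false, if_true]
          split_ifs <;> omega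
        · refine ((ZMod.intCast_eq_intCast_iff_dvd_sub _ _ 4).2 ?_).symm
          simp only [bit, hn, if_false, if_true]
          split_ifs <;> omega
  rw [show Nat.card evenMap.range = (evenMap.range : Set (ZMod 2 × (GolayPt → ZMod 4))).ncard from
    Nat.card_coe_set_eq _, hS, Set.InjOn.ncard_image, Set.ncard_prod, card_code_notMem,
    Set.ncard_pair (by norm_num : (0 : ℤ) ≠ 1)]
  rintro ⟨m, c⟩ ⟨hm, -, -⟩ ⟨n, d⟩ ⟨hn, -, -⟩ e
  have hm' : m = 0 ∨ m = 1 := by simpa using hm
  have hn' : n = 0 ∨ n = 1 := by simpa using hn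
  have e1 := congrArg Prod.fst e
  have e2 := congrArg Prod.snd e
  refine Prod.ext ?_ (Finset.ext fun i => ?_)
  · have := (ZMod.intCast_eq_intCast_iff_dvd_sub _ _ 2).1 e1
    simp only [] at this ⊢
    omega
  · have := (ZMod.intCast_eq_intCast_iff_dvd_sub _ _ 4).1 (congrFun e2 i)
    simp only [] at this ⊢
    by_cases a : i ∈ c <;> by_cases b : i ∈ d <;> simp [bit, a, b] at this ⊢ <;> omega

theorem exists_singular : ∃ A : AddSubgroup (GolayPt → ℤ), A ≤ leechLattice ∧
    (∀ v ∈ leechLattice, (2 : ℤ) • v ∈ A) ∧ (A.addSubgroupOf leechLattice).index = 2 ^ 12 ∧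
    ∀ v ∈ A, (32 : ℤ) ∣ sqNorm v := by
  refine ⟨evenMap.ker.map leechLattice.subtype, AddSubgroup.map_subtype_le _, ?_, ?_, ?_⟩
  · intro v hv
    refine ⟨(2 : ℤ) • ⟨v, hv⟩, ker_evenMap.2 ⟨by simp, fun i => ?_⟩, by simp⟩
    obtain ⟨m, hm, c, hc, h4, -⟩ := exists_normal_form hv
    have h := h4 i
    have h' := h4 none
    simp only [bit] at h h'
    simp only [AddSubgroup.coe_zsmul, Pi.smul_apply, smul_eq_mul]
    split_ifs at h h' <;> omega
  · rw [AddSubgroup.addSubgroupOf, AddSubgroup.comap_map_eq_self_of_injective leechLattice.subtype_injective,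
      AddSubgroup.index_ker, range_evenMap]
    norm_num
  · rintro _ ⟨x, hx, rfl⟩
    obtain ⟨h2, h4⟩ := ker_evenMap.1 hx
    obtain ⟨m, hm, c, hc, hp, h8⟩ := exists_normal_form x.2
    have hm0 : m = 0 := by
      have := hp none
      simp only [bit] at this
      split_ifs at this <;> omega
    have hsum : (8 : ℤ) ∣ ∑ i, (x : GolayPt → ℤ) i := by
      subst hm0; simpa using h8
    -- every coordinate is `x none + 4 k`
    have hk : ∀ i, (x : GolayPt → ℤ) i = (x : GolayPt → ℤ) none +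
        4 * (((x : GolayPt → ℤ) i - (x : GolayPt → ℤ) none) / 4) := fun i => by
      have := Int.mul_ediv_cancel' (h4 i); omega
    obtain ⟨t, ht⟩ := h2
    set k : GolayPt → ℤ := fun i => ((x : GolayPt → ℤ) i - (x : GolayPt → ℤ) none) / 4
    have hk' : ∀ i, (x : GolayPt → ℤ) i = 2 * t + 4 * k i := fun i => (hk i).trans (by simp only [k, ht])
    show (32 : ℤ) ∣ ∑ i, (x : GolayPt → ℤ) i ^ 2
    have e : ∑ i, (x : GolayPt → ℤ) i ^ 2 = 96 * t ^ 2 + 16 * t * ∑ i, k i + 16 * ∑ i, k i ^ 2 := by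
      rw [Finset.sum_congr rfl (fun i _ => show (x : GolayPt → ℤ) i ^ 2 =
        4 * t ^ 2 + 16 * t * k i + 16 * k i ^ 2 by rw [hk' i]; ring)]
      simp only [Finset.sum_add_distrib, ← Finset.mul_sum, Finset.sum_const, Finset.card_univ,
        card_pt, nsmul_eq_mul]
      push_cast
      ring
    have e' : ∑ i, (x : GolayPt → ℤ) i = 48 * t + 4 * ∑ i, k i := by
      rw [Finset.sum_congr rfl (fun i _ => show (x : GolayPt → ℤ) i = 2 * t + 4 * k i from hk' i)]
      simp only [Finset.sum_add_distrib, ← Finset.mul_sum, Finset.sum_const, Finset.card_univ,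
        card_pt, nsmul_eq_mul]
      push_cast
      ring
    have hk2 : (2 : ℤ) ∣ ∑ i, k i := by omega
    have hpar : (2 : ℤ) ∣ ∑ i, (k i ^ 2 - k i) := Finset.dvd_sum fun i _ => by
      rw [show k i ^ 2 - k i = (k i - 1) * k i by ring]
      exact (Int.even_mul_pred_self (k i)).two_dvd.trans (dvd_of_eq (mul_comm _ _))
    rw [Finset.sum_sub_distrib] at hpar
    rw [e]
    obtain ⟨a, ha⟩ := hk2
    obtain ⟨b, hb⟩ := hpar
    exact ⟨3 * t ^ 2 + t * a + (a + b), by rw [show ∑ i, k i ^ 2 = 2 * a + 2 * b by linarith, ha]; ring⟩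

theorem mono_mul_code (σ : M24) {c : Finset GolayPt} (hc : c ∈ code) {d : Finset GolayPt}
    (hd : d ∈ code) (h : σ.1 • c = d) :
    mono σ empty_mem_code * mono 1 hc = mono 1 hd * mono σ empty_mem_code := by
  refine ext_frame fun i => Subtype.ext ?_
  rw [mul_smul, mul_smul, coe_mono_smul, coe_mono_frame, coe_mono_smul, coe_mono_frame]
  have hmem : σ.1 i ∈ d ↔ i ∈ c := by
    rw [← h]; exact Finset.smul_mem_smul_finset_iff _
  simp only [Finset.notMem_empty, if_false, signedPerm_single, OneMemClass.coe_one,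
    Equiv.Perm.coe_one, id, hmem]
  by_cases hi : i ∈ c <;> simp [hi]

theorem mono_code_mul {c : Finset GolayPt} (hc : c ∈ code) {d : Finset GolayPt} (hd : d ∈ code)
    (h : symmDiff c d = Finset.univ) : mono 1 hc * mono 1 hd = negOne := by
  refine ext_frame fun i => Subtype.ext ?_
  rw [mul_smul, negOne_smul, coe_mono_smul, coe_mono_frame, signedPerm_single]
  have hi : i ∈ symmDiff c d := h ▸ Finset.mem_univ i
  rw [Finset.mem_symmDiff] at hi
  show (Pi.single i _ : GolayPt → ℤ) = -(Pi.single i 8 : GolayPt → ℤ)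
  rcases hi with ⟨a, b⟩ | ⟨a, b⟩ <;> simp [a, b, Pi.single_neg]

theorem nonsplit : ∃ n : Co0,
    (∀ v : leechLattice, ((n • v : leechLattice) : GolayPt → ℤ) = -(v : GolayPt → ℤ)) ∧
    ∀ K : Subgroup Co0, ¬ (Subgroup.zpowers n).IsComplement' K := by
  refine ⟨negOne, fun v => by rw [negOne_smul]; rfl, fun K hK => ?_⟩
  have hne : negOne ∉ K := fun h => negOne_ne_one
    ((Subgroup.mem_bot).1 (hK.disjoint.le_bot ⟨Subgroup.mem_zpowers _, h⟩))
  have hidx : K.index = 2 := by
    rw [Subgroup.IsComplement'.index_eq_card hK, Nat.card_zpowers]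
    refine orderOf_eq_prime (ext_frame fun i => ?_) negOne_ne_one
    rw [pow_two, mul_smul, negOne_smul, negOne_smul, neg_neg, one_smul]
  let c : Finset GolayPt := Golay.toSet 16375860
  have hc : c ∈ code := Golay.mem_supports_iff.2 ⟨16375860, by decide +kernel, rfl⟩
  have hd : cᶜ ∈ code := compl_mem_code hc
  have hσ : projInv • c = cᶜ := by
    ext p
    rw [← Finset.inv_smul_mem_iff]
    revert p
    decide +kernel
  have e := mono_mul_code ⟨projInv, Golay.projInv_mem⟩ hc hd hσ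
  have e2 := mono_code_mul hc hd (symmDiff_compl_self c)
  set s : Co0 := mono ⟨projInv, Golay.projInv_mem⟩ empty_mem_code
  set a : Co0 := mono 1 hc
  set b : Co0 := mono 1 hd
  have key : ∀ x y : Co0, (x * y ∈ K ↔ (x ∈ K ↔ y ∈ K)) := fun x y =>
    Subgroup.mul_mem_iff_of_index_two hidx
  have hab : a ∈ K ↔ b ∈ K := by
    have h1 := key s a
    rw [e, key b s] at h1
    tauto
  exact hne (e2 ▸ (key a b).2 hab)

end Cfsg.Agent.Leech
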