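import Cfsg.Agent.Lib.Leech.Simplicity

/-!
Co2 acts faithfully on a space of dimension 23 over the field with 13 elements.
-/
set_option autoImplicit false

namespace Cfsg.Agent.Leech

open Cfsg

/-- Reduction modulo 13. -/
def red (x : GolayPt → ℤ) : GolayPt → ZMod 13 := fun i => (x i : ZMod 13)

/-- The linear map of an automorphism modulo 13. -/
noncomputable def linFun (g : Co0) : (GolayPt → ZMod 13) →ₗ[ZMod 13] (GolayPt → ZMod 13) :=
  ∑ j, (LinearMap.proj j).smulRight ((5 : ZMod 13) • red ((g • frame j : leechLattice) : GolayPt → ℤ))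

theorem linFun_apply (g : Co0) (x : GolayPt → ZMod 13) :
    linFun g x = ∑ j, x j • ((5 : ZMod 13) • red ((g • frame j : leechLattice) : GolayPt → ℤ)) := by
  simp only [linFun, LinearMap.sum_apply, LinearMap.smulRight_apply, LinearMap.proj_apply]

theorem linFun_red (g : Co0) (v : leechLattice) :
    linFun g (red (v : GolayPt → ℤ)) = red ((g • v : leechLattice) : GolayPt → ℤ) := by
  funext i
  have h := congrFun (coe_smul_eight g v) i
  simp only [Pi.smul_apply, Finset.sum_apply, smul_eq_mul] at h
  have h' := congrArg (fun z : ℤ => (5 : ZMod 13) * (z : ZMod 13)) h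
  simp only [Int.cast_mul, Int.cast_sum, Int.cast_ofNat, Finset.mul_sum] at h'
  rw [← mul_assoc, show (5 : ZMod 13) * 8 = 1 from rfl, one_mul] at h'
  rw [linFun_apply, red, h']
  simp only [Finset.sum_apply, Pi.smul_apply, smul_eq_mul, red]
  exact Finset.sum_congr rfl fun j _ => by ring

theorem linFun_single (g : Co0) (j : GolayPt) :
    linFun g (Pi.single j 1) = (5 : ZMod 13) • red ((g • frame j : leechLattice) : GolayPt → ℤ) := by
  rw [linFun_apply, Finset.sum_eq_single j]
  · simp
  · intro b _ hb; simp [hb]
  · simp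

attribute [local irreducible] linFun red

theorem linFun_one : linFun 1 = LinearMap.id := by
  refine LinearMap.pi_ext fun j x => ?_
  rw [LinearMap.id_apply, show (Pi.single j x : GolayPt → ZMod 13) = x • Pi.single j 1 by
    rw [← Pi.single_smul, smul_eq_mul, mul_one], map_smul, linFun_single, one_smul]
  congr 1
  funext i
  by_cases h : i = j
  · subst h; unfold red; simp [frame]; rfl
  · unfold red; simp [frame, h]

theorem linFun_mul (g h : Co0) : linFun (g * h) = (linFun g).comp (linFun h) := by
  refine LinearMap.pi_ext fun j x => ?_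
  rw [LinearMap.comp_apply, show (Pi.single j x : GolayPt → ZMod 13) = x • Pi.single j 1 by
    rw [← Pi.single_smul, smul_eq_mul, mul_one], map_smul, map_smul, map_smul, linFun_single,
    linFun_single, map_smul, linFun_red, mul_smul]

/-- The representation modulo 13. -/
noncomputable def linRep : Co0 →* Module.End (ZMod 13) (GolayPt → ZMod 13) where
  toFun := linFun
  map_one' := linFun_one
  map_mul' := linFun_mul

theorem linRep_apply (g : Co0) : linRep g = linFun g := rfl

/-- The line of the fixed vector. -/
noncomputable def line13 : Submodule (ZMod 13) (GolayPt → ZMod 13) :=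
  Submodule.span (ZMod 13) {red Spor.vecU}

theorem facts13 : ((4 : ℤ) : ZMod 13) ≠ 0 ∧ (0 : ZMod 13) ≠ 5 * ((-8 : ℤ) : ZMod 13) - 1 := by
  decide

theorem exists_Co2_GL23 : ∃ f : Spor.Co2 →* GL (Fin 23) (ZMod 13), Function.Injective f := by
  classical
  have : Fact (Nat.Prime 13) := ⟨by norm_num⟩
  let S := MulAction.stabilizer Co0 Spor.leechU
  have hsimple : IsSimpleGroup S := (isCo2_stab sqNorm_std32).1
  let ι : Spor.Co2 →* S :=
    { toFun := fun g => ⟨⟨g.1, g.2.1⟩, g.2.2⟩
      map_one' := rfl
      map_mul' := fun _ _ => rfl }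
  have hι : Function.Injective ι := fun a b h =>
    Subtype.ext (congrArg (fun x : S => ((x : Co0) : Equiv.Perm leechLattice)) h)
  have hfix : ∀ g : S, line13 ≤ line13.comap (linRep g.1) := by
    intro g
    have e : linRep g.1 (red Spor.vecU) = red Spor.vecU := by
      rw [linRep_apply, show Spor.vecU = (Spor.leechU : GolayPt → ℤ) from rfl, linFun_red,
        show g.1 • Spor.leechU = Spor.leechU from g.2]
    rw [line13, Submodule.span_le, Set.singleton_subset_iff, SetLike.mem_coe, Submodule.mem_comap, e]
    exact Submodule.subset_span rfl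
  let q : S →* Module.End (ZMod 13) ((GolayPt → ZMod 13) ⧸ line13) :=
    { toFun := fun g => Submodule.mapQ line13 line13 (linRep g.1) (hfix g)
      map_one' := Submodule.linearMap_qext _ (LinearMap.ext fun x => by
        simp only [LinearMap.comp_apply, Submodule.mkQ_apply, Submodule.mapQ_apply, OneMemClass.coe_one,
          map_one, Module.End.one_apply])
      map_mul' := fun a b => Submodule.linearMap_qext _ (LinearMap.ext fun x => by
        simp only [LinearMap.comp_apply, Submodule.mkQ_apply, Submodule.mapQ_apply, Subgroup.coe_mul,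
          map_mul, Module.End.mul_apply]) }
  have hinj : Function.Injective q := by
    rcases q.normal_ker.eq_bot_or_eq_top with h | h
    · exact (MonoidHom.ker_eq_bot_iff q).1 h
    exfalso
    have hb : ∃ n : ℕ, ∃ i : Fin 24, Golay.inCode n = true ∧ n.testBit i.val = true ∧
        n.testBit 0 = false ∧ n.testBit 23 = false ∧ n < 2 ^ 24 := ⟨4845570, ⟨1, by norm_num⟩, by decide +kernel⟩
    obtain ⟨n, i, hn, hi, hn0, hn23, -⟩ := hb
    have hc : Golay.toSet n ∈ code := Golay.mem_supports_iff.2 ⟨n, hn, rfl⟩
    have hmem : Golay.pt i.val ∈ Golay.toSet n := by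
      rw [Golay.mem_toSet, Golay.idx_pt i.2, hi]
    have hnn : (none : GolayPt) ∉ Golay.toSet n := by
      rw [Golay.mem_toSet, show Golay.idx (none : GolayPt) = 23 from rfl, hn23]; simp
    have hn0' : (some 0 : GolayPt) ∉ Golay.toSet n := by
      rw [Golay.mem_toSet, show Golay.idx (some 0 : GolayPt) = 0 from rfl, hn0]; simp
    generalize Golay.pt i.val = p at hmem
    generalize Golay.toSet n = c at hc hmem hnn hn0'
    have hpn : p ≠ none := fun e => hnn (e ▸ hmem)
    have hp0 : p ≠ some 0 := fun e => hn0' (e ▸ hmem)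
    let y : S := ⟨mono 1 hc, by
      refine Subtype.ext (funext fun k => ?_)
      rw [coe_mono_smul]
      show (if k ∈ c then -Spor.vecU k else Spor.vecU k) = Spor.vecU k
      split_ifs with hk
      · have h1 : k ≠ none := fun e => hnn (e ▸ hk)
        have h2 : k ≠ some 0 := fun e => hn0' (e ▸ hk)
        simp [Spor.vecU, h1, h2]
      · rfl⟩
    have hy : q y = 1 := (MonoidHom.mem_ker).1 (h ▸ Subgroup.mem_top y)
    have e1 := LinearMap.congr_fun hy (Submodule.Quotient.mk (Pi.single p 1))
    simp only [q, MonoidHom.coe_mk, OneHom.coe_mk, Submodule.mapQ_apply, Module.End.one_apply, y,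
      linRep_apply] at e1
    rw [Submodule.Quotient.eq, linFun_single, line13, Submodule.mem_span_singleton] at e1
    obtain ⟨t, ht⟩ := e1
    rw [coe_mono_frame] at ht
    have h1 := congrFun ht none
    have h2 := congrFun ht p
    unfold red at h1 h2
    simp only [Pi.smul_apply, Pi.sub_apply, OneMemClass.coe_one, Equiv.Perm.coe_one, id, hmem,
      if_true, smul_eq_mul, Spor.vecU, Pi.single_eq_same, Pi.single_eq_of_ne hpn.symm, hpn, hp0,
      true_or, or_self, if_false, Int.cast_zero, mul_zero, sub_zero] at h1 h2
    exact facts13.2 h2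
  let W := (GolayPt → ZMod 13) ⧸ line13
  have hrank : Module.finrank (ZMod 13) W = 23 := by
    have h1 := Submodule.finrank_quotient_add_finrank line13
    have hne : red Spor.vecU ≠ 0 := fun e => by
      have e' := congrFun e none
      unfold red at e'
      exact facts13.1 e'
    rw [line13, finrank_span_singleton hne, Module.finrank_fintype_fun_eq_card, card_pt] at h1
    show Module.finrank (ZMod 13) ((GolayPt → ZMod 13) ⧸ line13) = 23
    rw [line13]; omega
  let B : Module.Basis (Fin 23) (ZMod 13) W := Module.finBasisOfFinrankEq (ZMod 13) W hrank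
  let M : S →* Matrix (Fin 23) (Fin 23) (ZMod 13) :=
    (LinearMap.toMatrixAlgEquiv B).toMulEquiv.toMonoidHom.comp q
  refine ⟨M.toHomUnits.comp ι, fun a b h => hι (hinj ?_)⟩
  exact (LinearMap.toMatrixAlgEquiv B).injective (congrArg Units.val h)

end Cfsg.Agent.Leech
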