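import Cfsg.Agent.Lib.Leech.Parity

/-!
Norms and inner products of lattice vectors, sign changes on codewords.
-/
set_option autoImplicit false

namespace Cfsg.Agent.Leech

open Cfsg
open scoped Pointwise

theorem sum_bit (c : Finset GolayPt) : ∑ i, bit c i = (c.card : ℤ) := by
  simp [bit, Finset.sum_ite_mem]

theorem sum_bit_mul (c d : Finset GolayPt) : ∑ i, bit c i * bit d i = ((c ∩ d).card : ℤ) := by
  rw [← sum_bit]
  refine Finset.sum_congr rfl fun i _ => ?_
  by_cases h : i ∈ c <;> by_cases h' : i ∈ d <;> simp [bit, h, h']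

theorem bit_sq (c : Finset GolayPt) (i : GolayPt) : bit c i ^ 2 = bit c i := by
  by_cases h : i ∈ c <;> simp [bit, h]

theorem card_pt : Fintype.card GolayPt = 24 := by decide

/-- Explicit parametrisation. -/
theorem IsLVec.exists_quot {m : ℤ} {c : Finset GolayPt} {x : GolayPt → ℤ} (h : IsLVec m c x) :
    ∃ y : GolayPt → ℤ, (∀ i, x i = m + 2 * bit c i + 4 * y i) ∧
      (2 : ℤ) ∣ (∑ i, x i) / 4 - m ∧ ∑ i, x i = 24 * m + 2 * c.card + 4 * ∑ i, y i := by
  choose y hy using h.1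
  have hx : ∀ i, x i = m + 2 * bit c i + 4 * y i := fun i => by have := hy i; omega
  have hs : ∑ i, x i = 24 * m + 2 * c.card + 4 * ∑ i, y i := by
    simp only [hx, Finset.sum_add_distrib, ← Finset.mul_sum, sum_bit, Finset.sum_const,
      Finset.card_univ, card_pt, nsmul_eq_mul]
    norm_num
  refine ⟨y, hx, ?_, hs⟩
  have := h.2
  omega

/-- The coordinate sum of `y` has the parity of `m`. -/
theorem IsLVec.param {m : ℤ} {c : Finset GolayPt} {x : GolayPt → ℤ} (hc : c ∈ code)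
    (h : IsLVec m c x) :
    ∃ y : GolayPt → ℤ, (∀ i, x i = m + 2 * bit c i + 4 * y i) ∧ (2 : ℤ) ∣ (∑ i, y i) - m := by
  obtain ⟨y, hy, _, hs⟩ := h.exists_quot
  refine ⟨y, hy, ?_⟩
  have := four_dvd_card hc
  have := h.2
  omega

theorem isLVec_of_param {m : ℤ} {c : Finset GolayPt} {x y : GolayPt → ℤ} (hc : c ∈ code)
    (hy : ∀ i, x i = m + 2 * bit c i + 4 * y i) (hp : (2 : ℤ) ∣ (∑ i, y i) - m) :
    IsLVec m c x := by
  refine ⟨fun i => ?_, ?_⟩
  · have := hy i; omega
  · have hs : ∑ i, x i = 24 * m + 2 * c.card + 4 * ∑ i, y i := by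
      simp only [hy, Finset.sum_add_distrib, ← Finset.mul_sum, sum_bit, Finset.sum_const,
        Finset.card_univ, card_pt, nsmul_eq_mul]
      norm_num
    have := four_dvd_card hc
    omega

theorem sixteen_dvd_sqNorm {x : GolayPt → ℤ} (hx : x ∈ leechLattice) :
    (16 : ℤ) ∣ sqNorm x := by
  obtain ⟨m, c, hc, h⟩ := mem_lattice_iff.1 hx
  obtain ⟨y, hy, k, hk⟩ := h.param hc
  obtain ⟨e, he⟩ := four_dvd_card hc
  have hsq : sqNorm x = 24 * m ^ 2 + 4 * (m + 1) * c.card + 8 * m * ∑ i, y i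
      + 16 * ∑ i, (bit c i * y i + y i ^ 2) := by
    have e1 : ∀ i, x i ^ 2 = m ^ 2 + 4 * (m + 1) * bit c i + 8 * m * y i
        + 16 * (bit c i * y i + y i ^ 2) := fun i => by
      rw [hy i]; linear_combination 4 * bit_sq c i
    simp only [sqNorm, e1, Finset.sum_add_distrib, ← Finset.mul_sum, sum_bit, Finset.sum_const,
      Finset.card_univ, card_pt, nsmul_eq_mul]
    norm_num
  refine ⟨2 * m ^ 2 + (m + 1) * e + m * k + ∑ i, (bit c i * y i + y i ^ 2), ?_⟩
  rw [hsq, he]
  push_cast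
  linear_combination (8 * m) * hk

theorem sqNorm_add (x y : GolayPt → ℤ) : sqNorm (x + y) = sqNorm x + 2 * dotInt x y + sqNorm y := by
  simp only [sqNorm, dotInt, Finset.mul_sum, ← Finset.sum_add_distrib, Pi.add_apply]
  exact Finset.sum_congr rfl fun i _ => by ring

theorem sqNorm_sub (x y : GolayPt → ℤ) : sqNorm (x - y) = sqNorm x - 2 * dotInt x y + sqNorm y := by
  simp only [sqNorm, dotInt, Finset.mul_sum, ← Finset.sum_add_distrib, ← Finset.sum_sub_distrib,
    Pi.sub_apply]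
  exact Finset.sum_congr rfl fun i _ => by ring

theorem sqNorm_nonneg (x : GolayPt → ℤ) : 0 ≤ sqNorm x :=
  Finset.sum_nonneg fun i _ => sq_nonneg (x i)

theorem sqNorm_eq_zero {x : GolayPt → ℤ} : sqNorm x = 0 ↔ x = 0 := by
  constructor
  · intro h
    funext i
    have := (Finset.sum_eq_zero_iff_of_nonneg fun i _ => sq_nonneg (x i)).1 h i (Finset.mem_univ i)
    simpa using this
  · rintro rfl; simp [sqNorm]

theorem sqNorm_neg (x : GolayPt → ℤ) : sqNorm (-x) = sqNorm x := by simp [sqNorm]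

theorem sqNorm_two_nsmul (x : GolayPt → ℤ) : sqNorm (2 • x) = 4 * sqNorm x := by
  simp only [sqNorm, Finset.mul_sum, Pi.smul_apply, nsmul_eq_mul]
  exact Finset.sum_congr rfl fun i _ => by push_cast; ring

theorem dotInt_comm (x y : GolayPt → ℤ) : dotInt x y = dotInt y x := by
  simp only [dotInt, mul_comm]

theorem dotInt_self (x : GolayPt → ℤ) : dotInt x x = sqNorm x := by
  simp only [dotInt, sqNorm, pow_two]

theorem eight_dvd_dotInt {x y : GolayPt → ℤ} (hx : x ∈ leechLattice) (hy : y ∈ leechLattice) :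
    (8 : ℤ) ∣ dotInt x y := by
  have h1 := sixteen_dvd_sqNorm hx
  have h2 := sixteen_dvd_sqNorm hy
  have h3 := sixteen_dvd_sqNorm (add_mem hx hy)
  rw [sqNorm_add] at h3
  omega

theorem dotInt_sq_le (x y : GolayPt → ℤ) : dotInt x y ^ 2 ≤ sqNorm x * sqNorm y :=
  Finset.sum_mul_sq_le_sq_mul_sq Finset.univ x y

/-- Changing the signs on a codeword preserves the lattice. -/
theorem flip_mem_lattice {d : Finset GolayPt} (hd : d ∈ code) {x : GolayPt → ℤ}
    (hx : x ∈ leechLattice) : (fun i => if i ∈ d then -x i else x i) ∈ leechLattice := by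
  obtain ⟨m, hm, c, hc, h⟩ := exists_normal_form hx
  obtain ⟨y, hy, hp⟩ := h.param hc
  have hsum : ∑ i, (if i ∈ d then -x i else x i) = ∑ i, x i - 2 * ∑ i ∈ d, x i := by
    have e : ∀ i, (if i ∈ d then -x i else x i) = x i - 2 * (if i ∈ d then x i else 0) := by
      intro i; split_ifs <;> ring
    simp [e, Finset.sum_sub_distrib, ← Finset.mul_sum, Finset.sum_ite_mem]
  have hsd : (4 : ℤ) ∣ ∑ i ∈ d, x i := by
    obtain ⟨e, he⟩ := four_dvd_card hd
    obtain ⟨f, hf⟩ := even_inter hd hc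
    have e2 : ∑ i ∈ d, bit c i = ((d ∩ c).card : ℤ) := by simp [bit, Finset.sum_ite_mem]
    refine ⟨m * e + f + ∑ i ∈ d, y i, ?_⟩
    simp only [hy, Finset.sum_add_distrib, ← Finset.mul_sum, e2, Finset.sum_const, nsmul_eq_mul,
      he, hf]
    push_cast; ring
  have h8 := h.2
  rcases hm with rfl | rfl
  · refine mem_lattice_iff.2 ⟨0, c, hc, fun i => ?_, by rw [hsum]; omega⟩
    have := h.1 i
    simp only [bit] at this ⊢
    split_ifs at this ⊢ <;> omega
  · refine mem_lattice_iff.2 ⟨1, symmDiff c d, symmDiff_mem_code hc hd, fun i => ?_,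
      by rw [hsum]; omega⟩
    have := h.1 i
    simp only [bit, Finset.mem_symmDiff] at this ⊢
    by_cases h1 : i ∈ c <;> by_cases h2 : i ∈ d <;> simp [h1, h2] at this ⊢ <;> omega

end Cfsg.Agent.Leech
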