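import Cfsg.Agent.Lib.Leech.Basic

/-!
Double evenness and self-orthogonality of the code, from its spanning set.
-/
set_option autoImplicit false

namespace Cfsg.Agent.Leech

open Cfsg
open scoped Pointwise

theorem qrWord_parity : ∀ s t : ZMod 23, ∑ i, qrWord s i * qrWord t i = 0 := by decide +kernel

theorem qrWord_parity_one : ∀ s : ZMod 23, ∑ i, qrWord s i = 0 := by decide +kernel

theorem qrWord_card : ∀ s : ZMod 23, (support₂ (qrWord s)).card % 4 = 0 := by decide +kernel

theorem code_dot {u v : GolayPt → ZMod 2} (hu : u ∈ golayCode) (hv : v ∈ golayCode) :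
    ∑ i, u i * v i = 0 := by
  have gen : ∀ a ∈ Set.range qrWord ∪ ({1} : Set (GolayPt → ZMod 2)),
      ∀ b ∈ Set.range qrWord ∪ ({1} : Set (GolayPt → ZMod 2)), ∑ i, a i * b i = 0 := by
    rintro a (⟨s, rfl⟩ | rfl) b (⟨t, rfl⟩ | rfl)
    · exact qrWord_parity s t
    · simp [qrWord_parity_one s]
    · simp [qrWord_parity_one t]
    · simp; decide
  induction hu, hv using Submodule.span_induction₂ with
  | mem_mem x y hx hy => exact gen x hx y hy
  | zero_left => simp
  | zero_right => simp
  | add_left x y z _ _ _ h1 h2 => simp [add_mul, Finset.sum_add_distrib, h1, h2]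
  | add_right x y z _ _ _ h1 h2 => simp [mul_add, Finset.sum_add_distrib, h1, h2]
  | smul_left r x y _ _ h => simp [mul_assoc, ← Finset.mul_sum, h]
  | smul_right r x y _ _ h => simp [mul_left_comm, ← Finset.mul_sum, h]

theorem even_inter {c d : Finset GolayPt} (hc : c ∈ code) (hd : d ∈ code) :
    2 ∣ (c ∩ d).card := by
  obtain ⟨u, hu, rfl⟩ := hc
  obtain ⟨v, hv, rfl⟩ := hd
  have h : ∀ i, u i * v i = if i ∈ support₂ u ∩ support₂ v then 1 else 0 := by
    intro i
    rcases zmod2_cases (u i) with h | h <;> rcases zmod2_cases (v i) with h' | h' <;>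
      simp [support₂, h, h']
  have h2 := code_dot hu hv
  simp only [h, Finset.sum_boole] at h2
  rw [Finset.filter_mem_eq_inter, Finset.univ_inter] at h2
  exact (ZMod.natCast_eq_zero_iff _ _).1 h2

theorem card_symmDiff (c d : Finset GolayPt) :
    (symmDiff c d).card + 2 * (c ∩ d).card = c.card + d.card := by
  have h1 : symmDiff c d = (c ∪ d) \ (c ∩ d) := symmDiff_eq_sup_sdiff_inf c d
  have h2 : (c ∩ d) ⊆ c ∪ d := fun i hi => Finset.mem_union_left _ (Finset.mem_inter.1 hi).1
  have h3 := Finset.card_union_add_card_inter c d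
  have h4 := Finset.card_sdiff_add_card_eq_card h2
  rw [h1]; omega

theorem four_dvd_card {c : Finset GolayPt} (hc : c ∈ code) : 4 ∣ c.card := by
  obtain ⟨u, hu, rfl⟩ := hc
  induction hu using Submodule.span_induction with
  | mem x hx =>
    rcases hx with ⟨s, rfl⟩ | rfl
    · exact Nat.dvd_of_mod_eq_zero (qrWord_card s)
    · simp [support₂]
  | zero => simp [support₂]
  | add x y hx hy h1 h2 =>
    have e : support₂ (x + y) = symmDiff (support₂ x) (support₂ y) := by
      ext p
      rcases zmod2_cases (x p) with h | h <;> rcases zmod2_cases (y p) with h' | h' <;>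
        simp [support₂, Finset.mem_symmDiff, h, h'] <;> decide
    have h3 := even_inter ⟨x, hx, rfl⟩ ⟨y, hy, rfl⟩
    have h4 := card_symmDiff (support₂ x) (support₂ y)
    rw [e]; omega
  | smul r x _ h =>
    rcases zmod2_cases r with rfl | rfl
    · simp [support₂]
    · simpa using h

end Cfsg.Agent.Leech
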